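import Cfsg.Agent.OddBase.Decomp
import Cfsg.Agent.OddBase.Semilinear

/-!
Systems of imprimitivity of an irreducible module: components, transport, and the vectors
attached to functions on the blocks.
-/

set_option autoImplicit false
set_option linter.unusedSectionVars false
set_option linter.style.haveILetI false

namespace Cfsg.Lib.DerBound

open Cfsg.Lib.OddBase

universe u

/-- A transitive system of imprimitivity, given by idempotents. -/
structure Sys (A V : Type u) [Group A] [AddCommGroup V] [DistribMulAction A V] where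
  Ω : Type u
  act : MulAction A Ω
  fin : Fintype Ω
  nt : Nontrivial Ω
  prim : @MulAction.IsPreprimitive A Ω act.toSMul
  E : Ω → AddMonoid.End V
  hid : ∀ e, E e * E e = E e
  horth : ∀ e f, e ≠ f → E e * E f = 0
  hsum : ∑ e, E e = 1
  hne : ∀ e, E e ≠ 0
  heq : ∀ (g : A) (e : Ω) (x : V), g • E e x = E (g • e) (g • x)

attribute [instance] Sys.act Sys.fin Sys.nt Sys.prim

variable {A V : Type u} [Group A] [Finite A] [AddCommGroup V] [Finite V] [DistribMulAction A V]

/-- An idempotent other than `0` and `1` in the algebra gives a primitive system. -/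
theorem exists_sys [FaithfulSMul A V] (hirr : Irr A V) (Z : Subgroup A) [Z.Normal] [IsMulCommutative Z]
    (e₀ : AddMonoid.End V) (he₀ : e₀ ∈ alg A V Z) (hid : e₀ * e₀ = e₀) (h0 : e₀ ≠ 0) (h1 : e₀ ≠ 1) :
    Nonempty (Sys A V) := by
  classical
  haveI : Finite (AddMonoid.End V) :=
    Finite.of_injective (fun f : AddMonoid.End V => (f : V → V)) DFunLike.coe_injective
  haveI := Fintype.ofFinite (AddMonoid.End V)
  haveI := Fintype.ofFinite V
  let Idem : AddMonoid.End V → Prop := fun e => e ∈ alg A V Z ∧ e * e = e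
  let Atom : AddMonoid.End V → Prop := fun e =>
    Idem e ∧ e ≠ 0 ∧ ∀ f, Idem f → f * e = 0 ∨ f * e = e
  have hmul : ∀ e f, Idem e → Idem f → Idem (e * f) := fun e f he hf => ⟨mul_mem he.1 hf.1, by
    have hc := alg_comm hf.1 he.1
    calc e * f * (e * f) = e * (f * e) * f := by simp only [mul_assoc]
      _ = e * (e * f) * f := by rw [hc]
      _ = (e * e) * (f * f) := by simp only [mul_assoc]
      _ = e * f := by rw [he.2, hf.2]⟩
  have hbelow : ∀ n e, Nat.card (Set.range (e : AddMonoid.End V)) ≤ n → Idem e → e ≠ 0 →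
      ∃ a, Atom a ∧ a * e = a := by
    intro n
    induction n using Nat.strong_induction_on with
    | _ n ih =>
      intro e hn he hne
      by_cases hat : ∀ f, Idem f → f * e = 0 ∨ f * e = e
      · exact ⟨e, ⟨he, hne, hat⟩, he.2⟩
      push Not at hat
      obtain ⟨f, hf, hfe0, hfe⟩ := hat
      have hlt : Nat.card (Set.range (f * e : AddMonoid.End V)) < Nat.card (Set.range (e : AddMonoid.End V)) := by
        rw [Nat.card_coe_set_eq, Nat.card_coe_set_eq]
        refine Set.ncard_lt_ncard ⟨?_, ?_⟩
        · rintro _ ⟨x, rfl⟩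
          exact ⟨f x, by
            rw [show f * e = e * f from alg_comm hf.1 he.1]; rfl⟩
        · intro hsub
          apply hfe
          ext x
          obtain ⟨y, hy⟩ := hsub ⟨x, rfl⟩
          have h3 := (hmul f e hf he).2
          have : (f * e) (e x) = e x := by
            rw [← hy]
            exact DFunLike.congr_fun h3 y
          calc (f * e) x = (f * (e * e)) x := by rw [he.2]
            _ = (f * e) (e x) := rfl
            _ = e x := this
      obtain ⟨a, ha, hae⟩ := ih _ (lt_of_lt_of_le hlt hn) (f * e) le_rfl (hmul f e hf he) hfe0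
      refine ⟨a, ha, ?_⟩
      calc a * e = a * (f * e) * e := by rw [hae]
        _ = a * (f * (e * e)) := by simp only [mul_assoc]
        _ = a := by rw [he.2, hae]
  obtain ⟨a₀, ha₀, -⟩ := hbelow _ e₀ le_rfl ⟨he₀, hid⟩ h0
  let cj : A → AddMonoid.End V → AddMonoid.End V := fun g e => act A V g * e * act A V g⁻¹
  have hcjm : ∀ g h e, cj (g * h) e = cj g (cj h e) := fun g h e => by
    simp only [cj, mul_inv_rev, map_mul, mul_assoc]
  have hcj1 : ∀ e, cj 1 e = e := fun e => by simp only [cj, inv_one, map_one, mul_one, one_mul]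
  have hcjmul : ∀ g e f, cj g (e * f) = cj g e * cj g f := by
    intro g e f
    have hinv : act A V g⁻¹ * act A V g = 1 := by rw [← map_mul, inv_mul_cancel, map_one]
    simp only [cj, mul_assoc]
    rw [← mul_assoc (act A V g⁻¹) (act A V g), hinv, one_mul]
  have hcjI : ∀ g e, Idem e → Idem (cj g e) := fun g e he =>
    ⟨alg_conj g he.1, by rw [← hcjmul, he.2]⟩
  have hcjA : ∀ g e, Atom e → Atom (cj g e) := by
    intro g e he
    refine ⟨hcjI g e he.1, fun h => he.2.1 ?_, fun f hf => ?_⟩
    · have := congrArg (cj g⁻¹) h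
      rw [← hcjm, inv_mul_cancel, hcj1] at this
      rw [this]; simp only [cj, mul_zero, zero_mul]
    · have hfg : cj g (cj g⁻¹ f) = f := by rw [← hcjm, mul_inv_cancel, hcj1]
      rcases he.2.2 _ (hcjI g⁻¹ f hf) with h | h
      · left; rw [← hfg, ← hcjmul, h]; simp only [cj, mul_zero, zero_mul]
      · right; rw [← hfg, ← hcjmul, h]
  -- the blocks
  let Bl : Type u := {e : AddMonoid.End V // Atom e}
  letI : MulAction A Bl :=
    { smul := fun g e => ⟨cj g e.1, hcjA g e.1 e.2⟩
      one_smul := fun e => Subtype.ext (hcj1 e.1)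
      mul_smul := fun g h e => Subtype.ext (hcjm g h e.1) }
  haveI := Fintype.ofFinite Bl
  have horth : ∀ e f : Bl, e ≠ f → e.1 * f.1 = 0 := by
    intro e f hne
    rcases f.2.2.2 e.1 e.2.1 with h | h
    · exact h
    rcases e.2.2.2 f.1 f.2.1 with h' | h'
    · rw [alg_comm e.2.1.1 f.2.1.1, h']
    · exact absurd (Subtype.ext (by rw [← h', alg_comm f.2.1.1 e.2.1.1, h])) hne
  let S : Finset Bl → AddMonoid.End V := fun s => ∑ e ∈ s, e.1
  have hSmul : ∀ (s : Finset Bl) (e : Bl), S s * e.1 = if e ∈ s then e.1 else 0 := by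
    intro s e
    rw [Finset.sum_mul]
    rw [Finset.sum_congr rfl (g := fun f => if f = e then e.1 else 0) ?_]
    · rw [Finset.sum_ite_eq']
    · intro f _
      by_cases h : f = e
      · rw [if_pos h, h]; exact e.2.1.2
      · rw [if_neg h]; exact horth f e h
  have hSid : ∀ s, Idem (S s) := fun s => ⟨sum_mem fun e _ => e.2.1.1, by
    change S s * (∑ e ∈ s, e.1) = _
    rw [Finset.mul_sum]
    exact Finset.sum_congr rfl fun e he => by rw [hSmul, if_pos he]⟩
  have hsum1 : S Finset.univ = 1 := by
    by_contra hne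
    have hI : Idem (1 - S Finset.univ) := ⟨sub_mem (one_mem _) (hSid _).1, by
      rw [mul_sub, sub_mul, one_mul, sub_mul, one_mul, (hSid _).2, mul_one, sub_self, sub_zero]⟩
    obtain ⟨a, ha, hae⟩ := hbelow _ _ le_rfl hI (sub_ne_zero.2 fun h => hne h.symm)
    apply ha.2.1
    rw [← hae, alg_comm ha.1.1 hI.1, sub_mul, one_mul, hSmul _ ⟨a, ha⟩, if_pos (Finset.mem_univ _),
      sub_self]
  haveI : MulAction.IsPretransitive A Bl := by
    let O : Finset Bl := Finset.univ.filter fun e => e ∈ MulAction.orbit A (⟨a₀, ha₀⟩ : Bl)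
    have hO : ∀ g : A, cj g (S O) = S O := by
      intro g
      simp only [cj, S, Finset.mul_sum, Finset.sum_mul]
      refine Finset.sum_equiv (MulAction.toPerm g) (fun e => ?_) (fun e _ => rfl)
      simp only [O, Finset.mem_filter, Finset.mem_univ, true_and, MulAction.toPerm_apply]
      rw [← MulAction.orbit_eq_iff, ← MulAction.orbit_eq_iff, MulAction.orbit_smul]
    let U : AddSubgroup V := (S O).range
    have hU : U = ⊤ := by
      refine (hirr U ?_).resolve_left fun h => ?_
      · rintro g _ ⟨x, rfl⟩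
        refine ⟨g • x, ?_⟩
        conv_lhs => rw [← hO g]
        change act A V g (S O (act A V g⁻¹ (g • x))) = g • S O x
        rw [act_apply, act_apply, inv_smul_smul]
      · apply ha₀.2.1
        ext x
        have h2 : S O * a₀ = a₀ := by
          rw [hSmul O ⟨a₀, ha₀⟩, if_pos (by simp [O])]
        have hx : a₀ x ∈ U := ⟨a₀ x, DFunLike.congr_fun h2 x⟩
        rw [h, AddSubgroup.mem_bot] at hx
        exact hx
    have hSO : S O = 1 := by
      ext x
      obtain ⟨y, rfl⟩ := (show x ∈ U from hU ▸ AddSubgroup.mem_top x)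
      exact DFunLike.congr_fun (hSid O).2 y
    rw [MulAction.isPretransitive_iff_base (⟨a₀, ha₀⟩ : Bl)]
    intro e
    have h2 := hSmul O e
    rw [hSO, one_mul] at h2
    by_cases he : e ∈ O
    · exact (Finset.mem_filter.1 he).2
    · rw [if_neg he] at h2; exact absurd h2 e.2.2.1
  let b₀ : Bl := ⟨a₀, ha₀⟩
  have hbl2 : ∃ e : Bl, e ≠ b₀ := by
    by_contra h
    push Not at h
    have hall : ∀ e : Bl, S Finset.univ = e.1 := fun e => by
      refine Finset.sum_eq_single e (fun f _ hf => absurd ((h f).trans (h e).symm) hf) (by simp)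
    rcases b₀.2.2.2 e₀ ⟨he₀, hid⟩ with h2 | h2 <;> rw [← hall b₀, hsum1, mul_one] at h2
    · exact h0 h2
    · exact h1 h2
  -- coarsen to a primitive system
  have hstab : MulAction.stabilizer A b₀ ≠ ⊤ := by
    intro h
    obtain ⟨e, he⟩ := hbl2
    obtain ⟨g, hg⟩ := MulAction.exists_smul_eq A b₀ e
    exact he (hg ▸ MulAction.mem_stabilizer_iff.1 (h ▸ Subgroup.mem_top g))
  obtain ⟨M, hM, hle⟩ := (eq_top_or_exists_le_coatom (MulAction.stabilizer A b₀)).resolve_left hstab
  have hg : ∀ e : Bl, ∃ g : A, g • b₀ = e := MulAction.exists_smul_eq A b₀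
  choose gg hgg using hg
  let π : Bl → A ⧸ M := fun e => QuotientGroup.mk (gg e)
  have hπ : ∀ (g : A) (e : Bl), π (g • e) = g • π e := by
    intro g e
    change (QuotientGroup.mk (gg (g • e)) : A ⧸ M) = QuotientGroup.mk (g * gg e)
    rw [QuotientGroup.eq]
    apply hle
    rw [MulAction.mem_stabilizer_iff, mul_smul, mul_smul, hgg, inv_smul_eq_iff, hgg]
  haveI : Nontrivial (A ⧸ M) := by
    rw [← Finite.one_lt_card_iff_nontrivial, ← Subgroup.index_eq_card]
    exact Subgroup.one_lt_index_of_ne_top hM.1
  haveI := Fintype.ofFinite (A ⧸ M)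
  have hprim : MulAction.IsPreprimitive A (A ⧸ M) :=
    (MulAction.isCoatom_stabilizer_iff_preprimitive A (QuotientGroup.mk (1 : A) : A ⧸ M)).1
      (by rw [MulAction.stabilizer_quotient]; exact hM)
  have hfib : ∀ q : A ⧸ M, S (Finset.univ.filter fun e => π e = q) ≠ 0 := by
    intro q h
    obtain ⟨g, rfl⟩ := QuotientGroup.mk_surjective q
    have hmem : π (g • b₀) = QuotientGroup.mk g := by
      change (QuotientGroup.mk (gg (g • b₀)) : A ⧸ M) = QuotientGroup.mk g
      rw [QuotientGroup.eq]
      apply hle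
      rw [MulAction.mem_stabilizer_iff, mul_smul, inv_smul_eq_iff, hgg]
    have h2 := hSmul (Finset.univ.filter fun e => π e = QuotientGroup.mk g) (g • b₀)
    have hin : g • b₀ ∈ Finset.univ.filter fun e => π e = QuotientGroup.mk g := by simp [hmem]
    rw [h, zero_mul, if_pos hin] at h2
    exact (g • b₀).2.2.1 h2.symm
  refine ⟨{ Ω := A ⧸ M, act := inferInstance, fin := inferInstance, nt := inferInstance,
            prim := hprim, E := fun q => S (Finset.univ.filter fun e => π e = q),
            hid := fun q => (hSid _).2, horth := fun q q' hqq => ?_, hsum := ?_, hne := hfib,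
            heq := fun g q x => ?_ }⟩
  · change S _ * (∑ e ∈ (_ : Finset Bl), e.1) = 0
    rw [Finset.mul_sum]
    refine Finset.sum_eq_zero fun e he => ?_
    rw [hSmul, if_neg]
    intro he'
    exact hqq ((Finset.mem_filter.1 he').2.symm.trans (Finset.mem_filter.1 he).2)
  · rw [← hsum1]
    exact Finset.sum_fiberwise Finset.univ π fun e => e.1
  · change g • (∑ e ∈ (_ : Finset Bl), e.1) x = (∑ e ∈ (_ : Finset Bl), e.1) (g • x)
    refine (congrArg (g • ·) (AddMonoidHom.finsetSum_apply (fun e : Bl => e.1) _ _)).trans ?_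
    refine Eq.trans ?_ (AddMonoidHom.finsetSum_apply (fun e : Bl => e.1) _ _).symm
    rw [Finset.smul_sum]
    refine Finset.sum_equiv (MulAction.toPerm g) (fun e => ?_) (fun e _ => ?_)
    · simp only [Finset.mem_filter, Finset.mem_univ, true_and, MulAction.toPerm_apply, hπ]
      exact (MulAction.injective g).eq_iff.symm
    · change g • e.1 x = act A V g (e.1 (act A V g⁻¹ (g • x)))
      rw [act_apply, act_apply, inv_smul_smul]

namespace Sys

variable (S : Sys A V)

theorem component (g : A) (e : S.Ω) (x : V) (hx : S.E e x = x) :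
    S.E (g • e) (g • x) = g • x := by
  rw [← S.heq, hx]

/-- The base block. -/
noncomputable def base : S.Ω := (exists_pair_ne S.Ω).choose

/-- The component of the base block. -/
noncomputable def W : AddSubgroup V where
  carrier := {x | S.E S.base x = x}
  zero_mem' := map_zero (S.E S.base)
  add_mem' := fun {x y} hx hy => by
    change S.E S.base (x + y) = x + y
    rw [map_add, hx, hy]
  neg_mem' := fun {x} hx => by
    change S.E S.base (-x) = -x
    rw [map_neg, hx]

/-- The stabiliser of the base block. -/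
noncomputable def H : Subgroup A := MulAction.stabilizer A S.base

noncomputable instance : DistribMulAction S.H S.W where
  smul h x := ⟨(h : A) • (x : V), by
    have := S.component h S.base x x.2
    rw [MulAction.mem_stabilizer_iff.1 h.2] at this
    exact this⟩
  one_smul x := Subtype.ext (one_smul A (x : V))
  mul_smul g h x := Subtype.ext (mul_smul (g : A) (h : A) (x : V))
  smul_zero g := Subtype.ext (smul_zero (g : A))
  smul_add g x y := Subtype.ext (smul_add (g : A) (x : V) (y : V))

theorem coe_smul (h : S.H) (x : S.W) : ((h • x : S.W) : V) = (h : A) • (x : V) := rfl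

theorem nontrivial_W : Nontrivial S.W := by
  rw [AddSubgroup.nontrivial_iff_ne_bot]
  intro h
  apply S.hne S.base
  ext x
  have hx : S.E S.base x ∈ S.W := DFunLike.congr_fun (S.hid S.base) x
  rw [h, AddSubgroup.mem_bot] at hx
  exact hx

theorem transitive : MulAction.IsPretransitive A S.Ω := inferInstance

theorem card_H_lt : Nat.card S.H < Nat.card A := by
  obtain ⟨b, hb⟩ := exists_ne S.base
  obtain ⟨g, hg⟩ := MulAction.exists_smul_eq A S.base b
  refine lt_of_le_of_ne S.H.card_le_card_group fun h => hb ?_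
  rw [← hg]
  refine MulAction.mem_stabilizer_iff.1 ?_
  change g ∈ S.H
  rw [Subgroup.eq_top_of_card_eq S.H h]
  trivial

theorem irr_W (hirr : Irr A V) : Irr S.H S.W := by
  intro U hU
  by_cases hUb : U = ⊥
  · exact Or.inl hUb
  right
  let U' : AddSubgroup V := AddSubgroup.closure {x : V | ∃ g : A, ∃ u ∈ U, x = g • (u : V)}
  have hU' : U' = ⊤ := by
    refine (hirr U' ?_).resolve_left fun h => hUb ?_
    · intro g x hx
      induction hx using AddSubgroup.closure_induction with
      | mem y hy =>
        obtain ⟨g', w, hw, rfl⟩ := hy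
        exact AddSubgroup.subset_closure ⟨g * g', w, hw, (mul_smul g g' (w : V)).symm⟩
      | zero => rw [smul_zero]; exact zero_mem _
      | add y z _ _ hy hz => rw [smul_add]; exact add_mem hy hz
      | neg y _ hy => rw [smul_neg]; exact neg_mem hy
    · rw [eq_bot_iff]
      intro w hw
      have hx : (w : V) ∈ U' := AddSubgroup.subset_closure ⟨1, w, hw, (one_smul A _).symm⟩
      rw [h, AddSubgroup.mem_bot] at hx
      exact AddSubgroup.mem_bot.2 (Subtype.ext hx)
  rw [eq_top_iff]
  intro w _
  have hproj : ∀ x ∈ U', ∃ u ∈ U, S.E S.base x = (u : V) := by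
    intro x hx
    induction hx using AddSubgroup.closure_induction with
    | mem y hy =>
      obtain ⟨g, w, hw, rfl⟩ := hy
      by_cases hg : g • S.base = S.base
      · refine ⟨(⟨g, MulAction.mem_stabilizer_iff.2 hg⟩ : S.H) • w, hU _ w hw, ?_⟩
        exact ((⟨g, MulAction.mem_stabilizer_iff.2 hg⟩ : S.H) • w).2
      · refine ⟨0, zero_mem U, ?_⟩
        rw [← S.component g S.base (w : V) w.2]
        exact DFunLike.congr_fun (S.horth S.base (g • S.base) fun h => hg h.symm) _
    | zero => exact ⟨0, zero_mem U, by simp⟩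
    | add y z _ _ hy hz =>
      obtain ⟨u, hu, hu'⟩ := hy
      obtain ⟨v, hv, hv'⟩ := hz
      exact ⟨u + v, add_mem hu hv, by rw [map_add, hu', hv']; rfl⟩
    | neg y _ hy =>
      obtain ⟨u, hu, hu'⟩ := hy
      exact ⟨-u, neg_mem hu, by rw [map_neg, hu']; rfl⟩
  obtain ⟨v, hv, hv'⟩ := hproj w (hU' ▸ AddSubgroup.mem_top _)
  have : v = w := Subtype.ext (by rw [← hv']; exact w.2)
  exact this ▸ hv

/-- An element taking the base block to a given block. -/
noncomputable def gg (e : S.Ω) : A := (MulAction.exists_smul_eq A S.base e).choose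

theorem gg_smul (e : S.Ω) : S.gg e • S.base = e := (MulAction.exists_smul_eq A S.base e).choose_spec

/-- The vector attached to a choice of component in each block. -/
noncomputable def vec (z : S.Ω → S.W) : V := ∑ e, S.gg e • (z e : V)

theorem proj_vec (z : S.Ω → S.W) (e : S.Ω) : S.E e (S.vec z) = S.gg e • (z e : V) := by
  rw [vec, map_sum, Finset.sum_eq_single e]
  · have := S.component (S.gg e) S.base (z e : V) (z e).2
    rw [S.gg_smul] at this
    exact this
  · intro f _ hf
    have h2 := S.component (S.gg f) S.base (z f : V) (z f).2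
    rw [S.gg_smul] at h2
    rw [← h2]
    exact DFunLike.congr_fun (S.horth e f fun h => hf h.symm) _
  · simp

theorem loc_mem (a : A) (e : S.Ω) : (S.gg (a • e))⁻¹ * a * S.gg e ∈ S.H := by
  rw [H, MulAction.mem_stabilizer_iff, mul_smul, mul_smul, S.gg_smul, inv_smul_eq_iff, S.gg_smul]

/-- The element of the block stabiliser attached to an element and a block. -/
noncomputable def loc (a : A) (e : S.Ω) : S.H := ⟨_, S.loc_mem a e⟩

theorem loc_smul_of_smul_vec (a : A) (z z' : S.Ω → S.W) (h : a • S.vec z = S.vec z') (e : S.Ω) :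
    S.loc a e • z e = z' (a • e) := by
  apply Subtype.ext
  change ((S.gg (a • e))⁻¹ * a * S.gg e) • (z e : V) = _
  rw [mul_smul, mul_smul, inv_smul_eq_iff, ← S.proj_vec z' (a • e), ← S.proj_vec z e, S.heq, h]

theorem vec_injective : Function.Injective S.vec := by
  intro z z' h
  funext e
  have := congrArg (S.E e) h
  rw [S.proj_vec, S.proj_vec] at this
  exact Subtype.ext (smul_left_cancel _ this)

theorem smul_eq_self_of_blocks (a : A) (hfix : ∀ e : S.Ω, a • e = e)
    (hloc : ∀ (e : S.Ω) (w : S.W), S.loc a e • w = w) (x : V) : a • x = x := by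
  have hz : x = ∑ e : S.Ω, S.E e x := by
    conv_lhs => rw [show x = (∑ e : S.Ω, S.E e) x by rw [S.hsum]; rfl]
    exact AddMonoidHom.finsetSum_apply _ _ _
  rw [hz, Finset.smul_sum]
  refine Finset.sum_congr rfl fun e _ => ?_
  have h5 : (S.gg e)⁻¹ • S.E e x ∈ S.W := by
    have h6 := S.component (S.gg e)⁻¹ e (S.E e x) (DFunLike.congr_fun (S.hid e) x)
    rw [show (S.gg e)⁻¹ • e = S.base by rw [inv_smul_eq_iff, S.gg_smul]] at h6
    exact h6
  have h7 := congrArg Subtype.val (hloc e ⟨_, h5⟩)
  change ((S.gg (a • e))⁻¹ * a * S.gg e) • ((S.gg e)⁻¹ • S.E e x) = (S.gg e)⁻¹ • S.E e x at h7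
  rw [mul_smul, mul_smul, hfix e, smul_inv_smul] at h7
  exact smul_left_cancel _ h7

theorem loc_mul (a b : A) (e : S.Ω) : S.loc (a * b) e = S.loc a (b • e) * S.loc b e := by
  apply Subtype.ext
  change (S.gg ((a * b) • e))⁻¹ * (a * b) * S.gg e =
    (S.gg (a • b • e))⁻¹ * a * S.gg (b • e) * ((S.gg (b • e))⁻¹ * b * S.gg e)
  rw [mul_smul]
  group

end Sys

end Cfsg.Lib.DerBound
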