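import Mathlib

/-!
The numerical conditions for five orbits with short stabilisers.
-/

set_option autoImplicit false

namespace Cfsg.Lib.DerBound

theorem growth_three : ∀ r : ℕ, 27 ≤ r → 3 * r ^ 8 ≤ 3 ^ (r - 2) := by
  intro r hr
  induction r, hr using Nat.le_induction with
  | base => norm_num
  | succ n hn ih =>
    have h1 : 27 ^ 8 * (n + 1) ^ 8 ≤ 28 ^ 8 * n ^ 8 := by
      rw [← mul_pow, ← mul_pow]; exact Nat.pow_le_pow_left (by omega) 8
    have h2 : 28 ^ 8 * n ^ 8 ≤ 3 * 27 ^ 8 * n ^ 8 := Nat.mul_le_mul_right _ (by norm_num)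
    rw [show n + 1 - 2 = (n - 2) + 1 by omega, pow_succ 3]
    omega

theorem growth_four : ∀ k : ℕ, 64 ≤ k → 6 * (4 * k + 3) ^ 8 ≤ 3 ^ (k - 1) := by
  intro k hk
  induction k, hk using Nat.le_induction with
  | base => norm_num
  | succ n hn ih =>
    have h1 : (4 * 64 + 3) ^ 8 * (4 * (n + 1) + 3) ^ 8 ≤ (4 * 65 + 3) ^ 8 * (4 * n + 3) ^ 8 := by
      rw [← mul_pow, ← mul_pow]; exact Nat.pow_le_pow_left (by omega) 8
    have h2 : (4 * 65 + 3) ^ 8 * (4 * n + 3) ^ 8 ≤ 3 * (4 * 64 + 3) ^ 8 * (4 * n + 3) ^ 8 :=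
      Nat.mul_le_mul_right _ (by norm_num)
    rw [show n + 1 - 1 = (n - 1) + 1 by omega, pow_succ 3]
    omega

theorem growth_half : ∀ k : ℕ, 8 ≤ k → 6 * (2 * k + 1) ^ 2 ≤ 3 ^ (k - 1) := by
  intro k hk
  induction k, hk using Nat.le_induction with
  | base => norm_num
  | succ n hn ih =>
    have h1 : 17 ^ 2 * (2 * (n + 1) + 1) ^ 2 ≤ 19 ^ 2 * (2 * n + 1) ^ 2 := by
      rw [← mul_pow, ← mul_pow]; exact Nat.pow_le_pow_left (by omega) 2
    have h2 : 19 ^ 2 * (2 * n + 1) ^ 2 ≤ 3 * 17 ^ 2 * (2 * n + 1) ^ 2 :=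
      Nat.mul_le_mul_right _ (by norm_num)
    rw [show n + 1 - 1 = (n - 1) + 1 by omega, pow_succ 3]
    omega

/-- The conditions on the parameters of a semilinear group. -/
structure Params (Q δ z r Y e : ℕ) : Prop where
  hQ : ∃ p d : ℕ, p.Prime ∧ d ≠ 0 ∧ Q = p ^ d
  hδQ : 2 * δ ≤ Q
  hδ : Q.Prime → δ ≤ 1
  hz : z ≤ Q - 1
  hdiv : ∀ s, s.Prime → s ∣ r → s ∣ Q - 1
  hY : Y ≤ r ^ 6
  hY5 : ∀ q k, q.Prime → r * r = q ^ k → 5 * Y ≤ r ^ 6
  hre : e = r ∨ 2 * r ≤ e

variable {Q δ z r Y e : ℕ}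

theorem Params.prime_le (h : Params Q δ z r Y e) (s : ℕ) (hs : s.Prime) (hsr : s ∣ r) : s + 1 ≤ Q := by
  obtain ⟨p, d, hp, hd, hQ⟩ := h.hQ
  have : 2 ≤ Q := by rw [hQ]; exact hp.two_le.trans (Nat.le_self_pow hd p)
  have := Nat.le_of_dvd (by omega) (h.hdiv s hs hsr)
  omega

theorem Params.not_pow (h : Params Q δ z r Y e) : Q ≠ 6 ∧ Q ≠ 10 ∧ Q ≠ 12 ∧ Q ≠ 14 ∧ Q ≠ 15 := by
  obtain ⟨p, d, hp, hd, hQ⟩ := h.hQ
  have key : ∀ a b : ℕ, a.Prime → b.Prime → a ≠ b → a ∣ Q → b ∣ Q → False := by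
    intro a b ha hb hab h1 h2
    rw [hQ] at h1 h2
    exact hab (((Nat.prime_dvd_prime_iff_eq ha hp).1 (ha.dvd_of_dvd_pow h1)).trans
      ((Nat.prime_dvd_prime_iff_eq hb hp).1 (hb.dvd_of_dvd_pow h2)).symm)
  refine ⟨fun h => key 2 3 (by norm_num) (by norm_num) (by norm_num) ?_ ?_,
    fun h => key 2 5 (by norm_num) (by norm_num) (by norm_num) ?_ ?_,
    fun h => key 2 3 (by norm_num) (by norm_num) (by norm_num) ?_ ?_,
    fun h => key 2 7 (by norm_num) (by norm_num) (by norm_num) ?_ ?_,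
    fun h => key 3 5 (by norm_num) (by norm_num) (by norm_num) ?_ ?_⟩ <;> rw [h] <;> norm_num

theorem Params.three_le (h : Params Q δ z r Y e) (hr : 2 ≤ r) : 3 ≤ Q := by
  obtain ⟨s, hs, hsr⟩ := Nat.exists_prime_and_dvd (n := r) (by omega)
  have := h.prime_le s hs hsr
  have := hs.two_le
  omega

/-- The degrees needing a separate argument. -/
def Special (Q r e : ℕ) : Prop :=
  e = r ∧ ((r = 8 ∧ (Q = 3 ∨ Q = 5 ∨ Q = 7 ∨ Q = 9)) ∨ (r = 9 ∧ (Q = 4 ∨ Q = 7)) ∨ (r = 16 ∧ Q = 3))

/-- The order of the group is small. -/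
theorem Params.order_le (h : Params Q δ z r Y e) (hr : 8 ≤ r) (hsp : ¬ Special Q r e) :
    5 * (δ * (z * (r * r) * Y)) ≤ Q ^ e := by
  have hQ3 := h.three_le (by omega)
  obtain ⟨n6, n10, n12, n14, n15⟩ := h.not_pow
  have hQ0 : 0 < Q := by omega
  have hre : r ≤ e := by rcases h.hre with h' | h' <;> omega
  have hQe : Q ^ r ≤ Q ^ e := Nat.pow_le_pow_right hQ0 hre
  have hzQ : z ≤ Q := h.hz.trans (Nat.sub_le _ _)
  have crude : ∀ c q n : ℕ, 5 * (r * r * Y) ≤ c → q ≤ Q → c ≤ 2 * q ^ n → n + 2 ≤ e →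
      5 * (δ * (z * (r * r) * Y)) ≤ Q ^ e := by
    intro c q n h1 hq h2 hn
    have h3 : 2 * (5 * (δ * (z * (r * r) * Y))) ≤ 2 * Q ^ e := by
      calc 2 * (5 * (δ * (z * (r * r) * Y))) = (2 * δ) * z * (5 * (r * r * Y)) := by ring
        _ ≤ Q * Q * c := Nat.mul_le_mul (Nat.mul_le_mul h.hδQ hzQ) h1
        _ ≤ Q * Q * (2 * Q ^ n) :=
          Nat.mul_le_mul_left _ (h2.trans (Nat.mul_le_mul_left 2 (Nat.pow_le_pow_left hq n)))
        _ = 2 * Q ^ (n + 2) := by ring
        _ ≤ 2 * Q ^ e := Nat.mul_le_mul_left 2 (Nat.pow_le_pow_right hQ0 hn)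
    omega
  have hprime : ∀ c q, Q.Prime → Q = q → 5 * (r * r * Y) ≤ c → (q - 1) * c ≤ q ^ r →
      5 * (δ * (z * (r * r) * Y)) ≤ Q ^ e := by
    intro c q hp hq h1 h2
    calc 5 * (δ * (z * (r * r) * Y)) = δ * z * (5 * (r * r * Y)) := by ring
      _ ≤ 1 * (Q - 1) * c := Nat.mul_le_mul (Nat.mul_le_mul (h.hδ hp) h.hz) h1
      _ ≤ Q ^ r := by rw [one_mul, hq]; exact h2
      _ ≤ Q ^ e := hQe
  have hY := h.hY
  have hY5 : ∀ q k, q.Prime → r * r = q ^ k → 5 * (r * r * Y) ≤ r ^ 8 := fun q k hq hk => by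
    calc 5 * (r * r * Y) = r * r * (5 * Y) := by ring
      _ ≤ r * r * r ^ 6 := Nat.mul_le_mul_left _ (h.hY5 q k hq hk)
      _ = r ^ 8 := by ring
  have hY8 : 5 * (r * r * Y) ≤ 5 * r ^ 8 := by
    calc 5 * (r * r * Y) ≤ 5 * (r * r * r ^ 6) := by gcongr
      _ = 5 * r ^ 8 := by ring
  rcases Nat.lt_or_ge r 27 with h27 | h27
  swap
  · refine crude _ 3 (r - 2) hY8 hQ3 ?_ (by omega)
    have := growth_three r h27
    omega
  rcases Nat.lt_or_ge r 17 with h17 | h17
  swap
  · refine crude _ 7 15 hY8 ?_ ?_ (by omega)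
    · have h7 : ∀ s, s.Prime → 5 ≤ s → s ∣ r → 7 ≤ Q := fun s hs h5 hsr => by
        have := h.prime_le s hs hsr; omega
      have h6 : 2 ∣ r → 3 ∣ r → 7 ≤ Q := fun h2 h3 => by
        have e1 := h.hdiv 2 Nat.prime_two h2
        have e2 := h.hdiv 3 Nat.prime_three h3
        omega
      interval_cases r
      · exact h7 17 (by norm_num) (by norm_num) dvd_rfl
      · exact h6 (by norm_num) (by norm_num)
      · exact h7 19 (by norm_num) (by norm_num) dvd_rfl
      · exact h7 5 (by norm_num) le_rfl (by norm_num)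
      · exact h7 7 (by norm_num) (by norm_num) (by norm_num)
      · exact h7 11 (by norm_num) (by norm_num) (by norm_num)
      · exact h7 23 (by norm_num) (by norm_num) dvd_rfl
      · exact h6 (by norm_num) (by norm_num)
      · exact h7 5 (by norm_num) le_rfl (by norm_num)
      · exact h7 13 (by norm_num) (by norm_num) (by norm_num)
    · have : r ^ 8 ≤ 26 ^ 8 := Nat.pow_le_pow_left (by omega) 8
      have : 5 * 26 ^ 8 ≤ 2 * 7 ^ 15 := by norm_num
      omega
  interval_cases r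
  · -- 8
    have h5 := hY5 2 6 Nat.prime_two (by norm_num)
    have hodd := h.hdiv 2 Nat.prime_two (by norm_num)
    rcases Nat.lt_or_ge Q 17 with hQ | hQ
    · rcases h.hre with rfl | h2e
      · simp only [Special, true_and] at hsp
        have : Q = 11 ∨ Q = 13 := by omega
        rcases this with hq | hq
        · exact hprime _ 11 (by rw [hq]; norm_num) hq h5 (by norm_num)
        · exact hprime _ 13 (by rw [hq]; norm_num) hq h5 (by norm_num)
      · rcases Nat.lt_or_ge Q 4 with h4 | h4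
        · have hq : Q = 3 := by omega
          calc 5 * (δ * (z * (8 * 8) * Y)) = δ * z * (5 * (8 * 8 * Y)) := by ring
            _ ≤ 1 * 2 * 8 ^ 8 := Nat.mul_le_mul
                (Nat.mul_le_mul (h.hδ (by rw [hq]; norm_num)) (by have := h.hz; omega)) h5
            _ ≤ 3 ^ 16 := by norm_num
            _ ≤ Q ^ e := le_trans (Nat.pow_le_pow_left hQ3 16) (Nat.pow_le_pow_right hQ0 h2e)
        · exact crude _ 4 14 h5 h4 (by norm_num) (by omega)
    · exact crude _ 17 6 h5 hQ (by norm_num) (by omega)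
  · -- 9
    have h5 := hY5 3 4 Nat.prime_three (by norm_num)
    have h3 := h.hdiv 3 Nat.prime_three (by norm_num)
    rcases h.hre with rfl | h2e
    · simp only [Special, true_and] at hsp
      exact crude _ 13 7 h5 (by omega) (by norm_num) (by omega)
    · exact crude _ 4 16 h5 (by omega) (by norm_num) (by omega)
  · -- 10
    have h2 := h.hdiv 2 Nat.prime_two (by norm_num)
    have h5' := h.hdiv 5 (by norm_num) (by norm_num)
    rcases Nat.lt_or_ge Q 12 with hQ | hQ
    · exact hprime _ 11 (by rw [show Q = 11 by omega]; norm_num) (by omega) hY8 (by norm_num)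
    · exact crude _ 12 8 hY8 hQ (by norm_num) (by omega)
  · -- 11
    have h5 := hY5 11 2 (by norm_num) (by norm_num)
    exact crude _ 12 9 h5 (h.prime_le 11 (by norm_num) dvd_rfl) (by norm_num) (by omega)
  · -- 12
    have h2 := h.hdiv 2 Nat.prime_two (by norm_num)
    have h3 := h.hdiv 3 Nat.prime_three (by norm_num)
    rcases Nat.lt_or_ge Q 9 with hQ | hQ
    · exact hprime _ 7 (by rw [show Q = 7 by omega]; norm_num) (by omega) hY8 (by norm_num)
    · exact crude _ 9 10 hY8 hQ (by norm_num) (by omega)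
  · exact crude _ 14 11 hY8 (h.prime_le 13 (by norm_num) dvd_rfl) (by norm_num) (by omega)
  · have h2 := h.hdiv 2 Nat.prime_two (by norm_num)
    have h7 := h.hdiv 7 (by norm_num) (by norm_num)
    exact crude _ 15 12 hY8 (by omega) (by norm_num) (by omega)
  · have h3 := h.hdiv 3 Nat.prime_three (by norm_num)
    have h5 := h.hdiv 5 (by norm_num) (by norm_num)
    exact crude _ 16 13 hY8 (by omega) (by norm_num) (by omega)
  · -- 16
    have h5 := hY5 2 8 Nat.prime_two (by norm_num)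
    have h2 := h.hdiv 2 Nat.prime_two (by norm_num)
    rcases h.hre with rfl | h2e
    · simp only [Special, true_and] at hsp
      exact crude _ 5 14 h5 (by omega) (by norm_num) (by omega)
    · exact crude _ 3 30 h5 hQ3 (by norm_num) (by omega)

/-- Few vectors are fixed by socle elements. -/
theorem Params.socle_count (h : Params Q δ z r Y e) (hr : 5 ≤ r) (hsp : ¬ Special Q r e) :
    (8 ≤ r → 5 * (z * (r * r) * Q ^ (e / 2)) + 10 ≤ Q ^ e) ∧
      (z * (r * r) * Q ^ (e / 2) + 2 ≤ Q ^ e) := by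
  have hQ3 := h.three_le (by omega)
  obtain ⟨n6, n10, n12, n14, n15⟩ := h.not_pow
  have hQ0 : 0 < Q := by omega
  have hre : r ≤ e := by rcases h.hre with h' | h' <;> omega
  set c := e - e / 2 - 1 with hc
  have hsplit : Q ^ e = Q ^ (e / 2) * Q * Q ^ c := by
    rw [← pow_succ, ← pow_add]; congr 1; omega
  have h2 : 2 ≤ Q ^ (e / 2) := le_trans (by omega : 2 ≤ Q) (Nat.le_self_pow (by omega) Q)
  have main : ∀ a : ℕ, (∃ q k, q ≤ Q ∧ k ≤ c ∧ a ≤ q ^ k) → z * Q ^ (e / 2) * a + a ≤ Q ^ e := by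
    intro a ⟨q, k, hq, hk, ha⟩
    have ha' : a ≤ Q ^ c := ha.trans ((Nat.pow_le_pow_left hq k).trans (Nat.pow_le_pow_right hQ0 hk))
    have hz1 : z + 1 ≤ Q := by have := h.hz; omega
    have h3 : (z + 1) * Q ^ (e / 2) * a ≤ Q ^ e := by
      rw [hsplit]
      calc (z + 1) * Q ^ (e / 2) * a ≤ Q * Q ^ (e / 2) * Q ^ c :=
            Nat.mul_le_mul (Nat.mul_le_mul_right _ hz1) ha'
        _ = _ := by ring
    have h4 : 1 * a ≤ Q ^ (e / 2) * a := Nat.mul_le_mul_right a (by omega)
    rw [add_mul, add_mul, one_mul] at h3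
    omega
  constructor
  · intro hr8
    have hred : (∃ q k, q ≤ Q ∧ k ≤ c ∧ 6 * (r * r) ≤ q ^ k) →
        5 * (z * (r * r) * Q ^ (e / 2)) + 10 ≤ Q ^ e := fun hex => by
      have h4 := main _ hex
      have h5 : 10 ≤ 6 * (r * r) := by nlinarith
      have h6 : 5 * (z * (r * r) * Q ^ (e / 2)) ≤ z * Q ^ (e / 2) * (6 * (r * r)) := by
        have : z * (r * r) * Q ^ (e / 2) * 5 ≤ z * (r * r) * Q ^ (e / 2) * 6 :=
          Nat.mul_le_mul_left _ (by norm_num)
        calc 5 * (z * (r * r) * Q ^ (e / 2)) = z * (r * r) * Q ^ (e / 2) * 5 := by ring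
          _ ≤ z * (r * r) * Q ^ (e / 2) * 6 := this
          _ = _ := by ring
      omega
    rcases Nat.lt_or_ge r 16 with h16 | h16
    · rcases h.hre with rfl | h2e
      · have hd := fun s (hs : s.Prime) hsr => h.prime_le s hs hsr
        interval_cases e
        · have hodd := h.hdiv 2 Nat.prime_two (by norm_num)
          simp only [Special, true_and] at hsp
          exact hred ⟨11, 3, by omega, by omega, by norm_num⟩
        · simp only [Special, true_and] at hsp
          have := hd 3 Nat.prime_three (by norm_num)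
          exact hred ⟨5, 4, by omega, by omega, by norm_num⟩
        · have := hd 5 (by norm_num) (by norm_num)
          exact hred ⟨7, 4, by omega, by omega, by norm_num⟩
        · have := hd 11 (by norm_num) dvd_rfl
          exact hred ⟨7, 4, by omega, by omega, by norm_num⟩
        · have := hd 3 Nat.prime_three (by norm_num)
          exact hred ⟨4, 5, by omega, by omega, by norm_num⟩
        · have := hd 13 (by norm_num) dvd_rfl
          exact hred ⟨7, 5, by omega, by omega, by norm_num⟩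
        · have := hd 7 (by norm_num) (by norm_num)
          exact hred ⟨7, 6, by omega, by omega, by norm_num⟩
        · have := hd 5 (by norm_num) (by norm_num)
          exact hred ⟨7, 6, by omega, by omega, by norm_num⟩
      · refine hred ⟨3, r - 1, hQ3, by omega, ?_⟩
        interval_cases r <;> norm_num
    · refine hred ⟨3, r / 2 - 1, hQ3, by omega, le_trans ?_ (growth_half (r / 2) (by omega))⟩
      have : r * r ≤ (2 * (r / 2) + 1) * (2 * (r / 2) + 1) := Nat.mul_le_mul (by omega) (by omega)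
      rw [pow_two]
      omega
  · have hred : (∃ q k, q ≤ Q ∧ k ≤ c ∧ r * r + 0 ≤ q ^ k) →
        z * (r * r) * Q ^ (e / 2) + 2 ≤ Q ^ e := fun hex => by
      have h4 := main _ hex
      have h5 : 2 ≤ r * r := by nlinarith
      have h6 : z * (r * r) * Q ^ (e / 2) = z * Q ^ (e / 2) * (r * r) := by ring
      simp only [Nat.add_zero] at h4
      omega
    rcases Nat.lt_or_ge r 10 with h10 | h10
    · have hd := fun s (hs : s.Prime) hsr => h.prime_le s hs hsr
      interval_cases r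
      · have := hd 5 (by norm_num) dvd_rfl
        exact hred ⟨7, 2, by omega, by omega, by norm_num⟩
      · have e2 := h.hdiv 2 Nat.prime_two (by norm_num)
        have e3 := h.hdiv 3 Nat.prime_three (by norm_num)
        exact hred ⟨7, 2, by omega, by omega, by norm_num⟩
      · have := hd 7 (by norm_num) dvd_rfl
        exact hred ⟨8, 3, by omega, by omega, by norm_num⟩
      · rcases h.hre with rfl | h2e
        · have hodd := h.hdiv 2 Nat.prime_two (by norm_num)
          simp only [Special, true_and] at hsp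
          exact hred ⟨11, 3, by omega, by omega, by norm_num⟩
        · exact hred ⟨3, 7, hQ3, by omega, by norm_num⟩
      · rcases h.hre with rfl | h2e
        · simp only [Special, true_and] at hsp
          have := hd 3 Nat.prime_three (by norm_num)
          exact hred ⟨4, 4, by omega, by omega, by norm_num⟩
        · exact hred ⟨3, 8, hQ3, by omega, by norm_num⟩
    · rcases Nat.lt_or_ge r 16 with h16 | h16
      · have hd := fun s (hs : s.Prime) hsr => h.prime_le s hs hsr
        interval_cases r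
        · have := hd 5 (by norm_num) (by norm_num)
          exact hred ⟨6, 4, by omega, by omega, by norm_num⟩
        · have := hd 11 (by norm_num) dvd_rfl
          exact hred ⟨6, 4, by omega, by omega, by norm_num⟩
        · have := hd 3 Nat.prime_three (by norm_num)
          exact hred ⟨4, 5, by omega, by omega, by norm_num⟩
        · have := hd 13 (by norm_num) dvd_rfl
          exact hred ⟨6, 5, by omega, by omega, by norm_num⟩
        · have := hd 7 (by norm_num) (by norm_num)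
          exact hred ⟨6, 5, by omega, by omega, by norm_num⟩
        · have := hd 5 (by norm_num) (by norm_num)
          exact hred ⟨6, 6, by omega, by omega, by norm_num⟩
      · refine hred ⟨3, r / 2 - 1, hQ3, by omega, le_trans ?_ (growth_half (r / 2) (by omega))⟩
        have : r * r ≤ (2 * (r / 2) + 1) * (2 * (r / 2) + 1) := Nat.mul_le_mul (by omega) (by omega)
        rw [pow_two]
        omega

/-- Few vectors are fixed by the centraliser when the degree is large. -/
theorem Params.central_count (h : Params Q δ z r Y e) (hr : 256 ≤ r) :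
    5 * (z * (r * r) * Y * Q ^ (3 * e / 4)) + 10 ≤ Q ^ e := by
  have hQ3 := h.three_le (by omega)
  have hQ0 : 0 < Q := by omega
  have hre : r ≤ e := by rcases h.hre with h' | h' <;> omega
  set c := e - 3 * e / 4 - 1 with hc
  have hsplit : Q ^ e = Q ^ (3 * e / 4) * Q * Q ^ c := by
    rw [← pow_succ, ← pow_add]; congr 1; omega
  have h1 : 6 * r ^ 8 ≤ Q ^ c := by
    refine le_trans ?_ ((Nat.pow_le_pow_left hQ3 (r / 4 - 1)).trans (Nat.pow_le_pow_right hQ0 (by omega)))
    refine le_trans (Nat.mul_le_mul_left 6 (Nat.pow_le_pow_left ?_ 8)) (growth_four (r / 4) (by omega))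
    omega
  have hz1 : z + 1 ≤ Q := by have := h.hz; omega
  have h3 : (z + 1) * Q ^ (3 * e / 4) * (6 * r ^ 8) ≤ Q ^ e := by
    rw [hsplit]
    calc (z + 1) * Q ^ (3 * e / 4) * (6 * r ^ 8) ≤ Q * Q ^ (3 * e / 4) * Q ^ c :=
          Nat.mul_le_mul (Nat.mul_le_mul_right _ hz1) h1
      _ = _ := by ring
  have h4 : z * (r * r) * Y ≤ z * r ^ 8 := by
    calc z * (r * r) * Y ≤ z * (r * r) * r ^ 6 := Nat.mul_le_mul_left _ h.hY
      _ = z * r ^ 8 := by ring
  have h5 : 5 * (z * (r * r) * Y * Q ^ (3 * e / 4)) ≤ z * Q ^ (3 * e / 4) * (6 * r ^ 8) := by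
    calc 5 * (z * (r * r) * Y * Q ^ (3 * e / 4)) ≤ 6 * (z * r ^ 8 * Q ^ (3 * e / 4)) :=
          Nat.mul_le_mul (by norm_num) (Nat.mul_le_mul_right _ h4)
      _ = _ := by ring
  have h6 : 10 ≤ 1 * Q ^ (3 * e / 4) * (6 * r ^ 8) := by
    have e1 : 1 ≤ Q ^ (3 * e / 4) := Nat.one_le_pow _ _ hQ0
    have e2 : 2 ≤ r ^ 8 := le_trans (by omega : 2 ≤ r) (Nat.le_self_pow (by norm_num) r)
    calc 10 ≤ 1 * 1 * (6 * 2) := by norm_num
      _ ≤ _ := by gcongr
  rw [add_mul, add_mul, one_mul] at h3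
  rw [one_mul] at h6
  omega

end Cfsg.Lib.DerBound
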