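import Mathlib

/-!
Bounds on derived lengths: subgroups, extensions, products, and a few small groups.
-/

set_option autoImplicit false
set_option linter.style.haveILetI false

namespace Cfsg.Lib.DerBound

/-- The derived length is at most `n`. -/
def DL (G : Type*) [Group G] (n : ℕ) : Prop := derivedSeries G n = ⊥

variable {G H : Type*} [Group G] [Group H]

theorem DL.mono {n m : ℕ} (h : DL G n) (hnm : n ≤ m) : DL G m :=
  le_bot_iff.1 ((derivedSeries_antitone G hnm).trans h.le)

theorem DL.of_injective {n : ℕ} (f : G →* H) (hf : Function.Injective f) (h : DL H n) : DL G n := by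
  have h1 : (derivedSeries G n).map f ≤ ⊥ := h ▸ map_derivedSeries_le_derivedSeries f n
  rw [le_bot_iff, Subgroup.map_eq_bot_iff_of_injective _ hf] at h1
  exact h1

theorem DL.of_surjective {n : ℕ} (f : G →* H) (hf : Function.Surjective f) (h : DL G n) : DL H n := by
  change derivedSeries H n = ⊥
  rw [← map_derivedSeries_eq hf, show derivedSeries G n = ⊥ from h, Subgroup.map_bot]

theorem DL.subgroup {n : ℕ} (h : DL G n) (K : Subgroup G) : DL K n :=
  DL.of_injective K.subtype K.subtype_injective h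

theorem DL.of_le {n : ℕ} {K L : Subgroup G} (hKL : K ≤ L) (h : DL L n) : DL K n :=
  DL.of_injective _ (Subgroup.inclusion_injective hKL) h

theorem DL.range {n : ℕ} (f : G →* H) (h : DL G n) : DL f.range n :=
  DL.of_surjective _ f.rangeRestrict_surjective h

theorem dl_of_comm (h : ∀ a b : G, a * b = b * a) : DL G 1 := by
  change derivedSeries G 1 = ⊥
  rw [derivedSeries_succ, derivedSeries_zero, Subgroup.commutator_eq_bot_iff_le_centralizer]
  exact fun a _ => Subgroup.mem_centralizer_iff.2 fun b _ => h b a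

theorem dl_of_subsingleton [Subsingleton G] (n : ℕ) : DL G n := Subsingleton.elim _ _

/-- Extensions, where the kernel lies in a group of known derived length. -/
theorem DL.extend {a b : ℕ} (f : G →* H) (hk : DL f.ker a) (hH : DL H b) : DL G (b + a) := by
  have h1 : ∀ i, derivedSeries G (b + i) ≤ (derivedSeries f.ker i).map f.ker.subtype := by
    intro i
    induction i with
    | zero =>
      rw [derivedSeries_zero, ← MonoidHom.range_eq_map, Subgroup.range_subtype]
      intro x hx
      have := map_derivedSeries_le_derivedSeries f b (Subgroup.mem_map_of_mem f hx)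
      rw [show derivedSeries H b = ⊥ from hH, Subgroup.mem_bot] at this
      exact this
    | succ i ih =>
      rw [← add_assoc, derivedSeries_succ, derivedSeries_succ, Subgroup.map_commutator]
      exact Subgroup.commutator_mono ih ih
  change derivedSeries G (b + a) = ⊥
  rw [eq_bot_iff]
  refine (h1 a).trans ?_
  rw [show derivedSeries f.ker a = ⊥ from hk, Subgroup.map_bot]

/-- A variant with the image only. -/
theorem DL.extend_range {a b : ℕ} (f : G →* H) (hk : DL f.ker a) (hH : DL f.range b) :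
    DL G (b + a) := by
  refine DL.extend f.rangeRestrict ?_ hH
  rw [MonoidHom.ker_rangeRestrict]
  exact hk

theorem dl_pi {ι : Type*} {D : ι → Type*} [∀ i, Group (D i)] {n : ℕ} (h : ∀ i, DL (D i) n) :
    DL (∀ i, D i) n := by
  change derivedSeries _ n = ⊥
  rw [eq_bot_iff]
  intro x hx
  rw [Subgroup.mem_bot]
  funext i
  have := map_derivedSeries_le_derivedSeries (Pi.evalMonoidHom D i) n (Subgroup.mem_map_of_mem _ hx)
  rw [show derivedSeries (D i) n = ⊥ from h i, Subgroup.mem_bot] at this
  exact this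

theorem dl_prod {n : ℕ} (hG : DL G n) (hH : DL H n) : DL (G × H) n := by
  change derivedSeries _ n = ⊥
  rw [eq_bot_iff]
  intro x hx
  rw [Subgroup.mem_bot]
  refine Prod.ext ?_ ?_
  · have := map_derivedSeries_le_derivedSeries (MonoidHom.fst G H) n (Subgroup.mem_map_of_mem _ hx)
    rw [show derivedSeries G n = ⊥ from hG, Subgroup.mem_bot] at this
    exact this
  · have := map_derivedSeries_le_derivedSeries (MonoidHom.snd G H) n (Subgroup.mem_map_of_mem _ hx)
    rw [show derivedSeries H n = ⊥ from hH, Subgroup.mem_bot] at this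
    exact this

/-- A group with at most three points to move has derived length two. -/
theorem dl_perm_three {α : Type*} [Finite α] (h : Nat.card α ≤ 3) : DL (Equiv.Perm α) 2 := by
  classical
  haveI := Fintype.ofFinite α
  have hk : DL (Equiv.Perm.sign : Equiv.Perm α →* ℤˣ).ker 1 := by
    refine dl_of_comm fun a b => ?_
    haveI : Subsingleton α ∨ Nontrivial α := subsingleton_or_nontrivial α
    rcases this with hs | hn
    · exact Subtype.ext (Equiv.ext fun x => Subsingleton.elim _ _)
    have hcard : Nat.card (Equiv.Perm.sign : Equiv.Perm α →* ℤˣ).ker ≤ 3 := by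
      have h1 := Subgroup.card_mul_index (Equiv.Perm.sign : Equiv.Perm α →* ℤˣ).ker
      rw [Subgroup.index_ker, MonoidHom.range_eq_top.2 (Equiv.Perm.sign_surjective α),
        Subgroup.card_top, Nat.card_perm] at h1
      have h2 : Nat.card ℤˣ = 2 := by rw [Nat.card_eq_fintype_card]; rfl
      have h3 : (Nat.card α).factorial ≤ Nat.factorial 3 := Nat.factorial_le h
      rw [h2] at h1
      have : Nat.factorial 3 = 6 := rfl
      omega
    rcases Nat.lt_or_ge (Nat.card (Equiv.Perm.sign : Equiv.Perm α →* ℤˣ).ker) 2 with h2 | h2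
    · haveI : Subsingleton (Equiv.Perm.sign : Equiv.Perm α →* ℤˣ).ker :=
        (Finite.card_le_one_iff_subsingleton).1 (by omega)
      exact Subsingleton.elim _ _
    haveI : IsCyclic (Equiv.Perm.sign : Equiv.Perm α →* ℤˣ).ker := by
      rcases (show Nat.card (Equiv.Perm.sign : Equiv.Perm α →* ℤˣ).ker = 2 ∨
        Nat.card (Equiv.Perm.sign : Equiv.Perm α →* ℤˣ).ker = 3 by omega) with h4 | h4
      · haveI : Fact (Nat.Prime 2) := ⟨Nat.prime_two⟩
        exact isCyclic_of_prime_card h4
      · haveI : Fact (Nat.Prime 3) := ⟨Nat.prime_three⟩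
        exact isCyclic_of_prime_card h4
    obtain ⟨g, hg⟩ := IsCyclic.exists_generator (α := (Equiv.Perm.sign : Equiv.Perm α →* ℤˣ).ker)
    obtain ⟨i, rfl⟩ := Subgroup.mem_zpowers_iff.1 (hg a)
    obtain ⟨j, rfl⟩ := Subgroup.mem_zpowers_iff.1 (hg b)
    exact zpow_mul_comm g i j
  exact DL.extend (Equiv.Perm.sign : Equiv.Perm α →* ℤˣ) hk (dl_of_comm mul_comm : DL ℤˣ 1)

/-- Two points. -/
theorem dl_perm_two {α : Type*} [Finite α] (h : Nat.card α ≤ 2) : DL (Equiv.Perm α) 1 := by
  classical
  haveI := Fintype.ofFinite α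
  refine dl_of_comm fun a b => ?_
  have hc : Nat.card (Equiv.Perm α) ≤ 2 := by
    rw [Nat.card_perm]
    exact (Nat.factorial_le h).trans (by decide)
  rcases Nat.lt_or_ge (Nat.card (Equiv.Perm α)) 2 with h2 | h2
  · haveI : Subsingleton (Equiv.Perm α) := Finite.card_le_one_iff_subsingleton.1 (by omega)
    exact Subsingleton.elim _ _
  · haveI : Fact (Nat.Prime 2) := ⟨Nat.prime_two⟩
    haveI : IsCyclic (Equiv.Perm α) := isCyclic_of_prime_card (p := 2) (by omega)
    obtain ⟨g, hg⟩ := IsCyclic.exists_generator (α := Equiv.Perm α)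
    obtain ⟨i, rfl⟩ := Subgroup.mem_zpowers_iff.1 (hg a)
    obtain ⟨j, rfl⟩ := Subgroup.mem_zpowers_iff.1 (hg b)
    exact zpow_mul_comm g i j

/-- One point. -/
theorem dl_perm_one {α : Type*} [Finite α] (h : Nat.card α ≤ 1) : DL (Equiv.Perm α) 0 := by
  haveI : Subsingleton α := Finite.card_le_one_iff_subsingleton.1 h
  exact dl_of_subsingleton 0

/-- Groups of order at most four. -/
theorem dl_card_le_four [Finite G] {p : ℕ} [Fact p.Prime] {i : ℕ} (hi : i ≤ 2)
    (h : Nat.card G = p ^ i) : DL G 1 := by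
  refine dl_of_comm fun a b => ?_
  rcases (show i = 0 ∨ i = 1 ∨ i = 2 by omega) with rfl | rfl | rfl
  · haveI : Subsingleton G := Finite.card_le_one_iff_subsingleton.1 (by rw [h, pow_zero])
    exact Subsingleton.elim _ _
  · haveI : IsCyclic G := isCyclic_of_prime_card (p := p) (by rw [h, pow_one])
    obtain ⟨g, hg⟩ := IsCyclic.exists_generator (α := G)
    obtain ⟨i, rfl⟩ := Subgroup.mem_zpowers_iff.1 (hg a)
    obtain ⟨j, rfl⟩ := Subgroup.mem_zpowers_iff.1 (hg b)
    exact zpow_mul_comm g i j
  · exact (IsPGroup.isMulCommutative_of_card_eq_prime_sq h).is_comm.comm a b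

/-- Groups of order dividing eight. -/
theorem dl_card_dvd_eight [Finite G] (h : Nat.card G ∣ 8) : DL G 2 := by
  haveI : Fact (Nat.Prime 2) := ⟨Nat.prime_two⟩
  obtain ⟨i, hi, hc⟩ := (Nat.dvd_prime_pow Nat.prime_two).1 (show Nat.card G ∣ 2 ^ 3 from h)
  rcases Nat.lt_or_ge i 3 with h3 | h3
  · exact (dl_card_le_four (by omega) hc).mono (by omega)
  obtain rfl : i = 3 := by omega
  haveI : Nontrivial G := Finite.one_lt_card_iff_nontrivial.1 (by rw [hc]; norm_num)
  haveI := (IsPGroup.of_card hc).center_nontrivial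
  have hz : 1 < Nat.card (Subgroup.center G) := Finite.one_lt_card_iff_nontrivial.2 inferInstance
  obtain ⟨j, hj, hjc⟩ := (Nat.dvd_prime_pow Nat.prime_two).1
    (hc ▸ (Subgroup.center G).card_subgroup_dvd_card)
  have hq : Nat.card (G ⧸ Subgroup.center G) = 2 ^ (3 - j) := by
    have h1 := Subgroup.card_mul_index (Subgroup.center G)
    rw [hjc, hc, Subgroup.index_eq_card] at h1
    refine Nat.eq_of_mul_eq_mul_left (pow_pos (by norm_num : 0 < 2) j) (h1.trans ?_)
    rw [← pow_add]
    congr 1
    omega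
  have hj0 : 1 ≤ j := by
    rcases Nat.eq_zero_or_pos j with rfl | h0
    · rw [hjc] at hz; norm_num at hz
    · exact h0
  refine DL.extend (a := 1) (b := 1) (QuotientGroup.mk' (Subgroup.center G)) ?_
    (dl_card_le_four (by omega) hq)
  rw [QuotientGroup.ker_mk']
  exact dl_of_comm fun a b => Subtype.ext (Subgroup.mem_center_iff.1 b.2 a)

/-- Groups of order dividing twenty-four. -/
theorem dl_card_dvd_twentyfour [Finite G] (h : Nat.card G ∣ 24) : DL G 3 := by
  haveI : Fact (Nat.Prime 2) := ⟨Nat.prime_two⟩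
  let P : Sylow 2 G := default
  obtain ⟨i, hi⟩ := (IsPGroup.iff_card.1 P.isPGroup' : _)
  have hidx : (P : Subgroup G).index ∣ 3 := by
    have h1 : (P : Subgroup G).index ∣ 24 := (Dvd.intro_left _ (Subgroup.card_mul_index _)).trans h
    have h2 : Nat.Coprime (P : Subgroup G).index (2 ^ 3) :=
      Nat.Coprime.pow_right _ ((Nat.prime_two.coprime_iff_not_dvd.2 P.not_dvd_index).symm)
    exact h2.dvd_of_dvd_mul_left (show (P : Subgroup G).index ∣ 2 ^ 3 * 3 from h1)
  have hidx3 : (P : Subgroup G).index ≤ 3 := Nat.le_of_dvd (by norm_num) hidx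
  let f : G →* Equiv.Perm (G ⧸ (P : Subgroup G)) := MulAction.toPermHom G _
  have hker : f.ker ≤ P := by
    intro g hg
    have h1 := Equiv.Perm.congr_fun (hg : f g = 1) (QuotientGroup.mk 1)
    change (QuotientGroup.mk (g * 1) : G ⧸ (P : Subgroup G)) = QuotientGroup.mk 1 at h1
    rw [mul_one, QuotientGroup.eq, mul_one] at h1
    exact inv_mem_iff.1 h1
  have hker8 : Nat.card f.ker ∣ 8 := by
    have h1 : Nat.card f.ker ∣ 2 ^ i := hi ▸ Subgroup.card_dvd_of_le hker
    obtain ⟨j, -, hj⟩ := (Nat.dvd_prime_pow Nat.prime_two).1 h1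
    have h2 : 2 ^ j ∣ 2 ^ 3 * 3 := hj ▸ (f.ker.card_subgroup_dvd_card.trans h)
    rw [hj]
    exact (Nat.Coprime.pow_left j (by norm_num : Nat.Coprime 2 3)).dvd_of_dvd_mul_right h2
  obtain ⟨j, hj3, hj⟩ := (Nat.dvd_prime_pow Nat.prime_two).1 (show Nat.card f.ker ∣ 2 ^ 3 from hker8)
  rcases Nat.lt_or_ge j 3 with h3 | h3
  · exact DL.extend f (dl_card_le_four (by omega) hj)
      (dl_perm_three (by rw [← Subgroup.index_eq_card]; exact hidx3))
  · obtain rfl : j = 3 := by omega
    have hq : f.ker.index ∣ 3 := by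
      have h1 := Subgroup.card_mul_index f.ker
      rw [hj] at h1
      have h2 : 8 * f.ker.index ∣ 8 * 3 := by
        rw [show 8 * f.ker.index = Nat.card G from h1]; exact h
      exact Nat.dvd_of_mul_dvd_mul_left (by norm_num) h2
    refine DL.extend_range (b := 1) f (dl_card_dvd_eight hker8) ?_
    haveI : Fact (Nat.Prime 3) := ⟨Nat.prime_three⟩
    obtain ⟨k, hk, hkc⟩ := (Nat.dvd_prime_pow Nat.prime_three).1
      (show Nat.card f.range ∣ 3 ^ 1 by rw [pow_one, ← Subgroup.index_ker]; exact hq)
    exact dl_card_le_four (by omega) hkc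

end Cfsg.Lib.DerBound
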