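import Cfsg.Agent.DerBound.LinTools

/-!
Derived lengths and orders of solvable linear groups in small dimensions.
-/

set_option autoImplicit false
set_option linter.unusedSectionVars false
set_option linter.style.haveILetI false

namespace Cfsg.Lib.DerBound

open Cfsg.Lib.OddBase

universe u

/-- A bound for the socle quotient of degree `r`. -/
def Pieces (r s : ℕ) : Prop :=
  (r = 2 ∧ 2 ≤ s) ∨ (r = 3 ∧ 3 ≤ s) ∨ ∀ q k : ℕ, q.Prime → q ^ k ∣ r * r → Lin.{u} q k s

/-- A bound for a primitive group of degree `t`. -/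
def PermBound (t β : ℕ) : Prop :=
  (t ≤ 2 ∧ 1 ≤ β) ∨ (t ≤ 3 ∧ 2 ≤ β) ∨ (t ≤ 7 ∧ 3 ≤ β) ∨
    ∃ h, h + 1 ≤ β ∧ ∀ q k : ℕ, q.Prime → q ^ k = t → Lin.{u} q k h

variable {A V : Type u} [Group A] [Finite A] [Group.IsSolvable A] [AddCommGroup V] [Finite V]
  [DistribMulAction A V] [FaithfulSMul A V]

theorem Semi.dl_XC (D : Semi A V) {r s : ℕ} (M : SocMod A D.Z r) (hne : ¬ D.C ≤ D.Z)
    (h : Pieces.{u} r s) : DL (D.XC M) s := by
  rcases h with ⟨rfl, hs⟩ | ⟨rfl, hs⟩ | h
  · exact ((dl_four (A := M.X) (V := M.W) (by rw [M.cardW])).mono hs).subgroup _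
  · exact (D.dl_XC_three M hne).mono hs
  · exact (dl_of_cr (Nat.card M.W) M.X M.W le_rfl M.cr fun q k hq hk =>
      h q k hq (M.cardW ▸ hk)).subgroup _

theorem dl_permBound {G : Type u} [Group G] [Finite G] [Group.IsSolvable G] {α : Type u}
    [MulAction G α] [FaithfulSMul G α] [Finite α] [Nontrivial α]
    (hprim : MulAction.IsPreprimitive G α) {β : ℕ} (h : PermBound.{u} (Nat.card α) β) : DL G β := by
  rcases h with ⟨ht, hβ⟩ | ⟨ht, hβ⟩ | ⟨ht, hβ⟩ | ⟨h, hβ, hlin⟩
  · exact (DL.of_injective (MulAction.toPermHom G α) MulAction.toPerm_injective (dl_perm_two ht)).mono hβ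
  · exact (DL.of_injective (MulAction.toPermHom G α) MulAction.toPerm_injective (dl_perm_three ht)).mono hβ
  · exact (dl_seven 7 le_rfl G α ht).mono hβ
  · exact (dl_prim_lin hprim hlin).mono hβ

/-- A module of two elements in every block has a fixed vector. -/
theorem Sys.not_two [Nontrivial V] (S : Sys A V) (hirr : Irr A V) (hW : Nat.card S.W = 2) : False := by
  classical
  haveI := S.nontrivial_W
  obtain ⟨w, hw⟩ := exists_ne (0 : S.W)
  have hall : ∀ x : S.W, x ≠ 0 → x = w := by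
    intro x hx
    by_contra hne
    haveI := Fintype.ofFinite S.W
    have h3 : ({0, w, x} : Finset S.W).card = 3 := by
      rw [Finset.card_insert_of_notMem, Finset.card_insert_of_notMem, Finset.card_singleton]
      · simpa using fun h => hne h.symm
      · simp [Ne.symm hw, Ne.symm hx]
    have h4 := Finset.card_le_univ ({0, w, x} : Finset S.W)
    rw [h3, ← Nat.card_eq_fintype_card, hW] at h4
    omega
  set v := S.vec fun _ => w with hv
  have hfix : ∀ a : A, a • v = v := by
    intro a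
    have hz : ∀ z : S.Ω → S.W, S.vec z = a • v → z = fun _ => w := by
      intro z hz
      funext f
      obtain ⟨e, rfl⟩ : ∃ e, a • e = f := ⟨a⁻¹ • f, smul_inv_smul a f⟩
      have h1 := S.loc_smul_of_smul_vec a (fun _ => w) z hz.symm e
      refine (h1.symm.trans (hall _ fun h => hw ?_))
      exact (smul_eq_zero_iff_eq _).1 h
    obtain ⟨z, hz'⟩ : ∃ z : S.Ω → S.W, S.vec z = a • v := by
      have hb : Function.Bijective S.vec := (Nat.bijective_iff_injective_and_card _).2
        ⟨S.vec_injective, by rw [Nat.card_fun, ← S.card_eq]⟩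
      exact hb.2 _
    rw [← hz', hz z hz']
  have hv0 : v ≠ 0 := by
    intro h
    have h2 := S.proj_vec (fun _ => w) S.base
    rw [← hv, h, map_zero] at h2
    exact hw (Subtype.ext ((smul_eq_zero_iff_eq _).1 h2.symm))
  rcases hirr (AddSubgroup.zmultiples v) (fun a x hx => by
    obtain ⟨i, rfl⟩ := AddSubgroup.mem_zmultiples_iff.1 hx
    have h5 : a • (i • v) = i • (a • v) := map_zsmul (DistribSMul.toAddMonoidHom V a) i v
    rw [h5, hfix]
    exact AddSubgroup.zsmul_mem _ (AddSubgroup.mem_zmultiples v) i) with h | h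
  · exact hv0 (AddSubgroup.zmultiples_eq_bot.1 h)
  · have h2 : 2 • v = 0 := by
      rw [hv, Sys.vec, Finset.smul_sum]
      refine Finset.sum_eq_zero fun e _ => ?_
      have h3 : 2 • w = 0 := by rw [← hW]; exact card_nsmul_eq_zero'
      rw [smul_comm, show (2 • (w : V)) = ((2 • w : S.W) : V) from rfl, h3]
      exact smul_zero _
    have h3 : addOrderOf v ≤ 2 := Nat.le_of_dvd (by norm_num) (addOrderOf_dvd_of_nsmul_eq_zero h2)
    have h4 : Nat.card V ≤ 2 := by
      rw [← Nat.card_congr (AddSubgroup.topEquiv (G := V)).toEquiv, ← h, Nat.card_zmultiples]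
      exact h3
    rw [S.card_eq, hW] at h4
    have h5 : 2 ≤ Nat.card S.Ω := Finite.one_lt_card
    have := Nat.pow_le_pow_right (show 0 < 2 by norm_num) h5
    omega

/-- The step of the recursion. -/
theorem dl_irr (hirr : Irr A V) {q m B : ℕ} (hq : q.Prime) (hV : Nat.card V = q ^ m) (hB : 2 ≤ B)
    (hsys : ∀ b t, 1 ≤ b → 2 ≤ t → b * t = m → (q = 2 → b ≠ 1) → IsPrimePow t →
      ∃ s β, β + s ≤ B ∧ Lin.{u} q b s ∧ PermBound.{u} t β)
    (hsemi : ∀ d e r, d * e = m → 0 < d → 0 < e → 2 ≤ r → r ∣ e → (∀ s, s.Prime → s ∣ r → s ∣ q ^ d - 1) →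
      ∃ s, (if d = 1 then 0 else 1) + (s + 2) ≤ B ∧ Pieces.{u} r s) : DL A B := by
  rcases subsingleton_or_nontrivial V with hs | hnt
  · haveI : Subsingleton A := ⟨fun a c => eq_of_smul_eq_smul fun v : V => Subsingleton.elim _ _⟩
    exact dl_of_subsingleton B
  rcases sys_or_semi hirr with ⟨⟨S⟩⟩ | ⟨⟨D⟩⟩
  · haveI := S.nontrivial_W
    obtain ⟨b, -, hb⟩ := (Nat.dvd_prime_pow hq).1 (hV ▸ S.W.card_addSubgroup_dvd_card)
    have hb1 : 1 ≤ b := by
      rcases Nat.eq_zero_or_pos b with rfl | h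
      · have h2 : 1 < Nat.card S.W := Finite.one_lt_card
        rw [hb, pow_zero] at h2
        omega
      · exact h
    have hbt : b * Nat.card S.Ω = m := by
      have h1 := S.card_eq
      rw [hV, hb, ← pow_mul] at h1
      exact (Nat.pow_right_injective hq.two_le h1).symm
    obtain ⟨X, _, _, _, _, _, π, hπ, hXirr, -⟩ := S.exists_image hirr
    let ρ := MulAction.toPermHom A S.Ω
    haveI : Group.IsSolvable ρ.range := Group.isSolvable_of_surjective ρ.rangeRestrict_surjective
    obtain ⟨a⟩ : Nonempty S.Ω := inferInstance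
    obtain ⟨-, -, -, -, -, -, hpp, -⟩ := prim_data (G := ρ.range) S.prim_range a
    obtain ⟨s, β, hle, hlin, hperm⟩ := hsys b (Nat.card S.Ω) hb1 Finite.one_lt_card hbt
      (fun h2 h1 => S.not_two hirr (by rw [hb, h2, h1]; rfl)) hpp
    exact (S.dl_of_sys π hπ (hlin X S.W b le_rfl hb hXirr) (dl_permBound S.prim_range hperm)).mono hle
  · obtain ⟨d, hd0, hQ, hde, -, hgal, hgal0⟩ := D.exists_degree hq hV
    by_cases hne : D.C ≤ D.Z
    · exact (D.dl_of_le hne hgal).mono hB
    obtain ⟨r, M, hr2, hr⟩ := D.exists_data hne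
    obtain ⟨s, hle, hs⟩ := hsemi d _ r hde (Nat.pos_of_ne_zero hd0) Module.finrank_pos hr2 (D.dvd_finrank hr hne) fun s hs hsr => by
      rw [← hQ]; exact (D.prime_dvd hr hne hs hsr).trans D.card_Z_dvd
    refine (D.dl_group M hne ?_ (D.dl_XC M hne hs)).mono hle
    split_ifs with h
    · exact hgal0 h
    · exact hgal

omit [Finite A] [Group.IsSolvable A] [FaithfulSMul A V] in
theorem pow_dvd_pow_cases {q q' k c : ℕ} (hq : q.Prime) (hq' : q'.Prime) (h : q ^ k ∣ q' ^ c) :
    k = 0 ∨ (q = q' ∧ k ≤ c) := by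
  rcases Nat.eq_zero_or_pos k with hk | hk
  · exact Or.inl hk
  have : q = q' := (Nat.prime_dvd_prime_iff_eq hq hq').1
    (hq.dvd_of_dvd_pow ((dvd_pow_self q hk.ne').trans h))
  subst this
  exact Or.inr ⟨rfl, (Nat.pow_dvd_pow_iff_le_right hq.one_lt).1 h⟩

/-- Dimension at most five over two elements. -/
theorem lin_two_five : Lin.{u} 2 5 3 := by
  intro A V _ _ _ _ _ _ _ m hm hV hirr
  refine dl_irr hirr Nat.prime_two hV (by norm_num) (fun b t hb ht hbt h1 _ => ?_)
    (fun d e r hde hd he hr hre hdiv => ?_)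
  · have hb2 : 2 ≤ b := by have := h1 rfl; omega
    have : b * t ≤ 5 := hbt ▸ hm
    have : t ≤ 2 := by nlinarith
    have : b ≤ 2 := by nlinarith
    refine ⟨2, 1, le_rfl, ?_, Or.inl ⟨‹_›, le_rfl⟩⟩
    intro X W _ _ _ _ _ _ _ k hk hW _
    refine dl_four (V := W) ?_
    rw [hW]
    exact (Nat.pow_le_pow_right (by norm_num) (hk.trans ‹b ≤ 2›)).trans (by norm_num)
  · exfalso
    have hre' := Nat.le_of_dvd he hre
    have hd2 : d = 1 ∨ d = 2 := by
      have : d * 2 ≤ d * e := Nat.mul_le_mul_left d (by omega)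
      omega
    rcases hd2 with rfl | rfl
    · have h1 := hdiv _ (Nat.minFac_prime (show r ≠ 1 by omega)) (Nat.minFac_dvd r)
      norm_num at h1
      omega
    · have : r = 2 := by omega
      subst this
      have h1 := hdiv 2 Nat.prime_two dvd_rfl
      norm_num at h1

/-- Pieces of a socle of prime power degree. -/
theorem pieces_of_pow {r q c s : ℕ} (hq : q.Prime) (hr : r * r = q ^ c) (h : Lin.{u} q c s) :
    Pieces.{u} r s := by
  refine Or.inr (Or.inr fun q' k hq' hk => ?_)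
  rw [hr] at hk
  rcases pow_dvd_pow_cases hq' hq hk with rfl | ⟨rfl, hkc⟩
  · intro A V _ _ _ _ _ _ _ m hm hV _
    haveI : Subsingleton V := Finite.card_le_one_iff_subsingleton.1 (by
      rw [hV, Nat.le_zero.1 hm, pow_zero])
    haveI : Subsingleton A := ⟨fun a c => eq_of_smul_eq_smul fun v : V => Subsingleton.elim _ _⟩
    exact dl_of_subsingleton s
  · exact h.mono hkc le_rfl

/-- Dimension two. -/
theorem lin_two (q : ℕ) (hq : q.Prime) : Lin.{u} q 2 4 := by
  intro A V _ _ _ _ _ _ _ m hm hV hirr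
  refine dl_irr hirr hq hV (by norm_num) (fun b t hb ht hbt _ _ => ?_)
    (fun d e r hde hd he hr hre _ => ?_)
  · have : b * t ≤ 2 := hbt ▸ hm
    refine ⟨1, 1, by norm_num, (lin_one q hq).mono (by nlinarith) le_rfl, Or.inl ⟨by nlinarith, le_rfl⟩⟩
  · have hre' := Nat.le_of_dvd he hre
    have : d * e ≤ 2 := hde ▸ hm
    have : d * 2 ≤ d * e := Nat.mul_le_mul_left d (by omega)
    obtain rfl : d = 1 := by omega
    obtain rfl : r = 2 := by omega
    exact ⟨2, by norm_num, Or.inl ⟨rfl, le_rfl⟩⟩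

/-- Dimension four. -/
theorem lin_four (q : ℕ) (hq : q.Prime) : Lin.{u} q 4 5 := by
  intro A V _ _ _ _ _ _ _ m hm hV hirr
  refine dl_irr hirr hq hV (by norm_num) (fun b t hb ht hbt _ _ => ?_)
    (fun d e r hde hd he hr hre _ => ?_)
  · have hbt' : b * t ≤ 4 := hbt ▸ hm
    rcases Nat.lt_or_ge b 2 with hb2 | hb2
    · exact ⟨1, 3, by norm_num, (lin_one q hq).mono (by omega) le_rfl,
        Or.inr (Or.inr (Or.inl ⟨by nlinarith, le_rfl⟩))⟩
    · exact ⟨4, 1, by norm_num, (lin_two q hq).mono (by nlinarith) le_rfl, Or.inl ⟨by nlinarith, le_rfl⟩⟩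
  · have hre' := Nat.le_of_dvd he hre
    have : d * e ≤ 4 := hde ▸ hm
    have hdr : d * r ≤ d * e := Nat.mul_le_mul_left d hre'
    have hr4 : r ≤ 4 := by nlinarith
    interval_cases r
    · refine ⟨2, ?_, Or.inl ⟨rfl, le_rfl⟩⟩
      split_ifs <;> norm_num
    · obtain rfl : d = 1 := by omega
      exact ⟨3, by norm_num, Or.inr (Or.inl ⟨rfl, le_rfl⟩)⟩
    · obtain rfl : d = 1 := by omega
      exact ⟨3, by norm_num, pieces_of_pow (q := 2) (c := 4) Nat.prime_two (by norm_num)
        (lin_two_five.mono (by norm_num) le_rfl)⟩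

/-- Dimension five over three elements. -/
theorem lin_three_five : Lin.{u} 3 5 5 := by
  intro A V _ _ _ _ _ _ _ m hm hV hirr
  refine dl_irr hirr Nat.prime_three hV (by norm_num) (fun b t hb ht hbt _ _ => ?_)
    (fun d e r hde hd he hr hre hdiv => ?_)
  · have hbt' : b * t ≤ 5 := hbt ▸ hm
    rcases Nat.lt_or_ge b 2 with hb2 | hb2
    · exact ⟨1, 3, by norm_num, (lin_one 3 Nat.prime_three).mono (by omega) le_rfl,
        Or.inr (Or.inr (Or.inl ⟨by nlinarith, le_rfl⟩))⟩
    · exact ⟨4, 1, by norm_num, (lin_two 3 Nat.prime_three).mono (by nlinarith) le_rfl,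
        Or.inl ⟨by nlinarith, le_rfl⟩⟩
  · have hre' := Nat.le_of_dvd he hre
    have : d * e ≤ 5 := hde ▸ hm
    have hdr : d * r ≤ d * e := Nat.mul_le_mul_left d hre'
    have hr5 : r ≤ 5 := by nlinarith
    interval_cases r
    · refine ⟨2, ?_, Or.inl ⟨rfl, le_rfl⟩⟩
      split_ifs <;> norm_num
    · obtain rfl : d = 1 := by omega
      exact absurd (hdiv 3 Nat.prime_three dvd_rfl) (by norm_num)
    · obtain rfl : d = 1 := by omega
      exact ⟨3, by norm_num, pieces_of_pow (q := 2) (c := 4) Nat.prime_two (by norm_num)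
        (lin_two_five.mono (by norm_num) le_rfl)⟩
    · obtain rfl : d = 1 := by omega
      exact absurd (hdiv 5 (by norm_num) dvd_rfl) (by norm_num)

/-- Over two elements the degree of the socle is three when the dimension is at most fourteen. -/
theorem degree_two {d e r : ℕ} (hd : 0 < d) (hde : d * e ≤ 14) (he : 0 < e) (hr : 2 ≤ r) (hre : r ∣ e)
    (hdiv : ∀ s, s.Prime → s ∣ r → s ∣ 2 ^ d - 1) : r = 3 ∧ 2 ≤ d ∧ 6 ≤ d * e := by
  have hre' := Nat.le_of_dvd he hre
  have hdr : d * r ≤ d * e := Nat.mul_le_mul_left d hre'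
  have hd7 : d ≤ 7 := by nlinarith
  have hr14 : r ≤ 14 := by nlinarith
  have hs := hdiv _ (Nat.minFac_prime (show r ≠ 1 by omega)) (Nat.minFac_dvd r)
  interval_cases d <;> interval_cases r <;> (try norm_num at hs) <;> (try norm_num) <;>
    omega

/-- Dimension fourteen over two elements; at most eleven gives one less. -/
theorem lin_two_eleven : Lin.{u} 2 11 6 := by
  intro A V _ _ _ _ _ _ _ m hm hV hirr
  refine dl_irr hirr Nat.prime_two hV (by norm_num) (fun b t hb ht hbt h1 _ => ?_)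
    (fun d e r hde hd he hr hre hdiv => ?_)
  · have hb2 : 2 ≤ b := by have := h1 rfl; omega
    have : b * t ≤ 11 := hbt ▸ hm
    exact ⟨3, 3, le_rfl, lin_two_five.mono (by nlinarith) le_rfl,
      Or.inr (Or.inr (Or.inl ⟨by nlinarith, le_rfl⟩))⟩
  · obtain ⟨rfl, hd2, -⟩ := degree_two hd (by omega) he hr hre hdiv
    exact ⟨3, by rw [if_neg (by omega)], Or.inr (Or.inl ⟨rfl, le_rfl⟩)⟩

theorem lin_two_fourteen : Lin.{u} 2 14 7 := by
  intro A V _ _ _ _ _ _ _ m hm hV hirr
  refine dl_irr hirr Nat.prime_two hV (by norm_num) (fun b t hb ht hbt h1 _ => ?_)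
    (fun d e r hde hd he hr hre hdiv => ?_)
  · have hb2 : 2 ≤ b := by have := h1 rfl; omega
    have : b * t ≤ 14 := hbt ▸ hm
    rcases Nat.lt_or_ge b 6 with hb6 | hb6
    · exact ⟨3, 3, by norm_num, lin_two_five.mono (by omega) le_rfl,
        Or.inr (Or.inr (Or.inl ⟨by nlinarith, le_rfl⟩))⟩
    · exact ⟨6, 1, le_rfl, lin_two_eleven.mono (by nlinarith) le_rfl, Or.inl ⟨by nlinarith, le_rfl⟩⟩
  · obtain ⟨rfl, hd2, -⟩ := degree_two hd (by omega) he hr hre hdiv
    exact ⟨3, by rw [if_neg (by omega)]; norm_num, Or.inr (Or.inl ⟨rfl, le_rfl⟩)⟩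

/-- Dimension ten over three elements. -/
theorem lin_three_ten : Lin.{u} 3 10 8 := by
  intro A V _ _ _ _ _ _ _ m hm hV hirr
  refine dl_irr hirr Nat.prime_three hV (by norm_num) (fun b t hb ht hbt _ hpp => ?_)
    (fun d e r hde hd he hr hre hdiv => ?_)
  · have hbt' : b * t ≤ 10 := hbt ▸ hm
    rcases Nat.lt_or_ge b 2 with hb2 | hb2
    · rcases Nat.lt_or_ge t 8 with ht8 | ht8
      · exact ⟨1, 3, by norm_num, (lin_one 3 Nat.prime_three).mono (by omega) le_rfl,
          Or.inr (Or.inr (Or.inl ⟨by omega, le_rfl⟩))⟩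
      · refine ⟨1, 6, by norm_num, (lin_one 3 Nat.prime_three).mono (by omega) le_rfl,
          Or.inr (Or.inr (Or.inr ⟨5, le_rfl, fun q k hq hk => (lin_four q hq).mono ?_ le_rfl⟩))⟩
        by_contra hk4
        have h1 := Nat.pow_le_pow_left hq.two_le k
        have h2 := Nat.pow_le_pow_right (show 0 < 2 by norm_num) (show 5 ≤ k by omega)
        have : t ≤ 10 := by nlinarith
        omega
    rcases Nat.lt_or_ge b 3 with hb3 | hb3
    · exact ⟨4, 3, by norm_num, (lin_two 3 Nat.prime_three).mono (by omega) le_rfl,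
        Or.inr (Or.inr (Or.inl ⟨by nlinarith, le_rfl⟩))⟩
    · exact ⟨5, 2, by norm_num, lin_three_five.mono (by nlinarith) le_rfl,
        Or.inr (Or.inl ⟨by nlinarith, le_rfl⟩)⟩
  · have hre' := Nat.le_of_dvd he hre
    have : d * e ≤ 10 := hde ▸ hm
    have hdr : d * r ≤ d * e := Nat.mul_le_mul_left d hre'
    have hr10 : r ≤ 10 := by nlinarith
    have hd5 : d ≤ 5 := by nlinarith
    rcases Nat.lt_or_ge d 2 with hd2 | hd2
    · obtain rfl : d = 1 := by omega
      have hbad : ∀ s, s.Prime → s ∣ r → s = 2 := fun s hs hsr =>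
        (Nat.prime_dvd_prime_iff_eq hs Nat.prime_two).1 (by simpa using hdiv s hs hsr)
      interval_cases r
      · exact ⟨2, by norm_num, Or.inl ⟨rfl, le_rfl⟩⟩
      · exact absurd (hbad 3 Nat.prime_three (by norm_num)) (by norm_num)
      · exact ⟨3, by norm_num, pieces_of_pow (q := 2) (c := 4) Nat.prime_two (by norm_num)
          (lin_two_five.mono (by norm_num) le_rfl)⟩
      · exact absurd (hbad 5 (by norm_num) (by norm_num)) (by norm_num)
      · exact absurd (hbad 3 Nat.prime_three (by norm_num)) (by norm_num)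
      · exact absurd (hbad 7 (by norm_num) (by norm_num)) (by norm_num)
      · exact ⟨6, by norm_num, pieces_of_pow (q := 2) (c := 6) Nat.prime_two (by norm_num)
          (lin_two_eleven.mono (by norm_num) le_rfl)⟩
      · exact absurd (hbad 3 Nat.prime_three (by norm_num)) (by norm_num)
      · exact absurd (hbad 5 (by norm_num) (by norm_num)) (by norm_num)
    · have hr5 : r ≤ 5 := by nlinarith
      interval_cases r
      · refine ⟨2, ?_, Or.inl ⟨rfl, le_rfl⟩⟩
        split_ifs <;> norm_num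
      · refine ⟨3, ?_, Or.inr (Or.inl ⟨rfl, le_rfl⟩)⟩
        split_ifs <;> norm_num
      · refine ⟨3, ?_, pieces_of_pow (q := 2) (c := 4) Nat.prime_two (by norm_num)
          (lin_two_five.mono (by norm_num) le_rfl)⟩
        split_ifs <;> norm_num
      · exfalso
        obtain rfl : d = 2 := by omega
        exact absurd (hdiv 5 (by norm_num) dvd_rfl) (by norm_num)

/-- Dimension six over five elements. -/
theorem lin_five_six : Lin.{u} 5 6 8 := by
  intro A V _ _ _ _ _ _ _ m hm hV hirr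
  have h5 : Nat.Prime 5 := by norm_num
  refine dl_irr hirr h5 hV (by norm_num) (fun b t hb ht hbt _ _ => ?_)
    (fun d e r hde hd he hr hre hdiv => ?_)
  · have hbt' : b * t ≤ 6 := hbt ▸ hm
    exact ⟨5, 3, le_rfl, (lin_four 5 h5).mono (by nlinarith) le_rfl,
      Or.inr (Or.inr (Or.inl ⟨by nlinarith, le_rfl⟩))⟩
  · have hre' := Nat.le_of_dvd he hre
    have : d * e ≤ 6 := hde ▸ hm
    have hdr : d * r ≤ d * e := Nat.mul_le_mul_left d hre'
    have hr6 : r ≤ 6 := by nlinarith
    interval_cases r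
    · refine ⟨2, ?_, Or.inl ⟨rfl, le_rfl⟩⟩
      split_ifs <;> norm_num
    · refine ⟨3, ?_, Or.inr (Or.inl ⟨rfl, le_rfl⟩)⟩
      split_ifs <;> norm_num
    · refine ⟨3, ?_, pieces_of_pow (q := 2) (c := 4) Nat.prime_two (by norm_num)
        (lin_two_five.mono (by norm_num) le_rfl)⟩
      split_ifs <;> norm_num
    · exfalso
      obtain rfl : d = 1 := by omega
      exact absurd (hdiv 5 h5 dvd_rfl) (by norm_num)
    · refine ⟨4, ?_, Or.inr (Or.inr fun q k hq hk => (lin_two q hq).mono ?_ le_rfl)⟩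
      · split_ifs <;> norm_num
      · by_contra hk2
        have h1 : q ^ 3 ∣ 36 := (pow_dvd_pow q (show 3 ≤ k by omega)).trans hk
        have h2 : q ^ 3 ≤ 36 := Nat.le_of_dvd (by norm_num) h1
        have h3 : q ≤ 3 := by
          by_contra hq4
          have := Nat.pow_le_pow_left (show 4 ≤ q by omega) 3
          omega
        have := hq.two_le
        interval_cases q <;> norm_num at h1

/-- Six dimensions over two elements: either short, or of order dividing `1296`. -/
theorem six_two_cases (hcr : CR A V) (hV : Nat.card V = 2 ^ 6) :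
    DL A 5 ∨ (DL A 6 ∧ Nat.card A ∣ 1296) := by
  haveI : Nontrivial V := Finite.one_lt_card_iff_nontrivial.1 (by rw [hV]; norm_num)
  by_cases hirr : Irr A V
  swap
  · refine Or.inl (cr_split hcr hirr fun X T _ _ _ _ _ _ _ hdvd hlt hc => ?_)
    rw [hV] at hdvd hlt
    obtain ⟨i, -, hi⟩ := (Nat.dvd_prime_pow Nat.prime_two).1 hdvd
    rw [hi] at hlt
    have hi5 : i ≤ 5 := by
      have := (Nat.pow_lt_pow_iff_right (by norm_num : 1 < 2)).1 hlt
      omega
    refine (dl_of_cr (b := 3) (Nat.card T) X T le_rfl hc fun q k hq hk => ?_).mono (by norm_num)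
    rw [hi] at hk
    rcases pow_dvd_pow_cases hq Nat.prime_two hk with rfl | ⟨rfl, hkc⟩
    · exact ((lin_one q hq).mono (Nat.zero_le 1) le_rfl).mono le_rfl (by norm_num)
    · exact lin_two_five.mono (hkc.trans hi5) le_rfl
  rcases sys_or_semi hirr with ⟨⟨S⟩⟩ | ⟨⟨D⟩⟩
  · left
    haveI := S.nontrivial_W
    obtain ⟨b, -, hb⟩ := (Nat.dvd_prime_pow Nat.prime_two).1 (hV ▸ S.W.card_addSubgroup_dvd_card)
    have h2 : 1 < Nat.card S.W := Finite.one_lt_card
    have hb1 : b ≠ 1 := fun h => S.not_two hirr (by rw [hb, h]; rfl)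
    have hb0 : b ≠ 0 := fun h => by rw [hb, h, pow_zero] at h2; omega
    have hbt : b * Nat.card S.Ω = 6 := by
      have h1 := S.card_eq
      rw [hV, hb, ← pow_mul] at h1
      exact (Nat.pow_right_injective (le_refl 2) h1).symm
    have ht : 2 ≤ Nat.card S.Ω := Finite.one_lt_card
    obtain ⟨X, _, _, _, _, _, π, hπ, hXirr, -⟩ := S.exists_image hirr
    let ρ := MulAction.toPermHom A S.Ω
    haveI : Group.IsSolvable ρ.range := Group.isSolvable_of_surjective ρ.rangeRestrict_surjective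
    rcases (show b = 2 ∨ b = 3 by
        have : b ≤ 3 := by nlinarith
        omega) with rfl | rfl
    · refine (S.dl_of_sys π hπ (dl_four (A := X) (V := S.W) (by rw [hb]; norm_num))
        (dl_permBound S.prim_range (β := 2) (Or.inr (Or.inl ⟨by omega, le_rfl⟩)))).mono (by norm_num)
    · refine (S.dl_of_sys π hπ (lin_two_five X S.W 3 (by norm_num) hb hXirr)
        (dl_permBound S.prim_range (β := 1) (Or.inl ⟨by omega, le_rfl⟩))).mono (by norm_num)
  · obtain ⟨d, hd0, hQ, hde, hdvd, hgal, -⟩ := D.exists_degree Nat.prime_two hV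
    by_cases hne : D.C ≤ D.Z
    · exact Or.inl ((D.dl_of_le hne hgal).mono (by norm_num))
    obtain ⟨r, M, hr2, hr⟩ := D.exists_data hne
    obtain ⟨rfl, hd2, -⟩ := degree_two (Nat.pos_of_ne_zero hd0) (by omega) Module.finrank_pos hr2
      (D.dvd_finrank hr hne) fun s hs hsr => by
        rw [← hQ]; exact (D.prime_dvd hr hne hs hsr).trans D.card_Z_dvd
    right
    refine ⟨(D.dl_group M hne hgal (D.dl_XC_three M hne)).mono (by norm_num), ?_⟩
    have h3e : 3 ≤ Module.finrank D.K V := Nat.le_of_dvd Module.finrank_pos (D.dvd_finrank hr hne)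
    obtain rfl : d = 2 := by nlinarith
    rw [D.card_eq M hr hne]
    have hz : Nat.card D.Z ∣ 3 := by
      have := D.card_Z_dvd
      rw [hQ] at this
      simpa using this
    exact Nat.mul_dvd_mul hdvd (Nat.mul_dvd_mul (Nat.mul_dvd_mul hz dvd_rfl) (D.card_XC_three M hne))

end Cfsg.Lib.DerBound
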