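import Cfsg.Agent.DerBound.SemiSocle

/-!
For a socle of degree three the centraliser acts with determinant one.
-/

set_option autoImplicit false
set_option linter.unusedSectionVars false
set_option linter.style.haveILetI false

namespace Cfsg.Lib.DerBound

open Cfsg.Lib.OddBase Cfsg.Lib.SolvBase

universe u

/-- Coordinates in a basis of determinant one over three elements. -/
theorem plane_solve : ∀ a b c d p q : ZMod 3, a * d + 2 * (b * c) = 1 →
    (p, q) = ((p * d + 2 * (q * c)) * a + (q * a + 2 * (p * b)) * c,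
      (p * d + 2 * (q * c)) * b + (q * a + 2 * (p * b)) * d) := by
  decide +kernel

variable {A V : Type u} [Group A] [Finite A] [AddCommGroup V] [Finite V] [DistribMulAction A V]
  [FaithfulSMul A V] [Group.IsSolvable A]

namespace Semi

variable (D : Semi A V)

theorem card_XC_three (M : SocMod A D.Z 3) (hne : ¬ D.C ≤ D.Z) : Nat.card (D.XC M) ∣ 24 := by
  classical
  have hexp : ∀ x : M.W, 3 • x = 0 := M.exp 3 2 Nat.prime_three (by norm_num)
  let cl : D.L → M.W := M.cl
  have hmul : ∀ l m, cl (l * m) = cl l + cl m := M.cl_mul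
  have hzero : ∀ l, cl l = 0 ↔ (l : A) ∈ D.Z := M.cl_zero
  have hclpow : ∀ (l : D.L) (i : ℕ), cl (l ^ i) = i • cl l := by
    intro l i
    induction i with
    | zero => rw [pow_zero, zero_nsmul]; exact (hzero 1).2 (one_mem D.Z)
    | succ i ih => rw [pow_succ, hmul, ih, succ_nsmul]
  have hformZ : ∀ (l z : D.L), (z : A) ∈ D.Z → form D.ι l z = 1 := fun l z hz =>
    (form_eq_one D.ι_inj l z).2 (socle_central l.2 hz).symm
  have hform_congr : ∀ l l' m m' : D.L, cl l = cl l' → cl m = cl m' →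
      form D.ι l m = form D.ι l' m' := by
    intro l l' m m' h1 h2
    have e1 : ((l'⁻¹ * l : D.L) : A) ∈ D.Z := (hzero _).1 (by
      have := hmul l' (l'⁻¹ * l)
      rw [mul_inv_cancel_left, h1] at this
      exact left_eq_add.1 this)
    have e2 : ((m'⁻¹ * m : D.L) : A) ∈ D.Z := (hzero _).1 (by
      have := hmul m' (m'⁻¹ * m)
      rw [mul_inv_cancel_left, h2] at this
      exact left_eq_add.1 this)
    calc form D.ι l m = form D.ι l (m' * (m'⁻¹ * m)) := by rw [mul_inv_cancel_left]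
      _ = form D.ι l m' := by rw [form_mul_right, hformZ l _ e2, mul_one]
      _ = form D.ι (l' * (l'⁻¹ * l)) m' := by rw [mul_inv_cancel_left]
      _ = form D.ι l' m' := by
        rw [form_mul_left, form_swap D.ι m' (l'⁻¹ * l), hformZ m' _ e1, inv_one, mul_one]
  obtain ⟨l, hl⟩ : ∃ l : D.L, (l : A) ∉ D.Z := by
    by_contra hc
    push Not at hc
    exact not_le_of_gt (exists_socle hne) fun x hx => hc ⟨x, hx⟩
  obtain ⟨m, hlm⟩ : ∃ m : D.L, form D.ι l m ≠ 1 := by
    by_contra hc
    push Not at hc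
    exact hl ((socle_center D.maxAb hne).le ⟨l.2, Subgroup.mem_centralizer_iff.2 fun m hm =>
      ((form_eq_one D.ι_inj l ⟨m, hm⟩).1 (hc _)).symm⟩)
  set f := form D.ι l m with hf
  have hll : form D.ι l l = 1 := (form_eq_one D.ι_inj l l).2 rfl
  have hmm : form D.ι m m = 1 := (form_eq_one D.ι_inj m m).2 rfl
  have hf3 : f ^ 3 = 1 := by
    rw [hf, ← form_pow_left]
    rw [form_swap D.ι m (l ^ 3), hformZ m _ ((hzero _).1 (by rw [hclpow, hexp])), inv_one]
  have hord : orderOf f = 3 := by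
    haveI : Fact (Nat.Prime 3) := ⟨Nat.prime_three⟩
    exact orderOf_eq_prime hf3 hlm
  have hmod : ∀ i j : ℕ, f ^ i = f ^ j ↔ (i : ZMod 3) = (j : ZMod 3) := fun i j => by
    rw [pow_eq_pow_iff_modEq, hord, ZMod.natCast_eq_natCast_iff]
  have hml : form D.ι m l = f ^ 2 := by
    rw [form_swap D.ι l m, ← hf]
    refine inv_eq_of_mul_eq_one_right ?_
    rw [← pow_succ', hf3]
  have hgen : ∀ a b c d : ℕ, form D.ι (l ^ a * m ^ b) (l ^ c * m ^ d) = f ^ (a * d + 2 * (b * c)) := by
    intro a b c d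
    rw [form_mul_left, form_mul_right, form_mul_right]
    simp only [form_pow_left, form_pow_right, hll, hmm, hml, ← hf, one_pow, one_mul, mul_one,
      ← pow_mul, ← pow_add]
    congr 1
    ring
  let co : ZMod 3 × ZMod 3 → M.W := fun p => cl (l ^ p.1.val * m ^ p.2.val)
  have hco : Function.Injective co := by
    intro p q h
    have h1 := hform_congr _ _ (l ^ 0 * m ^ 1) (l ^ 0 * m ^ 1) h rfl
    have h2 := hform_congr _ _ (l ^ 1 * m ^ 0) (l ^ 1 * m ^ 0) h rfl
    rw [hgen, hgen, hmod] at h1 h2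
    simp at h1 h2
    exact Prod.ext h1 (h2.resolve_right (by decide))
  have hbij : Function.Bijective co := by
    refine (Nat.bijective_iff_injective_and_card co).2 ⟨hco, ?_⟩
    rw [M.cardW, Nat.card_prod, Nat.card_zmod]
  let P : Set (M.W × M.W) := {t | ∀ a b : D.L, cl a = t.1 → cl b = t.2 → form D.ι a b = f}
  have hPcard : Nat.card P = 24 := by
    have e : {t : (ZMod 3 × ZMod 3) × (ZMod 3 × ZMod 3) // t.1.1 * t.2.2 + 2 * (t.1.2 * t.2.1) = 1} ≃ P := by
      refine Equiv.subtypeEquiv (Equiv.prodCongr (Equiv.ofBijective co hbij) (Equiv.ofBijective co hbij)) ?_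
      rintro ⟨⟨a, b⟩, c, d⟩
      simp only [Equiv.prodCongr_apply, Prod.map_apply, Equiv.ofBijective_apply]
      constructor
      · intro h a' b' ha hb
        rw [hform_congr _ _ _ _ ha hb, hgen]
        conv_rhs => rw [← pow_one f]
        rw [hmod]
        simpa using h
      · intro h
        have h1 := h _ _ rfl rfl
        rw [hgen] at h1
        conv_rhs at h1 => rw [← pow_one f]
        rw [hmod] at h1
        simpa using h1
    rw [← Nat.card_congr e, Nat.card_eq_fintype_card]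
    decide
  let act : D.XC M → P → P := fun g t => ⟨((g : M.X) • t.1.1, (g : M.X) • t.1.2), by
    intro a b ha hb
    obtain ⟨x, hx, hgx⟩ := g.2
    have hconj : ∀ c : D.L, (x⁻¹ * c * x : A) ∈ D.L := fun c => by
      simpa using (socle_normal D.Z D.C).conj_mem _ c.2 x⁻¹
    have hcl : ∀ c : D.L, (g : M.X) • cl ⟨_, hconj c⟩ = cl c := fun c => by
      rw [← hgx]
      exact (M.cl_conj x ⟨_, hconj c⟩ c (by simp [mul_assoc])).symm
    have h1 : cl ⟨_, hconj a⟩ = t.1.1 := MulAction.injective (g : M.X) ((hcl a).trans ha)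
    have h2 : cl ⟨_, hconj b⟩ = t.1.2 := MulAction.injective (g : M.X) ((hcl b).trans hb)
    rw [← t.2 _ _ h1 h2, form, form]
    congr 1
    apply Subtype.ext
    have hz : (a : A) * b * (a : A)⁻¹ * (b : A)⁻¹ ∈ D.Z :=
      socle_comm (Subgroup.commutator_mem_commutator a.2 b.2)
    have hx' := Subgroup.mem_centralizer_iff.1 hx _ hz
    change (a : A) * b * (a : A)⁻¹ * (b : A)⁻¹ =
      x⁻¹ * a * x * (x⁻¹ * b * x) * (x⁻¹ * a * x)⁻¹ * (x⁻¹ * b * x)⁻¹
    calc (a : A) * b * (a : A)⁻¹ * (b : A)⁻¹ = x⁻¹ * (x * ((a : A) * b * (a : A)⁻¹ * (b : A)⁻¹)) := by group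
      _ = x⁻¹ * (((a : A) * b * (a : A)⁻¹ * (b : A)⁻¹) * x) := by rw [hx']
      _ = _ := by group⟩
  letI : MulAction (D.XC M) P :=
    { smul := act
      one_smul := fun t => Subtype.ext (Prod.ext (one_smul M.X t.1.1) (one_smul M.X t.1.2))
      mul_smul := fun g h t => Subtype.ext
        (Prod.ext (mul_smul (g : M.X) (h : M.X) t.1.1) (mul_smul (g : M.X) (h : M.X) t.1.2)) }
  have hfree : ∀ t : P, MulAction.stabilizer (D.XC M) t = ⊥ := by
    intro t
    rw [eq_bot_iff]
    intro g hg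
    have h1 : (g : M.X) • t.1.1 = t.1.1 := congrArg (fun s : P => s.1.1) hg
    have h2 : (g : M.X) • t.1.2 = t.1.2 := congrArg (fun s : P => s.1.2) hg
    refine Subgroup.mem_bot.2 (Subtype.ext (eq_of_smul_eq_smul fun w : M.W => ?_))
    change (g : M.X) • w = (1 : M.X) • w
    rw [one_smul]
    obtain ⟨⟨a, b⟩, hab⟩ := hbij.2 t.1.1
    obtain ⟨⟨c, d⟩, hcd⟩ := hbij.2 t.1.2
    have hdet : a * d + 2 * (b * c) = 1 := by
      have h3 := t.2 _ _ hab hcd
      rw [hgen] at h3
      conv_rhs at h3 => rw [← pow_one f]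
      rw [hmod] at h3
      simpa using h3
    have hlin : ∀ (p : ZMod 3 × ZMod 3), co p = p.1.val • cl l + p.2.val • cl m := fun p => by
      change cl _ = _
      rw [hmul, hclpow, hclpow]
    have hcomb : ∀ i j : ZMod 3, co (i * a + j * c, i * b + j * d) =
        i.val • t.1.1 + j.val • t.1.2 := by
      intro i j
      have hred : ∀ (x : M.W) (u v : ℕ), (u : ZMod 3) = (v : ZMod 3) → u • x = v • x := by
        intro x u v huv
        have hx : addOrderOf x ∣ 3 := addOrderOf_dvd_of_nsmul_eq_zero (hexp x)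
        exact nsmul_eq_nsmul_iff_modEq.2 (Nat.ModEq.of_dvd hx ((ZMod.natCast_eq_natCast_iff _ _ _).1 huv))
      rw [← hab, ← hcd, hlin, hlin, hlin, smul_add, smul_add, smul_smul, smul_smul, smul_smul,
        smul_smul, add_add_add_comm, ← add_smul, ← add_smul]
      congr 1 <;> refine hred _ _ _ ?_ <;> simp
    obtain ⟨⟨p, q⟩, hpq⟩ := hbij.2 w
    have hsol := plane_solve a b c d p q hdet
    rw [← hpq, hsol, hcomb, smul_add, smul_comm (g : M.X) (_ : ℕ), smul_comm (g : M.X) (_ : ℕ), h1, h2]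
  haveI := Fintype.ofFinite (D.XC M)
  haveI := Fintype.ofFinite P
  have h := MulAction.selfEquivSigmaOrbits (D.XC M) P
  rw [← hPcard, Nat.card_congr h]
  haveI : Fintype (MulAction.orbitRel.Quotient (D.XC M) P) := Fintype.ofFinite _
  rw [Nat.card_sigma]
  refine Finset.dvd_sum fun t _ => dvd_of_eq ?_
  rw [Nat.card_coe_set_eq, ← MulAction.index_stabilizer, hfree, Subgroup.index_bot]

theorem dl_XC_three (M : SocMod A D.Z 3) (hne : ¬ D.C ≤ D.Z) : DL (D.XC M) 3 :=
  dl_card_dvd_twentyfour (D.card_XC_three M hne)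

end Semi

end Cfsg.Lib.DerBound
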