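import Cfsg.Agent.DerBound.Profile
import Cfsg.Agent.DerBound.SLThree

/-!
The recursion for derived lengths of solvable linear groups of small dimension.
-/

set_option autoImplicit false
set_option linter.unusedSectionVars false
set_option linter.style.haveILetI false

namespace Cfsg.Lib.DerBound

open Cfsg.Lib.OddBase

universe u

/-- Irreducible solvable groups in dimension at most `n` over the prime `q` have derived length
at most `b`. -/
def Lin (q n b : ℕ) : Prop :=
  ∀ (A V : Type u) [Group A] [Finite A] [Group.IsSolvable A] [AddCommGroup V] [Finite V]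
    [DistribMulAction A V] [FaithfulSMul A V] (m : ℕ), m ≤ n → Nat.card V = q ^ m → Irr A V → DL A b

theorem Lin.mono {q n n' b b' : ℕ} (h : Lin.{u} q n b) (hn : n' ≤ n) (hb : b ≤ b') : Lin.{u} q n' b' :=
  fun A V _ _ _ _ _ _ _ m hm hV hirr => (h A V m (hm.trans hn) hV hirr).mono hb

variable {A V : Type u} [Group A] [Finite A] [AddCommGroup V] [Finite V] [DistribMulAction A V]

/-- The image on an invariant subgroup. -/
theorem image_exists [Group.IsSolvable A] (hcr : CR A V) (T : AddSubgroup V)
    (hT : ∀ a : A, ∀ v ∈ T, a • v ∈ T) :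
    ∃ (X : Type u) (_ : Group X) (_ : Finite X) (_ : Group.IsSolvable X) (_ : DistribMulAction X T)
      (_ : FaithfulSMul X T) (π : A →* X), CR X T ∧ Function.Surjective π ∧ (∀ a : A, π a = 1 → ∀ v ∈ T, a • v = v) ∧
        ∀ (a : A) (x : T), ((π a • x : T) : V) = a • (x : V) := by
  letI : DistribMulAction A T :=
    { smul := fun a x => ⟨a • (x : V), hT a x x.2⟩
      one_smul := fun x => Subtype.ext (one_smul A (x : V))
      mul_smul := fun a b x => Subtype.ext (mul_smul a b (x : V))
      smul_zero := fun a => Subtype.ext (smul_zero a)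
      smul_add := fun a x y => Subtype.ext (smul_add a (x : V) y) }
  let π : A →* (AddMonoid.End T)ˣ := (act A T).toHomUnits
  let X := π.range
  haveI : Finite X := Finite.of_surjective _ π.rangeRestrict_surjective
  haveI : Group.IsSolvable X := Group.isSolvable_of_surjective π.rangeRestrict_surjective
  haveI : FaithfulSMul X T := ⟨fun {s t} h => Subtype.ext (Units.ext (AddMonoidHom.ext h))⟩
  refine ⟨X, inferInstance, inferInstance, inferInstance, inferInstance, inferInstance,
    π.rangeRestrict, ?_, π.rangeRestrict_surjective, fun a ha v hv => ?_, fun a x => rfl⟩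
  · intro S hS
    obtain ⟨R, hR, hSR, hSRs⟩ := hcr (S.map T.subtype) (by
      rintro a _ ⟨x, hx, rfl⟩
      exact ⟨a • x, hS ⟨π a, a, rfl⟩ x hx, rfl⟩)
    refine ⟨R.comap T.subtype, ?_, ?_, ?_⟩
    · rintro ⟨_, a, rfl⟩ x hx
      exact hR a x hx
    · rw [eq_bot_iff]
      rintro x ⟨hxS, hxR⟩
      have h2 : (x : V) ∈ S.map T.subtype ⊓ R :=
        AddSubgroup.mem_inf.2 ⟨⟨x, hxS, rfl⟩, hxR⟩
      rw [hSR] at h2
      exact AddSubgroup.mem_bot.2 (Subtype.ext (AddSubgroup.mem_bot.1 h2))
    · rw [eq_top_iff]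
      intro x _
      obtain ⟨_, ⟨s, hs, rfl⟩, r, hr, hsr⟩ := AddSubgroup.mem_sup.1
        (show (x : V) ∈ S.map T.subtype ⊔ R from hSRs ▸ AddSubgroup.mem_top _)
      have hrT : r ∈ T := by
        have : r = (x : V) - s := by rw [← hsr]; exact (add_sub_cancel_left (s : V) r).symm
        rw [this]
        exact sub_mem x.2 s.2
      exact AddSubgroup.mem_sup.2 ⟨s, hs, ⟨r, hrT⟩, hr, Subtype.ext hsr⟩
  · exact congrArg Subtype.val
      (DFunLike.congr_fun (congrArg Units.val (congrArg Subtype.val ha : π a = 1)) (⟨v, hv⟩ : T))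

/-- A reducible completely reducible group embeds in the product over two smaller modules. -/
theorem cr_split [Group.IsSolvable A] [FaithfulSMul A V] [Nontrivial V] (hcr : CR A V) (hirr : ¬ Irr A V)
    {b : ℕ} (ih : ∀ (X T : Type u) [Group X] [Finite X] [Group.IsSolvable X] [AddCommGroup T]
      [Finite T] [DistribMulAction X T] [FaithfulSMul X T], Nat.card T ∣ Nat.card V →
        Nat.card T < Nat.card V → CR X T → DL X b) : DL A b := by
  simp only [Irr, not_forall, not_or] at hirr
  obtain ⟨U, hU, h0, h1⟩ := hirr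
  obtain ⟨W, hW, hUW, hsup⟩ := hcr U hU
  have hW1 : W ≠ ⊤ := by
    rintro rfl
    exact h0 (by simpa using hUW)
  have hlt : ∀ T : AddSubgroup V, T ≠ ⊤ → Nat.card T < Nat.card V := fun T hT => by
    refine lt_of_le_of_ne (Nat.card_le_card_of_injective _ Subtype.val_injective) fun he => hT ?_
    exact AddSubgroup.eq_top_of_card_eq T he
  obtain ⟨X1, _, _, _, _, _, π1, hc1, -, hk1, -⟩ := image_exists hcr U hU
  obtain ⟨X2, _, _, _, _, _, π2, hc2, -, hk2, -⟩ := image_exists hcr W hW
  refine DL.of_injective (π1.prod π2) ?_ (dl_prod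
    (ih X1 U U.card_addSubgroup_dvd_card (hlt U h1) hc1)
    (ih X2 W W.card_addSubgroup_dvd_card (hlt W hW1) hc2))
  rw [injective_iff_map_eq_one]
  intro a ha
  refine eq_of_smul_eq_smul fun v : V => ?_
  rw [one_smul]
  obtain ⟨x, hx, y, hy, rfl⟩ := AddSubgroup.mem_sup.1
    (show v ∈ U ⊔ W from hsup ▸ AddSubgroup.mem_top _)
  rw [smul_add, hk1 a (congrArg Prod.fst ha) x hx, hk2 a (congrArg Prod.snd ha) y hy]

/-- The bound for irreducible constituents bounds completely reducible groups. -/
theorem dl_of_cr {b : ℕ} : ∀ (N : ℕ) (A V : Type u) [Group A] [Finite A] [Group.IsSolvable A]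
    [AddCommGroup V] [Finite V] [DistribMulAction A V] [FaithfulSMul A V], Nat.card V ≤ N → CR A V →
    (∀ q k : ℕ, q.Prime → q ^ k ∣ Nat.card V → Lin.{u} q k b) → DL A b := by
  intro N
  induction N with
  | zero => intro A V _ _ _ _ _ _ _ h; exact absurd h (not_le.2 Nat.card_pos)
  | succ N ih =>
  intro A V _ _ _ _ _ _ _ hN hcr hlin
  rcases subsingleton_or_nontrivial V with hs | hnt
  · haveI : Subsingleton A := ⟨fun a c => eq_of_smul_eq_smul fun v : V => Subsingleton.elim _ _⟩
    exact dl_of_subsingleton b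
  by_cases hirr : Irr A V
  · obtain ⟨p, hp, hexp⟩ := exists_prime_exp hirr
    obtain ⟨c, -, hc⟩ := card_eq_prime_pow hp hexp
    exact hlin p c hp (hc ▸ dvd_rfl) A V c le_rfl hc hirr
  · exact cr_split hcr hirr fun X T _ _ _ _ _ _ _ hdvd hlt hc =>
      ih X T (by omega) hc fun q k hq hk => hlin q k hq (hk.trans hdvd)

/-- One-dimensional groups are abelian. -/
theorem lin_one (q : ℕ) (hq : q.Prime) : Lin.{u} q 1 1 := by
  intro A V _ _ _ _ _ _ _ m hm hV _
  refine dl_of_comm fun a b => eq_of_smul_eq_smul fun x : V => ?_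
  have hcyc : IsAddCyclic V := by
    rcases (show m = 0 ∨ m = 1 by omega) with rfl | rfl
    · haveI : Subsingleton V := Finite.card_le_one_iff_subsingleton.1 (by rw [hV, pow_zero])
      exact isAddCyclic_of_subsingleton
    · haveI : Fact q.Prime := ⟨hq⟩
      exact isAddCyclic_of_prime_card (p := q) (by rw [hV, pow_one])
  obtain ⟨g, hg⟩ := hcyc.exists_generator
  obtain ⟨i, hi⟩ := AddSubgroup.mem_zmultiples_iff.1 (hg (a • g))
  obtain ⟨j, hj⟩ := AddSubgroup.mem_zmultiples_iff.1 (hg (b • g))
  obtain ⟨k, rfl⟩ := AddSubgroup.mem_zmultiples_iff.1 (hg x)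
  have key : ∀ (c : A) (n : ℤ) (y : V), c • (n • y) = n • (c • y) := fun c n y =>
    map_zsmul (DistribSMul.toAddMonoidHom V c) n y
  simp only [mul_smul, key, ← hi, ← hj]
  rw [smul_comm i j g]

/-- At most four vectors. -/
theorem dl_four [FaithfulSMul A V] (h : Nat.card V ≤ 4) : DL A 2 := by
  classical
  letI : MulAction A {v : V // v ≠ 0} :=
    { smul := fun a v => ⟨a • v.1, fun he => v.2 ((smul_eq_zero_iff_eq a).1 he)⟩
      one_smul := fun v => Subtype.ext (one_smul A v.1)
      mul_smul := fun a b v => Subtype.ext (mul_smul a b v.1) }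
  haveI := Fintype.ofFinite V
  refine DL.of_injective (MulAction.toPermHom A {v : V // v ≠ 0}) ?_ (dl_perm_three ?_)
  · intro a b he
    refine eq_of_smul_eq_smul fun v : V => ?_
    by_cases hv : v = 0
    · rw [hv, smul_zero, smul_zero]
    · exact congrArg Subtype.val (Equiv.Perm.congr_fun he ⟨v, hv⟩)
  · rw [Nat.card_eq_fintype_card, Fintype.card_subtype_compl, Fintype.card_subtype_eq,
      ← Nat.card_eq_fintype_card]
    omega

namespace Sys

variable (S : Sys A V)

theorem card_eq : Nat.card V = Nat.card S.W ^ Nat.card S.Ω := by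
  classical
  rw [← Nat.card_fun]
  refine (Nat.card_congr (Equiv.ofBijective S.vec ⟨S.vec_injective, fun x => ?_⟩)).symm
  have hmem : ∀ e : S.Ω, (S.gg e)⁻¹ • S.E e x ∈ S.W := fun e => by
    have h6 := S.component (S.gg e)⁻¹ e (S.E e x) (DFunLike.congr_fun (S.hid e) x)
    rw [show (S.gg e)⁻¹ • e = S.base by rw [inv_smul_eq_iff, S.gg_smul]] at h6
    exact h6
  refine ⟨fun e => ⟨_, hmem e⟩, ?_⟩
  change ∑ e, S.gg e • ((S.gg e)⁻¹ • S.E e x) = x
  simp only [smul_inv_smul]
  conv_rhs => rw [show x = (∑ e : S.Ω, S.E e) x by rw [S.hsum]; rfl]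
  exact (AddMonoidHom.finsetSum_apply _ _ _).symm

/-- The primitive group on the blocks. -/
theorem prim_range : MulAction.IsPreprimitive (MulAction.toPermHom A S.Ω).range S.Ω := by
  let F : S.Ω →ₑ[⇑(MulAction.toPermHom A S.Ω).rangeRestrict] S.Ω :=
    { toFun := id, map_smul' := fun _ _ => rfl }
  exact MulAction.IsPreprimitive.of_surjective (f := F) Function.surjective_id

/-- The image of the block stabiliser on its component. -/
theorem exists_image [Group.IsSolvable A] (hirr : Irr A V) :
    ∃ (X : Type u) (_ : Group X) (_ : Finite X) (_ : Group.IsSolvable X)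
      (_ : DistribMulAction X S.W) (_ : FaithfulSMul X S.W) (π : S.H →* X),
      (∀ (h : S.H) (w : S.W), π h • w = h • w) ∧ Irr X S.W ∧ Nat.card X < Nat.card A := by
  let π : S.H →* (AddMonoid.End S.W)ˣ := (Cfsg.Lib.OddBase.act S.H S.W).toHomUnits
  let X := π.range
  haveI : Finite X := Finite.of_surjective _ π.rangeRestrict_surjective
  haveI : Group.IsSolvable X := Group.isSolvable_of_surjective π.rangeRestrict_surjective
  haveI : FaithfulSMul X S.W := ⟨fun {s t} h => Subtype.ext (Units.ext (AddMonoidHom.ext h))⟩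
  refine ⟨X, inferInstance, inferInstance, inferInstance, inferInstance, inferInstance,
    π.rangeRestrict, fun h w => rfl, fun U hU => S.irr_W hirr U fun a v hv => hU ⟨π a, a, rfl⟩ v hv,
    lt_of_le_of_lt (Nat.card_le_card_of_surjective _ π.rangeRestrict_surjective) S.card_H_lt⟩

/-- The derived length through a system. -/
theorem dl_of_sys [FaithfulSMul A V] {X : Type u} [Group X] [DistribMulAction X S.W]
    [FaithfulSMul X S.W] (π : S.H →* X) (hπ : ∀ (h : S.H) (w : S.W), π h • w = h • w) {a β : ℕ}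
    (ha : DL X a) (hβ : DL (MulAction.toPermHom A S.Ω).range β) : DL A (β + a) := by
  let ρ := MulAction.toPermHom A S.Ω
  have hfix : ∀ (g : ρ.ker) (e : S.Ω), (g : A) • e = e := fun g e =>
    Equiv.Perm.congr_fun (g.2 : ρ g = 1) e
  let θ : ρ.ker →* (S.Ω → X) :=
    MonoidHom.mk' (fun g e => π (S.loc (g : A) e)) fun g h => funext fun e => by
      change π (S.loc ((g : A) * (h : A)) e) = _ * _
      rw [S.loc_mul, hfix h e, map_mul]
  refine DL.extend_range ρ (DL.of_injective θ ?_ (dl_pi fun _ => ha)) hβ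
  rw [injective_iff_map_eq_one]
  intro g hg
  refine Subtype.ext (eq_of_smul_eq_smul fun x : V => ?_)
  change (g : A) • x = (1 : A) • x
  rw [one_smul]
  refine S.smul_eq_self_of_blocks _ (hfix g) (fun e w => ?_) x
  rw [← hπ, show π (S.loc (g : A) e) = 1 from congrFun hg e, one_smul]

end Sys

/-- A primitive group through its point stabiliser as a linear group. -/
theorem dl_prim_lin {G : Type u} [Group G] [Finite G] [Group.IsSolvable G] {α : Type u}
    [MulAction G α] [FaithfulSMul G α] [Finite α] [Nontrivial α]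
    (hprim : MulAction.IsPreprimitive G α) {h : ℕ}
    (hlin : ∀ q k : ℕ, q.Prime → q ^ k = Nat.card α → Lin.{u} q k h) : DL G (h + 1) := by
  classical
  obtain ⟨a, -⟩ := exists_pair_ne α
  obtain ⟨M, hMn, hMc, hinj, htr, hcM, hpp, hfaith, hirrM⟩ := prim_data (G := G) hprim a
  haveI := hMn
  let H := MulAction.stabilizer G a
  letI : CommGroup M := { (inferInstance : Group M) with mul_comm := fun x y => hMc.is_comm.comm x y }
  let φ : H →* MulAut M := (MulAut.conjNormal : G →* MulAut M).comp H.subtype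
  letI : DistribMulAction H (Additive M) :=
    { smul := fun h x => Additive.ofMul (φ h (Additive.toMul x))
      one_smul := fun x => by
        change Additive.ofMul (φ 1 (Additive.toMul x)) = x
        rw [map_one]; rfl
      mul_smul := fun g h x => by
        change Additive.ofMul (φ (g * h) (Additive.toMul x)) =
          Additive.ofMul (φ g (φ h (Additive.toMul x)))
        rw [map_mul]; rfl
      smul_zero := fun h => congrArg Additive.ofMul (map_one (φ h))
      smul_add := fun h x y => congrArg Additive.ofMul (map_mul (φ h) _ _) }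
  have hval : ∀ (h : H) (m : M), ((φ h m : M) : G) = (h : G) * m * (h : G)⁻¹ := fun h m =>
    MulAut.conjNormal_apply _ _
  have hirr : Irr H (Additive M) := fun U hU => by
    let K : Subgroup G := (AddSubgroup.toSubgroup' U).map M.subtype
    have hK : ∀ h : G, h ∈ H → ∀ x ∈ K, h * x * h⁻¹ ∈ K := by
      rintro h hh _ ⟨m, hm, rfl⟩
      exact ⟨φ ⟨h, hh⟩ m, hU ⟨h, hh⟩ (Additive.ofMul m) hm, hval _ _⟩
    rcases hirrM K (Subgroup.map_subtype_le _) (fun h hh => Subgroup.mem_normalizer_iff.2 fun x =>
      ⟨hK h hh x, fun hx => by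
        have := hK h⁻¹ (inv_mem hh) _ hx
        simpa [mul_assoc] using this⟩) with hK0 | hK1
    · left
      rw [eq_bot_iff]
      intro m hm
      have : ((Additive.toMul m : M) : G) ∈ K := ⟨Additive.toMul m, hm, rfl⟩
      rw [hK0, Subgroup.mem_bot] at this
      exact AddSubgroup.mem_bot.2 (Additive.toMul.injective (Subtype.ext this))
    · right
      rw [eq_top_iff]
      intro m _
      have : ((Additive.toMul m : M) : G) ∈ K := hK1.ge (Additive.toMul m).2
      obtain ⟨m', hm', he⟩ := this
      have he' : m' = Additive.toMul m := Subtype.ext he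
      rw [he'] at hm'
      exact hm'
  haveI : FaithfulSMul H (Additive M) := ⟨fun {g g'} he => by
    have h1 : ((g'⁻¹ * g : H) : G) = 1 := hfaith _ (g'⁻¹ * g).2 fun x => by
      have h2 := he (Additive.ofMul x)
      have h3 : (g'⁻¹ * g) • Additive.ofMul x = Additive.ofMul x := by
        rw [mul_smul, h2, inv_smul_smul]
      have h4 := congrArg (fun z : Additive M => ((Additive.toMul z : M) : G)) h3
      change ((φ (g'⁻¹ * g) x : M) : G) = x at h4
      rw [hval, mul_inv_eq_iff_eq_mul] at h4
      exact h4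
    exact (inv_mul_eq_one.1 (Subtype.ext h1)).symm⟩
  obtain ⟨p, k, hp, -, hpk⟩ := hpp
  have hH : DL H h := hlin p k (Nat.prime_iff.2 hp) hpk H (Additive M) k le_rfl
    (by rw [hpk, ← hcM]; exact Nat.card_congr Additive.toMul) hirr
  have hk : DL (QuotientGroup.mk' M).ker 1 := by
    rw [QuotientGroup.ker_mk']
    exact dl_of_comm fun x y => hMc.is_comm.comm x y
  refine DL.extend (QuotientGroup.mk' M) hk (DL.of_surjective ((QuotientGroup.mk' M).comp H.subtype) ?_ hH)
  intro q
  obtain ⟨g, rfl⟩ := QuotientGroup.mk_surjective q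
  obtain ⟨x, hx⟩ := htr (g • a)
  refine ⟨⟨(x : G)⁻¹ * g, by rw [MulAction.mem_stabilizer_iff, mul_smul, inv_smul_eq_iff, hx]⟩, ?_⟩
  change (QuotientGroup.mk ((x : G)⁻¹ * g) : G ⧸ M) = QuotientGroup.mk g
  rw [QuotientGroup.mk_mul, QuotientGroup.mk_inv, (QuotientGroup.eq_one_iff _).2 x.2, inv_one, one_mul]

end Cfsg.Lib.DerBound
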