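import Cfsg.Agent.DerBound.Orbits
import Cfsg.Agent.DerBound.LinBound
import Cfsg.Agent.DerBound.Count
import Cfsg.Agent.SolvBase.Main
import Cfsg.Agent.SolvBase.SocleBound
import Cfsg.Agent.OddBase.Small

/-!
Orbits with short stabilisers for a semilinear group.
-/

set_option autoImplicit false
set_option linter.unusedSectionVars false
set_option linter.style.haveILetI false

namespace Cfsg.Lib.DerBound

open Cfsg.Lib.OddBase Cfsg.Lib.SolvBase

universe u

variable {A V : Type u} [Group A] [Finite A] [AddCommGroup V] [Finite V] [DistribMulAction A V]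
  [FaithfulSMul A V] [Group.IsSolvable A]

/-- The number of additive automorphisms bounds the order. -/
theorem card_dvd_units_end {q k G : ℕ} (hq : q.Prime) (hexp : ∀ x : V, q • x = 0)
    (hV : Nat.card V = q ^ k) (hG : ∏ i : Fin k, (q ^ k - q ^ (i : ℕ)) = G) : Nat.card A ∣ G := by
  haveI : Fact q.Prime := ⟨hq⟩
  haveI : Finite (AddMonoid.End V) :=
    Finite.of_injective (fun f : AddMonoid.End V => (f : V → V)) DFunLike.coe_injective
  rw [← hG, ← card_units_end q k hexp hV]
  refine Subgroup.card_dvd_of_injective (DistribMulAction.toAddMonoidEnd A V).toHomUnits fun a b h => ?_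
  exact eq_of_smul_eq_smul fun v : V => DFunLike.congr_fun (congrArg Units.val h) v

theorem pow_dvd_sq {q k r : ℕ} (hq : q.Prime) (hr : r ≠ 0) (h : q ^ k ∣ r * r) :
    ∃ v, k ≤ 2 * v ∧ q ^ v ≤ r := by
  refine ⟨r.factorization q, ?_, Nat.ordProj_le q hr⟩
  have h1 := (hq.pow_dvd_iff_le_factorization (mul_ne_zero hr hr)).1 h
  rw [Nat.factorization_mul hr hr, Finsupp.add_apply] at h1
  omega

theorem exp_le {q v r B : ℕ} (hq : 0 < q) (hv : q ^ v ≤ r) (hB : r < q ^ (B + 1)) : v ≤ B := by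
  by_contra hc
  have := Nat.pow_le_pow_right hq (show B + 1 ≤ v by omega)
  omega

theorem pieces_mid {r : ℕ} (hr : 5 ≤ r) (hr' : r ≤ 7) : Pieces.{u} r 4 := by
  refine Or.inr (Or.inr fun q k hq hk => (lin_two q hq).mono ?_ le_rfl)
  obtain ⟨v, hkv, hv⟩ := pow_dvd_sq hq (by omega) hk
  have hvf : q ^ k ∣ r * r := hk
  have hk2 : k ≤ 2 := by
    by_contra hk3
    have h1 : q ^ 3 ∣ r * r := (pow_dvd_pow q (show 3 ≤ k by omega)).trans hk
    have h2 : q ^ 3 ≤ 49 := (Nat.le_of_dvd (by positivity) h1).trans (Nat.mul_le_mul hr' hr')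
    have h3 : q ≤ 3 := by
      by_contra hq4
      have := Nat.pow_le_pow_left (show 4 ≤ q by omega) 3
      omega
    have := hq.two_le
    interval_cases q <;> interval_cases r <;> norm_num at h1
  exact hk2

theorem pieces_large {r : ℕ} (hr : 8 ≤ r) (hr' : r < 256) : Pieces.{u} r 8 := by
  refine Or.inr (Or.inr fun q k hq hk => ?_)
  obtain ⟨v, hkv, hv⟩ := pow_dvd_sq hq (by omega) hk
  rcases Nat.lt_or_ge q 7 with h7 | h7
  · have := hq.two_le
    interval_cases q
    · have := exp_le (B := 7) (by norm_num) hv (by norm_num; omega)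
      exact lin_two_fourteen.mono (by omega) (by norm_num)
    · have := exp_le (B := 5) (by norm_num) hv (by norm_num; omega)
      exact lin_three_ten.mono (by omega) le_rfl
    · exact absurd hq (by norm_num)
    · have := exp_le (B := 3) (by norm_num) hv (by norm_num; omega)
      exact lin_five_six.mono (by omega) le_rfl
    · exact absurd hq (by norm_num)
  · have := exp_le (B := 2) (by omega) hv (by
      have := Nat.pow_le_pow_left h7 3
      norm_num at this ⊢; omega)
    exact (lin_four q hq).mono (by omega) (by norm_num)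

namespace Semi

variable (D : Semi A V) {r : ℕ}

theorem card_V : Nat.card V = Nat.card D.K ^ Module.finrank D.K V :=
  Module.natCard_eq_pow_finrank

theorem exists_pow_card (D : Semi A V) : ∃ q n : ℕ, q.Prime ∧ Nat.card V = q ^ n := by
  obtain ⟨p, hchar⟩ := CharP.exists D.K
  have hp : p.Prime := CharP.char_is_prime D.K p
  haveI : Fact p.Prime := ⟨hp⟩
  letI : Algebra (ZMod p) D.K := ZMod.algebra D.K p
  exact ⟨p, _, hp, by
    rw [D.card_V, Module.natCard_eq_pow_finrank (K := ZMod p) (V := D.K), Nat.card_zmod, ← pow_mul]⟩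

theorem card_XC (M : SocMod A D.Z r) : D.L.relIndex D.C = Nat.card (D.XC M) := by
  rw [← D.ker_eq M, Subgroup.inf_relIndex_right, Subgroup.relIndex_ker]

theorem card_C (M : SocMod A D.Z r) (hr : D.Z.relIndex D.L = r * r) (hne : ¬ D.C ≤ D.Z) :
    Nat.card D.C = Nat.card D.Z * (r * r) * Nat.card (D.XC M) := by
  rw [← Subgroup.relIndex_bot_left D.C,
    ← Subgroup.relIndex_mul_relIndex ⊥ D.L D.C bot_le (socle_le _ _),
    ← Subgroup.relIndex_mul_relIndex ⊥ D.Z D.L bot_le (exists_socle hne).le,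
    Subgroup.relIndex_bot_left, hr, D.card_XC M]

theorem card_L (hr : D.Z.relIndex D.L = r * r) (hne : ¬ D.C ≤ D.Z) :
    Nat.card D.L = Nat.card D.Z * (r * r) := by
  rw [← Subgroup.relIndex_bot_left D.L,
    ← Subgroup.relIndex_mul_relIndex ⊥ D.Z D.L bot_le (exists_socle hne).le,
    Subgroup.relIndex_bot_left, hr]

theorem fix_le_pow {g : A} (hg : g ∈ D.C) {m c : ℕ} (hm : 0 < m)
    (h : Nat.card (fixS A V g) ^ m ≤ Nat.card V ^ c) :
    Nat.card (fixS A V g) ≤ Nat.card D.K ^ (c * Module.finrank D.K V / m) := by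
  let U : Submodule D.K V :=
    { fixS A V g with
      smul_mem' := fun k x hx => by
        change g • (k • x) = k • x
        rw [D.hcomm g hg, show g • x = x from hx] }
  have h1 : Nat.card (fixS A V g) = Nat.card D.K ^ Module.finrank D.K U :=
    Module.natCard_eq_pow_finrank (K := D.K) (V := U)
  have hQ : 2 ≤ Nat.card D.K := Finite.one_lt_card
  rw [h1] at h ⊢
  rw [D.card_V, ← pow_mul, ← pow_mul] at h
  refine Nat.pow_le_pow_right (by omega) ((Nat.le_div_iff_mul_le hm).2 ?_)
  rw [mul_comm c]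
  exact (Nat.pow_le_pow_iff_right hQ).1 h

theorem fix_socle_sq (hne : ¬ D.C ≤ D.Z) {l : A} (hl : l ∈ D.L) (hlZ : l ∉ D.Z) :
    Nat.card (fixS A V l) ^ 2 ≤ Nat.card V ^ 1 := by
  obtain ⟨n, hn, hnl⟩ : ∃ n ∈ D.L, n * l ≠ l * n := by
    by_contra hc
    push Not at hc
    exact hlZ ((socle_center D.maxAb hne).le ⟨hl, Subgroup.mem_centralizer_iff.2 hc⟩)
  have h := fix_commutator_le (V := V) l n
  have hz : l * n * l⁻¹ * n⁻¹ ∈ D.Z := socle_comm (Subgroup.commutator_mem_commutator hl hn)
  rw [card_fix_one D.field_prop hz fun h1 => hnl (by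
    rw [mul_inv_eq_one, mul_inv_eq_iff_eq_mul] at h1; exact h1.symm), mul_one] at h
  rwa [pow_one]

theorem fix_central (hne : ¬ D.C ≤ D.Z) {g : A} (hg : g ∈ D.C) (hg1 : g ≠ 1) :
    Nat.card (fixS A V g) ^ 4 ≤ Nat.card V ^ 3 := by
  have hV : 1 ≤ Nat.card V := Nat.card_pos
  by_cases hgL : g ∈ D.L
  · by_cases hgZ : g ∈ D.Z
    · rw [card_fix_one D.field_prop hgZ hg1, one_pow]
      exact Nat.one_le_pow _ _ hV
    · calc Nat.card (fixS A V g) ^ 4 = (Nat.card (fixS A V g) ^ 2) ^ 2 := by ring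
        _ ≤ (Nat.card V ^ 1) ^ 2 := Nat.pow_le_pow_left (D.fix_socle_sq hne hgL hgZ) 2
        _ = Nat.card V ^ 2 := by ring
        _ ≤ Nat.card V ^ 3 := Nat.pow_le_pow_right hV (by norm_num)
  · obtain ⟨l, hl, hlg⟩ : ∃ l ∈ D.L, g * l * g⁻¹ * l⁻¹ ∉ D.Z := by
      by_contra hc
      push Not at hc
      exact hgL (mem_socle D.ι_inj D.maxAb hne hg hc)
    have hcL : g * l * g⁻¹ * l⁻¹ ∈ D.L :=
      mul_mem ((socle_normal D.Z D.C).conj_mem l hl g) (inv_mem hl)
    have h1 := fix_commutator_le (V := V) g l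
    have h2 := D.fix_socle_sq hne hcL hlg
    calc Nat.card (fixS A V g) ^ 4 = (Nat.card (fixS A V g) ^ 2) ^ 2 := by ring
      _ ≤ (Nat.card V * Nat.card (fixS A V (g * l * g⁻¹ * l⁻¹))) ^ 2 := Nat.pow_le_pow_left h1 2
      _ = Nat.card V ^ 2 * Nat.card (fixS A V (g * l * g⁻¹ * l⁻¹)) ^ 2 := by ring
      _ ≤ Nat.card V ^ 2 * Nat.card V ^ 1 := Nat.mul_le_mul_left _ h2
      _ = Nat.card V ^ 3 := by ring

/-- Vectors fixed by a bad element of a subgroup are few. -/
theorem card_bad_le (H : Subgroup A) (B : ℕ)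
    (hB : ∀ g ∈ H, g ∉ D.Z → Nat.card (fixS A V g) ≤ B) :
    Nat.card {v : V // v ≠ 0 ∧ ∃ g ∈ H, g ≠ 1 ∧ g • v = v} ≤ Nat.card H * B := by
  classical
  haveI := Fintype.ofFinite H
  haveI := Fintype.ofFinite V
  rw [Nat.card_eq_fintype_card, Fintype.card_subtype]
  calc _ ≤ ((Finset.univ : Finset H).biUnion fun g =>
        Finset.univ.filter fun v : V => (g : A) ∉ D.Z ∧ (g : A) • v = v).card := by
        refine Finset.card_le_card fun v hv => ?_
        simp only [Finset.mem_filter, Finset.mem_univ, true_and] at hv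
        obtain ⟨hv0, g, hg, hg1, hgv⟩ := hv
        simp only [Finset.mem_biUnion, Finset.mem_univ, true_and, Finset.mem_filter]
        exact ⟨⟨g, hg⟩, fun hz => hg1 (D.eq_one_of_fix hz hv0 hgv), hgv⟩
    _ ≤ ∑ g : H, (Finset.univ.filter fun v : V => (g : A) ∉ D.Z ∧ (g : A) • v = v).card :=
        Finset.card_biUnion_le
    _ ≤ Fintype.card H • B := Finset.sum_le_card_nsmul _ _ _ fun g _ => by
        by_cases hz : (g : A) ∈ D.Z
        · simp [hz]
        · refine le_trans (le_of_eq ?_) (hB g g.2 hz)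
          rw [Nat.card_eq_fintype_card, ← Fintype.card_coe]
          exact Fintype.card_congr (Equiv.subtypeEquivRight fun v => by simp [hz]; rfl)
    _ = _ := by rw [smul_eq_mul, Nat.card_eq_fintype_card]

theorem card_good (Bad : V → Prop) :
    Nat.card V - 1 ≤ Nat.card {v : V // v ≠ 0 ∧ ¬ Bad v} + Nat.card {v : V // v ≠ 0 ∧ Bad v} := by
  classical
  haveI := Fintype.ofFinite V
  rw [← card_nonzero (V := V), ← Nat.card_sum]
  refine Nat.card_le_card_of_injective
    (fun v => if h : Bad v.1 then Sum.inr ⟨v.1, v.2, h⟩ else Sum.inl ⟨v.1, v.2, h⟩) ?_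
  intro v w he
  dsimp only at he
  split_ifs at he
  all_goals simp_all [Subtype.ext_iff]

theorem free_iff (v : V) :
    D.Free v ↔ v ≠ 0 ∧ ¬ ∃ g ∈ D.L, g ≠ 1 ∧ g • v = v := by
  constructor
  · exact fun h => ⟨h.1, fun ⟨g, hg, hg1, hgv⟩ => hg1 (h.2 g hg hgv)⟩
  · exact fun h => ⟨h.1, fun l hl hlv => by_contra fun hl1 => h.2 ⟨l, hl, hl1, hlv⟩⟩

theorem card_free (hr : D.Z.relIndex D.L = r * r) (hne : ¬ D.C ≤ D.Z) :
    Nat.card V - 1 ≤ Nat.card {v : V // D.Free v} +
      Nat.card D.Z * (r * r) * Nat.card D.K ^ (Module.finrank D.K V / 2) := by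
  have h1 := card_good fun v : V => ∃ g ∈ D.L, g ≠ 1 ∧ g • v = v
  have h2 := D.card_bad_le D.L (Nat.card D.K ^ (Module.finrank D.K V / 2)) fun g hg hgZ => by
    have := D.fix_le_pow (socle_le _ _ hg) (m := 2) (c := 1) (by norm_num) (D.fix_socle_sq hne hg hgZ)
    rwa [one_mul] at this
  rw [D.card_L hr hne] at h2
  rw [Nat.card_congr (Equiv.subtypeEquivRight D.free_iff)]
  omega

theorem card_regular (M : SocMod A D.Z r) (hr : D.Z.relIndex D.L = r * r) (hne : ¬ D.C ≤ D.Z) :
    Nat.card V - 1 ≤ Nat.card {v : V // v ≠ 0 ∧ ¬ ∃ g ∈ D.C, g ≠ 1 ∧ g • v = v} +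
      Nat.card D.Z * (r * r) * Nat.card (D.XC M) *
        Nat.card D.K ^ (3 * Module.finrank D.K V / 4) := by
  have h1 := card_good fun v : V => ∃ g ∈ D.C, g ≠ 1 ∧ g • v = v
  have h2 := D.card_bad_le D.C (Nat.card D.K ^ (3 * Module.finrank D.K V / 4)) fun g hg hgZ =>
    D.fix_le_pow hg (m := 4) (c := 3) (by norm_num)
      (D.fix_central hne hg fun h => hgZ (h ▸ one_mem _))
  rw [D.card_C M hr hne] at h2
  omega

theorem dl_stab_regular {δ : ℕ} {v : V} (hδ : DL D.σ.range δ)
    (hv : ¬ ∃ g ∈ D.C, g ≠ 1 ∧ g • v = v) : DL (MulAction.stabilizer A v) δ := by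
  refine DL.of_injective (D.σ.rangeRestrict.comp (MulAction.stabilizer A v).subtype) ?_ hδ
  rw [injective_iff_map_eq_one]
  intro g hg
  refine Subtype.ext (by_contra fun h1 => hv ⟨g, ?_, h1, g.2⟩)
  exact D.sigma_ker.le (congrArg Subtype.val hg)

theorem params [Nontrivial V] (M : SocMod A D.Z r) (hr : D.Z.relIndex D.L = r * r)
    (hne : ¬ D.C ≤ D.Z) :
    Params (Nat.card D.K) (Nat.card D.σ.range) (Nat.card D.Z) r (Nat.card (D.XC M))
      (Module.finrank D.K V) := by
  obtain ⟨q, n, hq, hV⟩ := D.exists_pow_card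
  obtain ⟨d, hd, hQ, -, hdvd, -, -⟩ := D.exists_degree hq hV
  obtain ⟨-, hY, hY5⟩ := socle_bound (below3_all.{u} (Nat.card A)) le_rfl D.ι_inj D.maxAb hne hr
  rw [D.card_XC M] at hY hY5
  have hδd : Nat.card D.σ.range ≤ d := Nat.le_of_dvd (Nat.pos_of_ne_zero hd) hdvd
  refine ⟨⟨q, d, hq, hd, hQ⟩, ?_, fun hp => ?_, ?_, fun s hs hsr =>
    (D.prime_dvd hr hne hs hsr).trans D.card_Z_dvd, hY, hY5, ?_⟩
  · rw [hQ]
    exact (Nat.mul_le_mul_left 2 hδd).trans (two_mul_le_pow hq.two_le)
  · rw [hQ] at hp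
    rw [Nat.Prime.eq_one_of_pow hp] at hδd
    exact hδd
  · exact Nat.le_of_dvd (by have := Finite.one_lt_card (α := D.K); omega) D.card_Z_dvd
  · obtain ⟨c, hc⟩ := D.dvd_finrank hr hne
    rcases c with _ | _ | c
    · exact absurd hc (Nat.mul_zero r ▸ Module.finrank_pos.ne')
    · exact Or.inl (by omega)
    · exact Or.inr (by rw [hc, Nat.mul_comm 2]; exact Nat.mul_le_mul_left _ (by omega))

/-- The remaining degrees. -/
theorem profile_special [Nontrivial V] (M : SocMod A D.Z r) (hr : D.Z.relIndex D.L = r * r)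
    (hne : ¬ D.C ≤ D.Z) (hsp : Special (Nat.card D.K) r (Module.finrank D.K V)) : Profile A V := by
  obtain ⟨q, n, hq, hVq⟩ := D.exists_pow_card
  obtain ⟨d, hd, hQ, -, hdvd, hgal, hgal0⟩ := D.exists_degree hq hVq
  have hdeg : ∀ p c : ℕ, p.Prime → 0 < c → Nat.card D.K = p ^ c → d = c := by
    intro p c hp hc h
    have h1 : p ∣ q ^ d := by rw [← hQ, h]; exact dvd_pow_self p hc.ne'
    obtain rfl : p = q := (Nat.prime_dvd_prime_iff_eq hp hq).1 (hp.dvd_of_dvd_pow h1)
    exact Nat.pow_right_injective hp.two_le (hQ.symm.trans h)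
  have hz := D.card_Z_dvd
  obtain ⟨her, hcase⟩ := hsp
  have hV : Nat.card V = Nat.card D.K ^ r := by rw [D.card_V, her]
  have horder : ∀ G : ℕ, Nat.card (D.XC M) ∣ G →
      Nat.card A ∣ d * ((Nat.card D.K - 1) * (r * r) * G) := fun G hG => by
    rw [D.card_eq M hr hne]
    exact Nat.mul_dvd_mul hdvd (Nat.mul_dvd_mul (Nat.mul_dvd_mul hz dvd_rfl) hG)
  have hXG : ∀ p k G : ℕ, p.Prime → r * r = p ^ k → ∏ i : Fin k, (p ^ k - p ^ (i : ℕ)) = G →
      Nat.card (D.XC M) ∣ G := fun p k G hp hk hG =>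
    (Subgroup.card_subgroup_dvd_card _).trans
      (card_dvd_units_end (A := M.X) (V := M.W) hp (M.exp p k hp hk) (M.cardW.trans hk) hG)
  have three : ∀ {δ s : ℕ} (l : List (ℕ × ℕ)) (m : ℕ), δ + (s + 1) ≤ 7 → DL D.σ.range δ →
      DL (D.XC M) s → (∀ x ∈ l, x.1.Prime) → Nat.card A ∣ prodList l → Nat.card V - 1 = m →
      noSplit m l = true → Profile A V := fun l m hle hδ hs hl hN hm hno =>
    Or.inr (Or.inl (classes_three_nonzero hl hN hm hno fun v hv =>
      (D.dl_stab_any M hv hδ hs).mono hle))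
  rcases hcase with ⟨rfl, hQc⟩ | ⟨rfl, hQc⟩ | ⟨rfl, hQc⟩
  · have hGL : Nat.card (D.XC M) ∣ 20158709760 :=
      hXG 2 6 _ Nat.prime_two (by norm_num) (by decide +kernel)
    rcases six_two_cases M.cr (M.cardW.trans (by norm_num)) with h5 | ⟨h6, h1296⟩
    · have hs : DL (D.XC M) 5 := h5.subgroup _
      rcases hQc with hc | hc | hc | hc
      · obtain rfl := hdeg 3 1 Nat.prime_three one_pos (by rw [hc]; rfl)
        refine Or.inl (classes_two_nonzero (N := 2 * 64 * 20158709760) ?_ ?_ fun v hv =>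
          (D.dl_stab_any M hv (hgal0 rfl) hs).mono (by norm_num))
        · exact (horder _ hGL).trans (by rw [hc])
        · rw [hV, hc]; norm_num
      · obtain rfl := hdeg 5 1 (by norm_num) one_pos (by rw [hc]; rfl)
        exact three [(2, 23), (3, 4), (5, 1), (7, 2), (31, 1)] 390624 (by norm_num) (hgal0 rfl) hs
          (by norm_num) ((horder _ hGL).trans (by rw [hc]; norm_num [prodList]))
          (by rw [hV, hc]; norm_num) (by decide +kernel)
      · obtain rfl := hdeg 7 1 (by norm_num) one_pos (by rw [hc]; rfl)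
        exact three [(2, 22), (3, 5), (5, 1), (7, 2), (31, 1)] 5764800 (by norm_num) (hgal0 rfl) hs
          (by norm_num) ((horder _ hGL).trans (by rw [hc]; norm_num [prodList]))
          (by rw [hV, hc]; norm_num) (by decide +kernel)
      · obtain rfl := hdeg 3 2 Nat.prime_three two_pos (by rw [hc]; rfl)
        exact three [(2, 25), (3, 4), (5, 1), (7, 2), (31, 1)] 43046720 (by norm_num) hgal hs
          (by norm_num) ((horder _ hGL).trans (by rw [hc]; norm_num [prodList]))
          (by rw [hV, hc]; norm_num) (by decide +kernel)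
    · have hs : DL (D.XC M) 6 := h6.subgroup _
      have hXd : Nat.card (D.XC M) ∣ 1296 := (Subgroup.card_subgroup_dvd_card _).trans h1296
      rcases hQc with hc | hc | hc | hc
      · obtain rfl := hdeg 3 1 Nat.prime_three one_pos (by rw [hc]; rfl)
        exact three [(2, 11), (3, 4)] 6560 (by norm_num) (hgal0 rfl) hs
          (by norm_num) ((horder _ hXd).trans (by rw [hc]; norm_num [prodList]))
          (by rw [hV, hc]; norm_num) (by decide +kernel)
      · obtain rfl := hdeg 5 1 (by norm_num) one_pos (by rw [hc]; rfl)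
        exact three [(2, 12), (3, 4)] 390624 (by norm_num) (hgal0 rfl) hs
          (by norm_num) ((horder _ hXd).trans (by rw [hc]; norm_num [prodList]))
          (by rw [hV, hc]; norm_num) (by decide +kernel)
      · obtain rfl := hdeg 7 1 (by norm_num) one_pos (by rw [hc]; rfl)
        exact three [(2, 11), (3, 5)] 5764800 (by norm_num) (hgal0 rfl) hs
          (by norm_num) ((horder _ hXd).trans (by rw [hc]; norm_num [prodList]))
          (by rw [hV, hc]; norm_num) (by decide +kernel)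
      · obtain rfl := hdeg 3 2 Nat.prime_three two_pos (by rw [hc]; rfl)
        refine Or.inr (Or.inr (Or.inr (classes_of_big D.Free (fun v hv =>
          (D.dl_stab_free M hv hgal hs).mono (by norm_num)) ?_)))
        have hA := Nat.le_of_dvd (by rw [hc]; norm_num) (horder _ hXd)
        have hfree := D.card_free hr hne
        have hz8 := Nat.le_of_dvd (by omega) hz
        rw [hV, hc, her] at hfree
        rw [hc] at hA hz8
        norm_num at hfree hA hz8 ⊢
        omega
  · have hs : DL (D.XC M) 5 := D.dl_XC M hne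
      (pieces_of_pow (q := 3) (c := 4) Nat.prime_three (by norm_num) (lin_four 3 Nat.prime_three))
    have hGL : Nat.card (D.XC M) ∣ 24261120 :=
      hXG 3 4 _ Nat.prime_three (by norm_num) (by decide +kernel)
    rcases hQc with hc | hc
    · obtain rfl := hdeg 2 2 Nat.prime_two two_pos (by rw [hc]; rfl)
      exact three [(2, 10), (3, 11), (5, 1), (13, 1)] 262143 (by norm_num) hgal hs
        (by norm_num) ((horder _ hGL).trans (by rw [hc]; norm_num [prodList]))
        (by rw [hV, hc]; norm_num) (by decide +kernel)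
    · obtain rfl := hdeg 7 1 (by norm_num) one_pos (by rw [hc]; rfl)
      exact three [(2, 10), (3, 11), (5, 1), (13, 1)] 40353606 (by norm_num) (hgal0 rfl) hs
        (by norm_num) ((horder _ hGL).trans (by rw [hc]; norm_num [prodList]))
        (by rw [hV, hc]; norm_num) (by decide +kernel)
  · have hs : DL (D.XC M) 6 := D.dl_XC M hne
      (pieces_of_pow (q := 2) (c := 8) Nat.prime_two (by norm_num)
        (lin_two_eleven.mono (by norm_num) le_rfl))
    have hGL : Nat.card (D.XC M) ∣ ∏ i : Fin 8, (2 ^ 8 - 2 ^ (i : ℕ)) :=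
      hXG 2 8 _ Nat.prime_two (by norm_num) rfl
    obtain rfl := hdeg 3 1 Nat.prime_three one_pos (by rw [hQc]; rfl)
    exact three [(2, 37), (3, 5), (5, 2), (7, 2), (17, 1), (31, 1), (127, 1)] 43046720
      (by norm_num) (hgal0 rfl) hs (by norm_num)
      ((horder _ hGL).trans (by rw [hQc]; norm_num [prodList, Fin.prod_univ_succ]))
      (by rw [hV, hQc]; norm_num) (by decide +kernel)

/-- A semilinear group has the orbits required. -/
theorem profile [Nontrivial V] (D : Semi A V) : Profile A V := by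
  obtain ⟨q, n, hq, hVq⟩ := D.exists_pow_card
  obtain ⟨d, -, -, -, -, hgal, -⟩ := D.exists_degree hq hVq
  by_cases hne : D.C ≤ D.Z
  · exact Or.inl (classes_zero_nonzero ((D.dl_of_le hne hgal).mono (by norm_num)))
  obtain ⟨r, M, hr2, hr⟩ := D.exists_data hne
  have hP := D.params M hr hne
  rcases Nat.lt_or_ge r 5 with h5 | h5
  · refine Or.inl (classes_zero_nonzero ((D.dl_group M hne hgal (D.dl_XC M hne (s := 3) ?_)).mono
      (by norm_num)))
    interval_cases r
    · exact Or.inl ⟨rfl, by norm_num⟩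
    · exact Or.inr (Or.inl ⟨rfl, le_rfl⟩)
    · exact pieces_of_pow (q := 2) (c := 4) Nat.prime_two (by norm_num)
        (lin_two_five.mono (by norm_num) le_rfl)
  by_cases hsp : Special (Nat.card D.K) r (Module.finrank D.K V)
  · exact D.profile_special M hr hne hsp
  obtain ⟨hbig, hone⟩ := hP.socle_count h5 hsp
  have hfree := D.card_free hr hne
  rw [D.card_V] at hfree
  rcases Nat.lt_or_ge r 8 with h8 | h8
  · have hs : DL (D.XC M) 4 := D.dl_XC M hne (pieces_mid h5 (by omega))
    obtain ⟨⟨v, hv⟩⟩ : Nonempty {v : V // D.Free v} := (Nat.card_pos_iff.1 (by omega)).1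
    obtain ⟨w, hw, hwf⟩ := D.exists_not_free hr hne (by omega)
    exact Or.inl (classes_of_prop D.Free (fun x g hx => D.free_smul hx g) hv hwf
      ((D.dl_stab_free M hv hgal hs).mono (by norm_num))
      ((D.dl_stab_any M hw hgal hs).mono (by norm_num)))
  have hA := hP.order_le h8 hsp
  rw [← D.card_eq M hr hne] at hA
  rcases Nat.lt_or_ge r 256 with h256 | h256
  · have hs : DL (D.XC M) 8 := D.dl_XC M hne (pieces_large h8 h256)
    have := hbig h8
    refine Or.inr (Or.inr (Or.inr (classes_of_big D.Free (fun v hv =>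
      (D.dl_stab_free M hv hgal hs).mono (by norm_num)) ?_)))
    omega
  · have hreg := D.card_regular M hr hne
    rw [D.card_V] at hreg
    have := hP.central_count h256
    refine Or.inr (Or.inr (Or.inr (classes_of_big
      (fun v : V => v ≠ 0 ∧ ¬ ∃ g ∈ D.C, g ≠ 1 ∧ g • v = v) (fun v hv =>
      (D.dl_stab_regular hgal hv.2).mono (by norm_num)) ?_)))
    omega

end Semi

end Cfsg.Lib.DerBound
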