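import Cfsg.Agent.DerBound.OddMain
import Cfsg.Agent.DerBound.PrimProfile

/-!
A vector with a short stabiliser in a completely reducible solvable group.
-/

set_option autoImplicit false
set_option linter.unusedSectionVars false
set_option linter.style.haveILetI false

namespace Cfsg.Lib.DerBound

open Cfsg.Lib.OddBase

universe u

/-- Irreducible groups. -/
theorem profile_irr : ∀ (n : ℕ) (A V : Type u) [Group A] [Finite A] [Group.IsSolvable A]
    [AddCommGroup V] [Finite V] [DistribMulAction A V] [FaithfulSMul A V], Nat.card A < n →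
      Nontrivial V → Irr A V → Profile A V := by
  intro n
  induction n with
  | zero => intro A V _ _ _ _ _ _ _ h; exact absurd h (Nat.not_lt_zero _)
  | succ n ih =>
    intro A V _ _ _ _ _ _ _ hn hnt hirr
    rcases sys_or_semi hirr with ⟨⟨S⟩⟩ | ⟨⟨D⟩⟩
    · obtain ⟨X, _, _, _, _, _, π, hπ, hXirr, hlt⟩ := S.exists_image hirr
      exact profile_of_sys S π hπ
        (ih X S.W (lt_of_lt_of_le hlt (Nat.lt_succ_iff.1 hn)) S.nontrivial_W hXirr)
    · exact Semi.profile D

variable {A V : Type u} [Group A] [AddCommGroup V] [DistribMulAction A V]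

theorem smul_eq_of_sum {U W : AddSubgroup V} (hU : ∀ a : A, ∀ v ∈ U, a • v ∈ U)
    (hW : ∀ a : A, ∀ v ∈ W, a • v ∈ W) (hUW : U ⊓ W = ⊥) {a : A} (u : U) (w : W)
    (h : a • ((u : V) + w) = u + w) : a • (u : V) = u ∧ a • (w : V) = w := by
  rw [smul_add] at h
  have h1 : a • (u : V) - u = w - a • (w : V) := by
    rw [sub_eq_sub_iff_add_eq_add, h]
    exact add_comm _ _
  have h2 : a • (u : V) - u ∈ U ⊓ W :=
    AddSubgroup.mem_inf.2 ⟨sub_mem (hU a u u.2) u.2, by rw [h1]; exact sub_mem w.2 (hW a w w.2)⟩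
  rw [hUW, AddSubgroup.mem_bot, sub_eq_zero] at h2
  rw [h2] at h
  exact ⟨h2, add_left_cancel h⟩

variable [Finite V]

theorem split_data (hcr : CR A V) (hirr : ¬ Irr A V) :
    ∃ U W : AddSubgroup V, (∀ a : A, ∀ v ∈ U, a • v ∈ U) ∧ (∀ a : A, ∀ v ∈ W, a • v ∈ W) ∧
      U ⊓ W = ⊥ ∧ U ⊔ W = ⊤ ∧ Nat.card U < Nat.card V ∧ Nat.card W < Nat.card V := by
  simp only [Irr, not_forall, not_or] at hirr
  obtain ⟨U, hU, h0, h1⟩ := hirr
  obtain ⟨W, hW, hUW, hsup⟩ := hcr U hU
  have hlt : ∀ T : AddSubgroup V, T ≠ ⊤ → Nat.card T < Nat.card V := fun T hT =>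
    lt_of_le_of_ne (Nat.card_le_card_of_injective _ Subtype.val_injective) fun he =>
      hT (AddSubgroup.eq_top_of_card_eq T he)
  refine ⟨U, W, hU, hW, hUW, hsup, hlt U h1, hlt W ?_⟩
  rintro rfl
  exact h0 (by simpa using hUW)

/-- A stabiliser of derived length at most nine. -/
theorem exists_vector_dl : ∀ (N : ℕ) (A V : Type u) [Group A] [Finite A] [Group.IsSolvable A]
    [AddCommGroup V] [Finite V] [DistribMulAction A V] [FaithfulSMul A V], Nat.card V ≤ N → CR A V →
      ∃ v : V, DL (MulAction.stabilizer A v) 9 := by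
  intro N
  induction N with
  | zero => intro A V _ _ _ _ _ _ _ h; exact absurd h (not_le.2 Nat.card_pos)
  | succ N ih =>
    intro A V _ _ _ _ _ _ _ hN hcr
    rcases subsingleton_or_nontrivial V with hs | hnt
    · haveI : Subsingleton A := ⟨fun a c => eq_of_smul_eq_smul fun v : V => Subsingleton.elim _ _⟩
      exact ⟨0, dl_of_subsingleton 9⟩
    by_cases hirr : Irr A V
    · exact (profile_irr _ A V (Nat.lt_succ_self _) hnt hirr).exists_vector
    obtain ⟨U, W, hU, hW, hUW, hsup, hUlt, hWlt⟩ := split_data hcr hirr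
    obtain ⟨X1, _, _, _, _, _, π1, hc1, -, hk1, hs1⟩ := image_exists hcr U hU
    obtain ⟨X2, _, _, _, _, _, π2, hc2, -, hk2, hs2⟩ := image_exists hcr W hW
    obtain ⟨u, hu⟩ := ih X1 U (by omega) hc1
    obtain ⟨w, hw⟩ := ih X2 W (by omega) hc2
    refine ⟨(u : V) + w, ?_⟩
    set T := MulAction.stabilizer A ((u : V) + w)
    have hfix : ∀ a : T, (a : A) • (u : V) = u ∧ (a : A) • (w : V) = w := fun a =>
      smul_eq_of_sum hU hW hUW u w a.2
    let f1 : T →* MulAction.stabilizer X1 u :=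
      (π1.comp T.subtype).codRestrict _ fun a => Subtype.ext ((hs1 a u).trans (hfix a).1)
    let f2 : T →* MulAction.stabilizer X2 w :=
      (π2.comp T.subtype).codRestrict _ fun a => Subtype.ext ((hs2 a w).trans (hfix a).2)
    refine DL.of_injective (f1.prod f2) ?_ (dl_prod hu hw)
    rw [injective_iff_map_eq_one]
    intro a ha
    refine Subtype.ext (eq_of_smul_eq_smul fun v : V => ?_)
    obtain ⟨x, hx, y, hy, rfl⟩ := AddSubgroup.mem_sup.1
      (show v ∈ U ⊔ W from hsup ▸ AddSubgroup.mem_top _)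
    change (a : A) • (x + y) = (1 : A) • (x + y)
    rw [one_smul, smul_add, hk1 a (congrArg Subtype.val (congrArg Prod.fst ha)) x hx,
      hk2 a (congrArg Subtype.val (congrArg Prod.snd ha)) y hy]

/-- In odd order and odd characteristic, an abelian stabiliser. -/
theorem exists_vector_comm : ∀ (N : ℕ) (A V : Type u) [Group A] [Finite A] [Group.IsSolvable A]
    [AddCommGroup V] [Finite V] [DistribMulAction A V] [FaithfulSMul A V], Nat.card V ≤ N →
      Odd (Nat.card A) → Odd (Nat.card V) → CR A V →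
        ∃ v : V, ∀ a b : A, a • v = v → b • v = v → a * b = b * a := by
  intro N
  induction N with
  | zero => intro A V _ _ _ _ _ _ _ h; exact absurd h (not_le.2 Nat.card_pos)
  | succ N ih =>
    intro A V _ _ _ _ _ _ _ hN hA hV hcr
    rcases subsingleton_or_nontrivial V with hs | hnt
    · exact ⟨0, fun a b _ _ => eq_of_smul_eq_smul fun v : V => Subsingleton.elim _ _⟩
    by_cases hirr : Irr A V
    · obtain ⟨v, -, hv⟩ := abStab_irr _ A V (Nat.lt_succ_self _) hA hV hnt hirr
      exact ⟨v, fun a b ha hb => eq_of_smul_eq_smul fun x : V => by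
        rw [mul_smul, mul_smul]; exact hv a b ha hb x⟩
    obtain ⟨U, W, hU, hW, hUW, hsup, hUlt, hWlt⟩ := split_data hcr hirr
    have key : ∀ (T : AddSubgroup V), (∀ a : A, ∀ v ∈ T, a • v ∈ T) → Nat.card T < Nat.card V →
        ∃ t : T, ∀ a b : A, a • (t : V) = t → b • (t : V) = t → ∀ x ∈ T, a • b • x = b • a • x := by
      intro T hT hlt
      obtain ⟨X, _, _, _, _, _, π, hc, hsur, -, hs⟩ := image_exists hcr T hT
      obtain ⟨t, ht⟩ := ih X T (by omega) (hA.of_dvd_nat (Subgroup.card_dvd_of_surjective π hsur))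
        (hV.of_dvd_nat T.card_addSubgroup_dvd_card) hc
      refine ⟨t, fun a b ha hb x hx => ?_⟩
      have h := congrArg (fun g : X => g • (⟨x, hx⟩ : T))
        (ht (π a) (π b) (Subtype.ext ((hs a t).trans ha)) (Subtype.ext ((hs b t).trans hb)))
      simp only [mul_smul] at h
      have h' := congrArg Subtype.val h
      rwa [hs, hs, hs, hs] at h'
    obtain ⟨u, hu⟩ := key U hU hUlt
    obtain ⟨w, hw⟩ := key W hW hWlt
    refine ⟨(u : V) + w, fun a b ha hb => eq_of_smul_eq_smul fun v : V => ?_⟩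
    obtain ⟨ha1, ha2⟩ := smul_eq_of_sum hU hW hUW u w ha
    obtain ⟨hb1, hb2⟩ := smul_eq_of_sum hU hW hUW u w hb
    obtain ⟨x, hx, y, hy, rfl⟩ := AddSubgroup.mem_sup.1
      (show v ∈ U ⊔ W from hsup ▸ AddSubgroup.mem_top _)
    rw [mul_smul, mul_smul, smul_add, smul_add, smul_add, smul_add, hu a b ha1 hb1 x hx,
      hw a b ha2 hb2 y hy]

end Cfsg.Lib.DerBound
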