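import Mathlib

/-!
The numerical condition for the odd case: few vectors are fixed by elements of the centraliser.
-/

set_option autoImplicit false

namespace Cfsg.Lib.DerBound

theorem six_pow_lt : ∀ k : ℕ, 11 ≤ k → (3 * k) ^ 6 < 8 * 7 ^ k := by
  intro k hk
  induction k, hk using Nat.le_induction with
  | base => norm_num
  | succ n hn ih =>
    have h1 : 11 * (n + 1) ≤ 12 * n := by omega
    have h2 : 11 ^ 6 * (n + 1) ^ 6 ≤ 12 ^ 6 * n ^ 6 := by
      rw [← mul_pow, ← mul_pow]; exact Nat.pow_le_pow_left h1 6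
    have h3 : (n + 1) ^ 6 ≤ 7 * n ^ 6 := by
      have : 12 ^ 6 * n ^ 6 ≤ 7 * 11 ^ 6 * n ^ 6 := Nat.mul_le_mul_right _ (by norm_num)
      nlinarith
    rw [mul_pow] at ih ⊢
    rw [pow_succ 7]
    nlinarith [Nat.mul_le_mul_left (3 ^ 6) h3]

/-- A divisor and two make an odd field order exceed twice the divisor. -/
theorem two_mul_lt {Q s : ℕ} (hQ : Odd Q) (hQ2 : 2 ≤ Q) (hs : Odd s) (h : s ∣ Q - 1) :
    2 * s + 1 ≤ Q := by
  obtain ⟨k, hk⟩ := hQ
  obtain ⟨j, hj⟩ := h
  obtain ⟨i, hi⟩ := hs
  rcases j with _ | _ | j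
  · simp at hj; omega
  · simp at hj; omega
  · have : s * 2 ≤ s * (j + 1 + 1) := Nat.mul_le_mul_left s (by omega)
    omega

/-- The count for the centraliser in the odd case. -/
theorem odd_count {Q r e Y : ℕ} (hQ : Odd Q) (hQ2 : 2 ≤ Q) (hr : Odd r) (hr3 : 3 ≤ r) (hre : r ≤ e)
    (hdiv : ∀ s, s.Prime → s ∣ r → s ∣ Q - 1) (hY : 8 * Y ≤ r ^ 4) (h3 : r = 3 → Y ≤ 1)
    (h5 : r = 5 → Y ≤ 3) (h7 : r = 7 → Y ≤ 9) (h9 : r = 9 → Y ≤ 5) :
    r * r * Y * e < 2 * (2 * e / 3) * Q ^ (e - 2 * e / 3) := by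
  set F := 2 * e / 3 with hF
  set c := e - F with hc
  have heF : e ≤ 2 * F := by omega
  have hF0 : 0 < 2 * F := by omega
  have hred : r * r * Y < Q ^ c → r * r * Y * e < 2 * F * Q ^ c := fun h =>
    calc r * r * Y * e ≤ r * r * Y * (2 * F) := Nat.mul_le_mul_left _ heF
      _ < Q ^ c * (2 * F) := by gcongr
      _ = 2 * F * Q ^ c := mul_comm _ _
  have hQ7 : 7 ≤ Q := by
    obtain ⟨s, hs, hsr⟩ := Nat.exists_prime_and_dvd (n := r) (by omega)
    have hso : Odd s := hr.of_dvd_nat hsr
    have := two_mul_lt hQ hQ2 hso (hdiv s hs hsr)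
    have := hs.two_le
    obtain ⟨k, hk⟩ := hso
    omega
  have hQ0 : 0 < Q := by omega
  have hlow : ∀ q k, q ≤ Q → k ≤ c → r * r * Y < q ^ k → r * r * Y < Q ^ c := fun q k hq hk h =>
    lt_of_lt_of_le h ((Nat.pow_le_pow_left hq k).trans (Nat.pow_le_pow_right hQ0 hk))
  rcases Nat.lt_or_ge r 33 with hlt | hge
  · have hQs : ∀ s, s.Prime → Odd s → s ∣ r → 2 * s + 1 ≤ Q := fun s hs hso hsr =>
      two_mul_lt hQ hQ2 hso (hdiv s hs hsr)
    obtain ⟨m, rfl⟩ := hr
    have hm1 : 1 ≤ m := by omega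
    have hm2 : m ≤ 15 := by omega
    interval_cases m
    · -- 3
      have := h3 rfl
      rcases eq_or_lt_of_le hre with h | h
      · subst h
        norm_num [hF, hc] at *
        have : 4 * 7 ≤ 4 * Q := by omega
        omega
      · exact hred (hlow 7 2 hQ7 (by omega) (by omega))
    · -- 5
      have := h5 rfl
      have := hQs 5 (by norm_num) (by decide) (by norm_num)
      exact hred (hlow 11 2 (by omega) (by omega) (by omega))
    · -- 7
      have := h7 rfl
      exact hred (hlow 15 3 (hQs 7 (by norm_num) (by decide) (by norm_num)) (by omega) (by omega))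
    · -- 9
      have := h9 rfl
      rcases eq_or_lt_of_le hre with h | h
      · subst h
        norm_num [hF, hc] at *
        have : 343 ≤ Q ^ 3 := le_trans (by norm_num) (Nat.pow_le_pow_left hQ7 3)
        omega
      · exact hred (hlow 7 4 hQ7 (by omega) (by omega))
    · -- 11
      exact hred (hlow 23 4 (hQs 11 (by norm_num) (by decide) (by norm_num)) (by omega) (by omega))
    · -- 13
      exact hred (hlow 27 5 (hQs 13 (by norm_num) (by decide) (by norm_num)) (by omega) (by omega))
    · -- 15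
      have h3 := hdiv 3 (by norm_num) (by norm_num)
      have h5 := hdiv 5 (by norm_num) (by norm_num)
      have h15 : 15 ∣ Q - 1 := Nat.Coprime.mul_dvd_of_dvd_of_dvd (by norm_num) h3 h5
      have := two_mul_lt hQ hQ2 (by decide) h15
      exact hred (hlow 31 5 (by omega) (by omega) (by omega))
    · exact hred (hlow 35 6 (hQs 17 (by norm_num) (by decide) (by norm_num)) (by omega) (by omega))
    · exact hred (hlow 39 7 (hQs 19 (by norm_num) (by decide) (by norm_num)) (by omega) (by omega))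
    · -- 21
      exact hred (hlow 15 7 (hQs 7 (by norm_num) (by decide) (by norm_num)) (by omega) (by omega))
    · exact hred (hlow 47 8 (hQs 23 (by norm_num) (by decide) (by norm_num)) (by omega) (by omega))
    · -- 25
      exact hred (hlow 11 9 (hQs 5 (by norm_num) (by decide) (by norm_num)) (by omega) (by omega))
    · -- 27
      rcases eq_or_lt_of_le hre with h | h
      · subst h
        norm_num [hF, hc] at *
        have : 40353607 ≤ Q ^ 9 := le_trans (by norm_num) (Nat.pow_le_pow_left hQ7 9)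
        omega
      · exact hred (hlow 7 10 hQ7 (by omega) (by omega))
    · exact hred (hlow 59 10 (hQs 29 (by norm_num) (by decide) (by norm_num)) (by omega) (by omega))
    · exact hred (hlow 63 11 (hQs 31 (by norm_num) (by decide) (by norm_num)) (by omega) (by omega))
  · set k := (r + 2) / 3 with hk
    refine hred (hlow 7 k hQ7 (by omega) ?_)
    have h1 := six_pow_lt k (by omega)
    have h2 : r ^ 6 ≤ (3 * k) ^ 6 := Nat.pow_le_pow_left (by omega) 6
    have h3 : r * r * (8 * Y) ≤ r ^ 6 := by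
      calc r * r * (8 * Y) ≤ r * r * r ^ 4 := Nat.mul_le_mul_left _ hY
        _ = r ^ 6 := by ring
    nlinarith

end Cfsg.Lib.DerBound
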