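import Cfsg.Agent.OddBase.Pairing
import Cfsg.Agent.OddBase.Main

/-!
The action of a group on the socle of the centraliser of a maximal abelian normal subgroup,
modulo that subgroup, packaged as a completely reducible module.
-/

set_option autoImplicit false
set_option linter.unusedSectionVars false
set_option linter.style.haveILetI false

namespace Cfsg.Lib.DerBound

open Subgroup Cfsg.Lib.OddBase

universe u

/-- The socle modulo `Z` as a faithful completely reducible module for a quotient of the group. -/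
structure SocMod (A : Type u) [Group A] (Z : Subgroup A) (r : ℕ) where
  W : Type u
  X : Type u
  addW : AddCommGroup W
  grpX : Group X
  finW : Finite W
  finX : Finite X
  actX : DistribMulAction X W
  faith : FaithfulSMul X W
  π : A →* X
  surj : Function.Surjective π
  ker : π.ker ⊓ Subgroup.centralizer (Z : Set A) = socle Z (Subgroup.centralizer (Z : Set A))
  cr : CR X W
  solv : Group.IsSolvable X
  cardW : Nat.card W = r * r
  index_le : (socle Z (Subgroup.centralizer (Z : Set A))).relIndex
    (Subgroup.centralizer (Z : Set A)) ≤ Nat.card X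
  exp : ∀ q k : ℕ, q.Prime → r * r = q ^ k → ∀ x : W, q • x = 0
  cl : socle Z (Subgroup.centralizer (Z : Set A)) → W
  cl_surj : Function.Surjective cl
  cl_mul : ∀ l m, cl (l * m) = cl l + cl m
  cl_zero : ∀ l, cl l = 0 ↔ (l : A) ∈ Z
  cl_conj : ∀ (a : A) (l m : socle Z (Subgroup.centralizer (Z : Set A))),
    (m : A) = a * l * a⁻¹ → cl m = π a • cl l

attribute [instance] SocMod.addW SocMod.grpX SocMod.finW SocMod.finX SocMod.actX SocMod.faith
  SocMod.solv

variable {A : Type u} [Group A] [Finite A] [Group.IsSolvable A] {Z : Subgroup A} [Z.Normal]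
  [IsMulCommutative Z] {K : Type u} [Field K]

/-- The socle module exists. -/
theorem exists_socMod {ι : Z →* Kˣ} (hι : Function.Injective ι) (hmax : MaxAbelian Z)
    (hne : ¬ Subgroup.centralizer (Z : Set A) ≤ Z) {r : ℕ}
    (hr : Z.relIndex (socle Z (Subgroup.centralizer (Z : Set A))) = r * r) :
    Nonempty (SocMod A Z r) := by
  classical
  set C := Subgroup.centralizer (Z : Set A) with hC
  set L := socle Z C with hL
  set Y := L.relIndex C with hYdef
  have hZL : Z < L := exists_socle hne
  have hLC : L ≤ C := socle_le Z C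
  have hr1 : r * r ≠ 1 := fun h => not_le_of_gt hZL (Subgroup.relIndex_eq_one.1 (hr.trans h))
  -- the module
  letI : CommGroup (socBar Z C) :=
    { (inferInstance : Group (socBar Z C)) with
      mul_comm := fun x y => Subtype.ext (socBar_comm x.2 y.2) }
  haveI : (socBar Z C).Normal :=
    Subgroup.Normal.map (socle_normal Z C) _ (QuotientGroup.mk'_surjective Z)
  let W := Additive (socBar Z C)
  let φ : A →* MulAut (socBar Z C) := MulAut.conjNormal.comp (QuotientGroup.mk' Z)
  letI : DistribMulAction A W :=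
    { smul := fun a x => Additive.ofMul (φ a (Additive.toMul x))
      one_smul := fun x => by
        change Additive.ofMul (φ 1 (Additive.toMul x)) = x
        rw [map_one]; rfl
      mul_smul := fun a b x => by
        change Additive.ofMul (φ (a * b) (Additive.toMul x)) =
          Additive.ofMul (φ a (φ b (Additive.toMul x)))
        rw [map_mul]; rfl
      smul_zero := fun a => congrArg Additive.ofMul (map_one (φ a))
      smul_add := fun a x y => congrArg Additive.ofMul (map_mul (φ a) _ _) }
  let cl : L → W := fun l => Additive.ofMul ⟨QuotientGroup.mk' Z l, Subgroup.mem_map_of_mem _ l.2⟩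
  have hclsurj : Function.Surjective cl := by
    intro x
    obtain ⟨l, hl, hlx⟩ := (Additive.toMul x).2
    exact ⟨⟨l, hl⟩, congrArg Additive.ofMul (Subtype.ext hlx)⟩
  have hclmul : ∀ l m : L, cl (l * m) = cl l + cl m := fun l m => rfl
  have hcl0 : ∀ l : L, cl l = 0 ↔ (l : A) ∈ Z := fun l => by
    constructor
    · intro h
      exact (QuotientGroup.eq_one_iff (l : A)).1 (congrArg Subtype.val (Additive.ofMul.injective h))
    · intro h
      exact congrArg Additive.ofMul (Subtype.ext ((QuotientGroup.eq_one_iff (l : A)).2 h))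
  have hclsmul : ∀ (a : A) (l : L),
      cl ⟨a * l * a⁻¹, (socle_normal Z C).conj_mem _ l.2 a⟩ = a • cl l := fun a l =>
    congrArg Additive.ofMul (Subtype.ext (by
      change _ = ((MulAut.conjNormal (QuotientGroup.mk' Z a) _ : socBar Z C) : A ⧸ Z)
      rw [MulAut.conjNormal_apply]
      rfl))
  have hWcard : Nat.card W = r * r := by
    rw [← hr]
    change Nat.card (socBar Z C) = _
    rw [socBar, ← Subgroup.relIndex_ker, QuotientGroup.ker_mk']
  haveI : Nontrivial W := by
    rw [← Finite.one_lt_card_iff_nontrivial, hWcard]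
    have h0 : r * r ≠ 0 := fun h0 => by
      have := (Nat.card_pos (α := W)).ne'
      rw [hWcard, h0] at this
      exact this rfl
    omega
  have htriv : ∀ a ∈ C, (∀ x : W, a • x = x) → a ∈ L := by
    intro a haC ha
    refine mem_socle hι hmax hne haC fun l hl => ?_
    have h1 := ha (cl ⟨l, hl⟩)
    rw [← hclsmul] at h1
    have h2 := congrArg Subtype.val (Additive.ofMul.injective h1)
    change (QuotientGroup.mk (a * l * a⁻¹) : A ⧸ Z) = QuotientGroup.mk l at h2
    rw [← QuotientGroup.eq_one_iff]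
    rw [QuotientGroup.mk_mul, h2, QuotientGroup.mk_inv, mul_inv_cancel]
  have htrivL : ∀ a ∈ L, ∀ x : W, a • x = x := by
    intro a ha x
    obtain ⟨l, rfl⟩ := hclsurj x
    rw [← hclsmul]
    refine congrArg Additive.ofMul (Subtype.ext ?_)
    change (QuotientGroup.mk (a * (l : A) * a⁻¹) : A ⧸ Z) = QuotientGroup.mk (l : A)
    have hmem := socle_comm (Subgroup.commutator_mem_commutator ha l.2)
    rw [commutatorElement_def] at hmem
    calc (QuotientGroup.mk (a * (l : A) * a⁻¹) : A ⧸ Z)
        = QuotientGroup.mk (a * (l : A) * a⁻¹ * (l : A)⁻¹ * l) := by rw [inv_mul_cancel_right]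
      _ = QuotientGroup.mk (l : A) := by
        rw [QuotientGroup.mk_mul, (QuotientGroup.eq_one_iff _).2 hmem, one_mul]
  -- the image
  let π : A →* (AddMonoid.End W)ˣ := (DistribMulAction.toAddMonoidEnd A W).toHomUnits
  let X := π.range
  have hXsmul : ∀ (a : A) (x : W), (⟨π a, a, rfl⟩ : X) • x = a • x := fun a x => rfl
  haveI : FaithfulSMul X W := ⟨fun {s t} h => Subtype.ext (Units.ext (AddMonoidHom.ext h))⟩
  haveI : Finite X := Finite.of_surjective _ π.rangeRestrict_surjective
  haveI : Group.IsSolvable X := Group.isSolvable_of_surjective π.rangeRestrict_surjective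
  have hcr : CR X W := by
    intro U hU
    have hU' : ∀ a : A, ∀ v ∈ U, a • v ∈ U := fun a v hv => hU ⟨π a, a, rfl⟩ v hv
    let U0 : Subgroup A :=
      { carrier := {x | ∃ h : x ∈ L, cl ⟨x, h⟩ ∈ U}
        one_mem' := ⟨one_mem L, by rw [(hcl0 _).2 (one_mem Z)]; exact zero_mem U⟩
        mul_mem' := fun {x y} hx hy => by
          obtain ⟨hx, hxU⟩ := hx
          obtain ⟨hy, hyU⟩ := hy
          exact ⟨mul_mem hx hy, by
            rw [show (⟨x * y, mul_mem hx hy⟩ : L) = ⟨x, hx⟩ * ⟨y, hy⟩ from rfl, hclmul]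
            exact add_mem hxU hyU⟩
        inv_mem' := fun {x} hx => by
          obtain ⟨hx, hxU⟩ := hx
          refine ⟨inv_mem hx, ?_⟩
          have h0 : cl ⟨x⁻¹, inv_mem hx⟩ + cl ⟨x, hx⟩ = 0 := by
            rw [← hclmul]
            exact (hcl0 _).2 (by simp)
          rw [eq_neg_of_add_eq_zero_left h0]
          exact neg_mem hxU }
    have hU0n : U0.Normal := ⟨fun x hx g => by
      obtain ⟨hx, hxU⟩ := hx
      exact ⟨(socle_normal Z C).conj_mem x hx g, hclsmul g ⟨x, hx⟩ ▸ hU' g _ hxU⟩⟩
    have hZU : Z ≤ U0 := fun z hz => ⟨hZL.le hz, by rw [(hcl0 _).2 hz]; exact zero_mem U⟩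
    have hUL : U0 ≤ L := fun x hx => hx.1
    obtain ⟨T, hTn, hZT, hTL, hTU, hsup⟩ := socle_complement hU0n hZU hUL hZL.le
    let T0 : AddSubgroup W :=
      { carrier := {w | ∃ l : L, (l : A) ∈ T ∧ cl l = w}
        zero_mem' := ⟨1, one_mem T, (hcl0 1).2 (one_mem Z)⟩
        add_mem' := fun {x y} hx hy => by
          obtain ⟨l, hl, rfl⟩ := hx
          obtain ⟨m, hm, rfl⟩ := hy
          exact ⟨l * m, mul_mem hl hm, hclmul l m⟩
        neg_mem' := fun {x} hx => by
          obtain ⟨l, hl, rfl⟩ := hx
          refine ⟨l⁻¹, inv_mem hl, eq_neg_of_add_eq_zero_left ?_⟩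
          rw [← hclmul]
          exact (hcl0 _).2 (by simp) }
    refine ⟨T0, ?_, ?_, ?_⟩
    · rintro ⟨_, a, rfl⟩ w ⟨l, hl, rfl⟩
      exact ⟨⟨_, (socle_normal Z C).conj_mem _ l.2 a⟩, hTn.conj_mem _ hl a,
        (hclsmul a l).trans (hXsmul a _).symm⟩
    · rw [eq_bot_iff]
      rintro w ⟨hwU, l, hl, rfl⟩
      have : (l : A) ∈ T ⊓ U0 := ⟨hl, l.2, hwU⟩
      rw [hTU] at this
      exact AddSubgroup.mem_bot.2 ((hcl0 l).2 this)
    · rw [eq_top_iff]
      intro w _
      obtain ⟨l, rfl⟩ := hclsurj w
      haveI := hTn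
      have hl : (l : A) ∈ ((U0 ⊔ T : Subgroup A) : Set A) := by rw [hsup]; exact l.2
      rw [Subgroup.mul_normal] at hl
      obtain ⟨x, hx, y, hy, hxy⟩ := hl
      obtain ⟨hxL, hxU⟩ := hx
      have : l = ⟨x, hxL⟩ * ⟨y, hTL hy⟩ := Subtype.ext hxy.symm
      rw [this, hclmul]
      exact AddSubgroup.mem_sup.2 ⟨_, hxU, _, ⟨⟨y, hTL hy⟩, hy, rfl⟩, rfl⟩
  have hYX : Y ≤ Nat.card X := by
    have h1 : π.ker ⊓ C = L := by
      refine le_antisymm (fun a ha => htriv a ha.2 fun x => ?_)
        (le_inf (fun l hl => Units.ext (AddMonoidHom.ext fun x => htrivL l hl x)) hLC)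
      exact DFunLike.congr_fun (congrArg Units.val (ha.1 : π a = 1)) x
    change L.relIndex C ≤ _
    rw [← h1, Subgroup.inf_relIndex_right, Subgroup.relIndex_ker]
    exact Nat.card_le_card_of_injective _ (Subgroup.inclusion_injective (Subgroup.map_le_range π C))
  -- prime power cases
  have hexp : ∀ q k : ℕ, q.Prime → r * r = q ^ k → ∀ x : W, q • x = 0 := by
    intro q k hq hqk x
    have hcm : ∀ l m : L, Commute ((l : A) : A ⧸ Z) ((m : A) : A ⧸ Z) := fun l m =>
      socBar_comm (Subgroup.mem_map_of_mem _ l.2) (Subgroup.mem_map_of_mem _ m.2)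
    let T : Subgroup A :=
      { carrier := {x | x ∈ L ∧ x ^ q ∈ Z}
        one_mem' := ⟨one_mem L, by rw [one_pow]; exact one_mem Z⟩
        mul_mem' := fun {x y} hx hy => ⟨mul_mem hx.1 hy.1, by
          rw [← QuotientGroup.eq_one_iff, QuotientGroup.mk_pow, QuotientGroup.mk_mul,
            (hcm ⟨x, hx.1⟩ ⟨y, hy.1⟩).mul_pow, ← QuotientGroup.mk_pow, ← QuotientGroup.mk_pow,
            (QuotientGroup.eq_one_iff _).2 hx.2, (QuotientGroup.eq_one_iff _).2 hy.2, mul_one]⟩
        inv_mem' := fun {x} hx => ⟨inv_mem hx.1, by rw [inv_pow]; exact inv_mem hx.2⟩ }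
    have hLT : L ≤ T := sSup_le fun M hM y hy => by
      obtain ⟨q', hq', hdvd, hMexp⟩ := layer_exp hM
      have h1 : q' ∣ q ^ k := hqk ▸ hr ▸ hdvd.trans
        (Dvd.intro _ (Subgroup.relIndex_mul_relIndex Z M L hM.2.1.le (layer_le_socle hM)))
      obtain rfl : q' = q := (Nat.prime_dvd_prime_iff_eq hq' hq).1 (hq'.dvd_of_dvd_pow h1)
      exact ⟨layer_le_socle hM hy, hMexp y hy⟩
    obtain ⟨l, rfl⟩ := hclsurj x
    apply Additive.toMul.injective
    rw [toMul_nsmul, toMul_zero]
    apply Subtype.ext
    rw [Subgroup.coe_pow]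
    change ((l : A) : A ⧸ Z) ^ q = 1
    rw [← QuotientGroup.mk_pow, QuotientGroup.eq_one_iff]
    exact (hLT l.2).2
  exact ⟨{ W := W, X := X, addW := inferInstance, grpX := inferInstance, finW := inferInstance,
           finX := inferInstance, actX := inferInstance, faith := inferInstance,
           π := π.rangeRestrict, surj := π.rangeRestrict_surjective,
           ker := by
             rw [MonoidHom.ker_rangeRestrict]
             refine le_antisymm (fun a ha => htriv a ha.2 fun x => ?_)
               (le_inf (fun l hl => Units.ext (AddMonoidHom.ext fun x => htrivL l hl x)) hLC)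
             exact DFunLike.congr_fun (congrArg Units.val (ha.1 : π a = 1)) x
           cr := hcr, solv := inferInstance, cardW := hWcard, index_le := hYX, exp := hexp,
           cl := cl, cl_surj := hclsurj, cl_mul := hclmul, cl_zero := hcl0,
           cl_conj := fun a l m hm => by
             refine Eq.trans (congrArg cl (Subtype.ext hm : m = ⟨_, (socle_normal Z C).conj_mem _ l.2 a⟩)) ?_
             exact hclsmul a l }⟩

/-- A regular pair in odd order bounds the group by an eighth of the number of pairs. -/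
theorem eight_card_le {X W : Type u} [Group X] [Finite X] [AddCommGroup W] [Finite W]
    [DistribMulAction X W] [FaithfulSMul X W] (hX : Odd (Nat.card X)) (hW : Odd (Nat.card W))
    (hW5 : 5 ≤ Nat.card W) (h : Pair X W) : 8 * Nat.card X ≤ Nat.card W ^ 2 := by
  classical
  have hneg : ∀ x : W, -x = x → x = 0 := by
    intro x hx
    have h2 : 2 • x = 0 := by
      rw [two_nsmul]
      nth_rewrite 1 [← hx]
      exact neg_add_cancel x
    have h3 := addOrderOf_dvd_of_nsmul_eq_zero h2
    rcases (Nat.dvd_prime Nat.prime_two).1 h3 with h4 | h4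
    · exact AddMonoid.addOrderOf_eq_one_iff.1 h4
    · have h5 : 2 ∣ Nat.card W := h4 ▸ addOrderOf_dvd_natCard x
      exact absurd (even_iff_two_dvd.2 h5) (Nat.not_even_iff_odd.2 hW)
  obtain ⟨v, w, hv, hw, hne1, hne2, hvw⟩ : ∃ v w : W, v ≠ 0 ∧ w ≠ 0 ∧ v ≠ w ∧ v ≠ -w ∧
      ∀ a : X, a • v = v → a • w = w → a = 1 := by
    obtain ⟨v, w, hvw⟩ := h
    have hreg : ∀ a : X, a • v = v → a • w = w → a = 1 := fun a h1 h2 =>
      eq_of_smul_eq_smul fun x : W => (hvw a h1 h2 x).trans (one_smul X x).symm
    have key : ∀ t : W, t ≠ 0 → (∀ a : X, a • t = t → a = 1) → ∃ v w : W, v ≠ 0 ∧ w ≠ 0 ∧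
        v ≠ w ∧ v ≠ -w ∧ ∀ a : X, a • v = v → a • w = w → a = 1 := by
      intro t ht hreg'
      obtain ⟨x, hx⟩ : ∃ x : W, x ∉ ({0, t, -t} : Finset W) := by
        haveI := Fintype.ofFinite W
        by_contra hc
        push Not at hc
        have h3 : Fintype.card W ≤ 3 := by
          rw [← Finset.card_univ]
          exact (Finset.card_le_card fun x _ => hc x).trans Finset.card_le_three
        rw [Nat.card_eq_fintype_card] at hW5
        omega
      simp only [Finset.mem_insert, Finset.mem_singleton, not_or] at hx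
      exact ⟨t, x, ht, hx.1, fun he => hx.2.1 he.symm, fun he => hx.2.2 (by rw [he, neg_neg]),
        fun a h1 _ => hreg' a h1⟩
    by_cases hv : v = 0
    · subst hv
      by_cases hw : w = 0
      · subst hw
        haveI : Nontrivial W := Finite.one_lt_card_iff_nontrivial.1 (by omega)
        obtain ⟨x, hx⟩ := exists_ne (0 : W)
        exact key x hx fun a _ => hreg a (smul_zero a) (smul_zero a)
      · exact key w hw fun a ha => hreg a (smul_zero a) ha
    by_cases hw : w = 0
    · exact key v hv fun a ha => hreg a ha (hw ▸ smul_zero a)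
    by_cases h1 : v = w
    · exact key v hv fun a ha => hreg a ha (h1 ▸ ha)
    by_cases h2 : v = -w
    · exact key w hw fun a ha => hreg a (by rw [h2, smul_neg, ha]) ha
    exact ⟨v, w, hv, hw, h1, h2, hreg⟩
  let sg : Bool → W → W := fun b x => if b then x else -x
  have hsg : ∀ (b : Bool) (c : X) (x : W), c • sg b x = sg b (c • x) := by
    intro b c x; cases b <;> simp [sg, smul_neg]
  let t : Bool × Bool × Bool → W × W := fun s =>
    if s.1 then (sg s.2.1 v, sg s.2.2 w) else (sg s.2.1 w, sg s.2.2 v)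
  have hfour : ∀ c : X, c • c • c • c • v = v → c • v = v := by
    intro c hc
    refine smul_eq_of_sq hX c v (smul_eq_of_sq hX (c * c) v ?_)
    simpa [mul_smul] using hc
  have hswap : ∀ (c : X) (b b' : Bool), c • v = sg b w → c • w = sg b' v → False := by
    intro c b b' h1 h2
    have h3 : c • c • c • c • v = v := by
      rw [h1, hsg, h2]
      cases b <;> cases b' <;> simp [sg, smul_neg, h1, h2]
    have h4 := hfour c h3
    rw [h4] at h1
    cases b
    · exact hne2 h1
    · exact hne1 h1
  have hsame : ∀ (c : X) (x : W) (b : Bool), x ≠ 0 → c • x = sg b x → c • x = x := by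
    intro c x b hx h1
    refine smul_eq_of_sq hX c x ?_
    rw [mul_smul, h1, hsg, h1]
    cases b <;> simp [sg]
  have hkey : ∀ (c : X) (s s' : Bool × Bool × Bool), c • t s = t s' → c = 1 ∧ s = s' := by
    have hsgv : ∀ (b b' : Bool) (x y : W), sg b x = y → x = sg b y := by
      intro b b' x y h
      cases b <;> simp [sg] at h ⊢ <;> rw [← h] <;> simp
    rintro c ⟨s1, s2, s3⟩ ⟨u1, u2, u3⟩ h1
    have e1 := congrArg Prod.fst h1
    have e2 := congrArg Prod.snd h1
    cases s1 <;> cases u1 <;>
      simp only [t, Prod.smul_fst, Prod.smul_snd, if_true, Bool.false_eq_true, if_false] at e1 e2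
    all_goals rw [hsg] at e1 e2
    · have a1 : c • w = sg (s2 == u2) w := by
        rw [hsgv s2 true _ _ e1]; cases s2 <;> cases u2 <;> simp [sg]
      have a2 : c • v = sg (s3 == u3) v := by
        rw [hsgv s3 true _ _ e2]; cases s3 <;> cases u3 <;> simp [sg]
      have b1 := hsame c w _ hw a1
      have b2 := hsame c v _ hv a2
      refine ⟨hvw c b2 b1, ?_⟩
      rw [b1] at a1; rw [b2] at a2
      cases s2 <;> cases u2 <;> cases s3 <;> cases u3 <;> simp [sg] at a1 a2 ⊢
      all_goals first | exact hw (hneg w a1.symm) | exact hv (hneg v a2.symm)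
    · exfalso
      refine hswap c (s3 == u3) (s2 == u2) ?_ ?_
      · rw [hsgv s3 true _ _ e2]; cases s3 <;> cases u3 <;> simp [sg]
      · rw [hsgv s2 true _ _ e1]; cases s2 <;> cases u2 <;> simp [sg]
    · exfalso
      refine hswap c (s2 == u2) (s3 == u3) ?_ ?_
      · rw [hsgv s2 true _ _ e1]; cases s2 <;> cases u2 <;> simp [sg]
      · rw [hsgv s3 true _ _ e2]; cases s3 <;> cases u3 <;> simp [sg]
    · have a1 : c • v = sg (s2 == u2) v := by
        rw [hsgv s2 true _ _ e1]; cases s2 <;> cases u2 <;> simp [sg]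
      have a2 : c • w = sg (s3 == u3) w := by
        rw [hsgv s3 true _ _ e2]; cases s3 <;> cases u3 <;> simp [sg]
      have b1 := hsame c v _ hv a1
      have b2 := hsame c w _ hw a2
      refine ⟨hvw c b1 b2, ?_⟩
      rw [b1] at a1; rw [b2] at a2
      cases s2 <;> cases u2 <;> cases s3 <;> cases u3 <;> simp [sg] at a1 a2 ⊢
      all_goals first | exact hv (hneg v a1.symm) | exact hw (hneg w a2.symm)
  have hinj : Function.Injective fun p : X × Bool × Bool × Bool => p.1 • t p.2 := by
    rintro ⟨a, s⟩ ⟨b, s'⟩ he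
    have he' : (b⁻¹ * a) • t s = t s' := by
      rw [mul_smul, inv_smul_eq_iff]; exact he
    obtain ⟨h1, h2⟩ := hkey _ _ _ he'
    rw [inv_mul_eq_one] at h1
    exact Prod.ext h1.symm h2
  have h8 := Nat.card_le_card_of_injective _ hinj
  rw [Nat.card_prod, Nat.card_prod, Nat.card_prod, Nat.card_prod,
    (by rw [Nat.card_eq_fintype_card, Fintype.card_bool] : Nat.card Bool = 2)] at h8
  rw [pow_two]
  omega

end Cfsg.Lib.DerBound
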