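import Cfsg.Agent.DerBound.OddArith
import Cfsg.Agent.DerBound.SocleModule
import Cfsg.Agent.OddBase.Primitive

/-!
A primitive group of odd order has a non-zero vector with abelian stabiliser.
-/

set_option autoImplicit false
set_option linter.unusedSectionVars false
set_option linter.style.haveILetI false

namespace Cfsg.Lib.DerBound

open Subgroup Cfsg.Lib.OddBase

universe u

/-- A non-zero vector whose stabiliser is commutative. -/
def AbStab (A V : Type u) [Group A] [AddCommGroup V] [DistribMulAction A V] : Prop :=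
  ∃ v : V, v ≠ 0 ∧ ∀ a b : A, a • v = v → b • v = v → ∀ x : V, a • b • x = b • a • x

variable {A V : Type u} [Group A] [Finite A] [AddCommGroup V] [Finite V] [DistribMulAction A V]
  [FaithfulSMul A V] {Z : Subgroup A} [IsMulCommutative Z]

/-- Automorphisms of a finite field commute. -/
theorem ringAut_comm {K : Type*} [Field K] [Finite K] (s t : RingAut K) : s * t = t * s := by
  obtain ⟨p, hchar⟩ := CharP.exists K
  haveI : Fact p.Prime := ⟨CharP.char_is_prime K p⟩
  letI : Algebra (ZMod p) K := ZMod.algebra K p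
  let up : RingAut K → (K ≃ₐ[ZMod p] K) := fun f => AlgEquiv.ofRingEquiv (f := f)
    (fun x => RingHom.congr_fun (Subsingleton.elim (f.toRingHom.comp (algebraMap (ZMod p) K)) _) x)
  obtain ⟨g, hg⟩ := IsCyclic.exists_generator (α := (K ≃ₐ[ZMod p] K))
  obtain ⟨i, hi⟩ := Subgroup.mem_zpowers_iff.1 (hg (up s))
  obtain ⟨j, hj⟩ := Subgroup.mem_zpowers_iff.1 (hg (up t))
  refine RingEquiv.ext fun k => ?_
  change up s (up t k) = up t (up s k)
  rw [← hi, ← hj, ← AlgEquiv.mul_apply, ← AlgEquiv.mul_apply, ← zpow_add, ← zpow_add, add_comm]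

/-- A vector regular for the centraliser has commutative stabiliser. -/
theorem abStab_of_regular {K : Type u} [Field K] [Finite K] (σ : A →* RingAut K)
    (hσ : σ.ker = Subgroup.centralizer (Z : Set A)) {v : V} (hv : v ≠ 0)
    (hreg : ∀ a ∈ Subgroup.centralizer (Z : Set A), a • v = v → a = 1) : AbStab A V := by
  refine ⟨v, hv, fun a b ha hb x => ?_⟩
  have h1 : (b * a)⁻¹ * (a * b) = 1 := by
    refine hreg _ ?_ ?_
    · rw [← hσ, MonoidHom.mem_ker, map_mul, map_inv, map_mul, map_mul, ringAut_comm (σ a) (σ b),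
        inv_mul_cancel]
    · rw [mul_smul, inv_smul_eq_iff, mul_smul, mul_smul, ha, hb, ha]
  rw [inv_mul_eq_one] at h1
  rw [← mul_smul, ← mul_smul, ← h1]

/-- The concavity step. -/
theorem pow_sub_one_mul_le {Q : ℕ} (hQ : 2 ≤ Q) :
    ∀ {F d : ℕ}, d ≤ F → (Q ^ d - 1) * F ≤ d * (Q ^ F - 1) := by
  intro F
  induction F with
  | zero => intro d hd; simp [Nat.le_zero.1 hd]
  | succ n ih =>
    intro d hd
    rcases Nat.lt_or_ge d (n + 1) with h | h
    · have h1 := ih (Nat.lt_succ_iff.1 h)
      have h2 : Q ^ d ≤ Q ^ n := Nat.pow_le_pow_right (by omega) (Nat.lt_succ_iff.1 h)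
      have h3 : 1 ≤ Q ^ d := Nat.one_le_pow _ _ (by omega)
      have h4 : 2 * Q ^ n ≤ Q ^ (n + 1) := by
        rw [pow_succ, mul_comm]; exact Nat.mul_le_mul_left _ hQ
      rcases Nat.eq_zero_or_pos d with rfl | hd0
      · simp
      obtain ⟨a, ha⟩ : ∃ a, Q ^ d = a + 1 := ⟨Q ^ d - 1, by omega⟩
      obtain ⟨b, hb⟩ : ∃ b, Q ^ n = b + 1 := ⟨Q ^ n - 1, by omega⟩
      obtain ⟨c, hc⟩ : ∃ c, Q ^ (n + 1) = c + 1 := ⟨Q ^ (n + 1) - 1, by omega⟩
      rw [ha, hc, Nat.add_sub_cancel, Nat.add_sub_cancel]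
      rw [ha, hb, Nat.add_sub_cancel, Nat.add_sub_cancel] at h1
      have h5 : a + b ≤ c := by omega
      have h6 : a ≤ d * a := Nat.le_mul_of_pos_left a hd0
      have h7 : d * (a + b) ≤ d * c := Nat.mul_le_mul_left d h5
      rw [mul_add] at h7
      rw [mul_add, mul_one]
      omega
    · obtain rfl : d = n + 1 := by omega
      rw [mul_comm]

section Semi

variable [Group.IsSolvable A] [Z.Normal] [Nontrivial V] {K : Type u} [Field K] [Finite K] [Module K V]

/-- The lifts of one coset of `Z` fix few vectors in total. -/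
theorem sum_fix_coset {ι : Z →* Kˣ} (hι : Function.Injective ι)
    (hιv : ∀ (z : Z) (v : V), ((ι z : Kˣ) : K) • v = (z : A) • v)
    (hcomm : ∀ g ∈ Subgroup.centralizer (Z : Set A), ∀ (k : K) (v : V), g • (k • v) = k • (g • v))
    {F : ℕ} (s : Finset A) (hs : ∀ a ∈ s, a ∈ Subgroup.centralizer (Z : Set A))
    (hsame : ∀ a ∈ s, ∀ b ∈ s, a⁻¹ * b ∈ Z)
    (hF : ∀ a ∈ s, Nat.card (fixS A V a) ≤ Nat.card K ^ F) :
    (∑ a ∈ s, (Nat.card (fixS A V a) - 1)) * F ≤
      Module.finrank K V * (Nat.card K ^ F - 1) := by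
  classical
  rcases s.eq_empty_or_nonempty with rfl | ⟨a₀, ha₀⟩
  · simp
  have hQ : 2 ≤ Nat.card K := Finite.one_lt_card
  let T : Module.End K V :=
    { toFun := fun v => a₀ • v
      map_add' := fun x y => smul_add _ x y
      map_smul' := fun k v => hcomm a₀ (hs a₀ ha₀) k v }
  let μ : s → K := fun a => (((ι ⟨a₀⁻¹ * a.1, hsame a₀ ha₀ a.1 a.2⟩)⁻¹ : Kˣ) : K)
  have hμ : Function.Injective μ := fun a b h => by
    have h1 := hι (inv_injective (Units.ext h))
    exact Subtype.ext (mul_left_cancel (congrArg Subtype.val h1))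
  let E : s → Submodule K V := fun a => T.eigenspace (μ a)
  have hE : ∀ a : s, Nat.card (E a) = Nat.card (fixS A V a.1) := by
    intro a
    refine Nat.card_congr (Equiv.subtypeEquivRight fun v => ?_)
    set z : Z := ⟨a₀⁻¹ * a.1, hsame a₀ ha₀ a.1 a.2⟩ with hz
    have hav : a.1 • v = ((ι z : Kˣ) : K) • (a₀ • v) := by
      rw [← hcomm a₀ (hs a₀ ha₀), hιv, ← mul_smul, hz, mul_inv_cancel_left]
    change v ∈ T.eigenspace (μ a) ↔ a.1 • v = v
    rw [Module.End.mem_eigenspace_iff, hav]
    change a₀ • v = (((ι z)⁻¹ : Kˣ) : K) • v ↔ ((ι z : Kˣ) : K) • (a₀ • v) = v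
    constructor
    · intro h
      rw [h, ← mul_smul, ← Units.val_mul, mul_inv_cancel, Units.val_one, one_smul]
    · intro h
      conv_rhs => rw [← h, ← mul_smul, ← Units.val_mul, inv_mul_cancel, Units.val_one, one_smul]
  have hind : iSupIndep E := T.eigenspaces_iSupIndep.comp hμ
  let φ : (∀ a : s, E a) →ₗ[K] V :=
    { toFun := fun x => ∑ a, ((x a : E a) : V)
      map_add' := fun x y => by simp [Finset.sum_add_distrib]
      map_smul' := fun k x => by simp [Finset.smul_sum] }
  have hφ : Function.Injective φ := by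
    refine (injective_iff_map_eq_zero φ).2 fun x hx => funext fun a => Subtype.ext ?_
    have h1 : ((x a : E a) : V) = -∑ b ∈ Finset.univ.erase a, ((x b : E b) : V) := by
      rw [eq_neg_iff_add_eq_zero,
        Finset.add_sum_erase Finset.univ (fun b => ((x b : E b) : V)) (Finset.mem_univ a)]
      exact hx
    have h2 : ((x a : E a) : V) ∈ E a ⊓ ⨆ (b) (_ : b ≠ a), E b := by
      refine ⟨(x a).2, ?_⟩
      rw [h1]
      refine neg_mem (Submodule.sum_mem _ fun b hb => ?_)
      exact Submodule.mem_iSup_of_mem b (Submodule.mem_iSup_of_mem (Finset.ne_of_mem_erase hb) (x b).2)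
    rw [(hind a).eq_bot, Submodule.mem_bot] at h2
    exact h2
  have hdim : ∑ a : s, Module.finrank K (E a) ≤ Module.finrank K V := by
    rw [← Module.finrank_pi_fintype]
    exact LinearMap.finrank_le_finrank_of_injective hφ
  rw [← Finset.sum_coe_sort, Finset.sum_mul]
  calc ∑ a : s, (Nat.card (fixS A V a.1) - 1) * F
      ≤ ∑ a : s, Module.finrank K (E a) * (Nat.card K ^ F - 1) := by
        refine Finset.sum_le_sum fun a _ => ?_
        have h3 : Nat.card (fixS A V a.1) = Nat.card K ^ Module.finrank K (E a) := by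
          rw [← hE, Module.natCard_eq_pow_finrank (K := K)]
        rw [h3]
        refine pow_sub_one_mul_le hQ ?_
        have := hF a.1 a.2
        rw [h3] at this
        exact (Nat.pow_le_pow_iff_right hQ).1 this
    _ ≤ _ := by
        rw [← Finset.sum_mul]
        exact Nat.mul_le_mul_right _ hdim

/-- The semilinear case in odd order. -/
theorem abStab_semilinear (hA : Odd (Nat.card A)) (hVodd : Odd (Nat.card V))
    (hmax : MaxAbelian Z) (hf : ∀ k ∈ alg A V Z, k ≠ 0 → ∃ l ∈ alg A V Z, k * l = 1)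
    {ι : Z →* Kˣ} (hι : Function.Injective ι)
    (hιv : ∀ (z : Z) (v : V), ((ι z : Kˣ) : K) • v = (z : A) • v)
    (σ : A →* RingAut K) (hσ : σ.ker = Subgroup.centralizer (Z : Set A))
    (hsemi : ∀ (g : A) (k : K) (v : V), g • (k • v) = σ g k • (g • v)) : AbStab A V := by
  classical
  haveI := Fintype.ofFinite A
  haveI := Fintype.ofFinite V
  set C := Subgroup.centralizer (Z : Set A) with hC
  have hcomm : ∀ g ∈ C, ∀ (k : K) (v : V), g • (k • v) = k • (g • v) := fun g hg k v => by
    rw [hsemi, show σ g = 1 from MonoidHom.mem_ker.1 (hσ ▸ hg)]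
    rfl
  have hfix0 : ∀ a ∈ Z, ∀ v : V, a • v = v → v ≠ 0 → a = 1 := fun a ha v hav hv => by
    by_contra h
    exact hv (eq_zero_of_smul_eq hf ha h hav)
  by_cases hne : C ≤ Z
  · obtain ⟨v, hv⟩ := exists_ne (0 : V)
    exact abStab_of_regular σ hσ hv fun a ha hav => hfix0 a (hne ha) v hav hv
  set Q := Nat.card K with hQdef
  set e := Module.finrank K V with he
  have hV : Nat.card V = Q ^ e := Module.natCard_eq_pow_finrank
  have he0 : 0 < e := Module.finrank_pos
  have hQ2 : 2 ≤ Q := Finite.one_lt_card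
  have hQodd : Odd Q := by
    rw [hV, Nat.odd_pow_iff he0.ne'] at hVodd
    exact hVodd
  obtain ⟨r, hr⟩ := socle_index_square hι hmax hne
  obtain ⟨hr3, hrodd, -, hY3, hY5, hY7, hY9⟩ :=
    socle_bounds (below_all (Nat.card A)) hA le_rfl hι hmax hne hr
  set L := socle Z C with hL
  set Y := L.relIndex C with hYdef
  have hLC : L ≤ C := socle_le Z C
  have hZL : Z < L := exists_socle hne
  have hre : r ≤ e := Nat.mul_self_le_mul_self_iff.1
    (hr ▸ le_finrank hcomm hι hιv hmax hne)
  obtain ⟨M⟩ := exists_socMod hι hmax hne hr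
  have hY : 8 * Y ≤ r ^ 4 := by
    have hXodd : Odd (Nat.card M.X) := hA.of_dvd_nat (Subgroup.card_dvd_of_surjective _ M.surj)
    have hWodd : Odd (Nat.card M.W) := by rw [M.cardW]; exact hrodd.mul hrodd
    have hW5 : 5 ≤ Nat.card M.W := by rw [M.cardW]; nlinarith
    have := eight_card_le hXodd hWodd hW5
      (below_all (Nat.card M.X + 1) M.X M.W (Nat.lt_succ_self _) hXodd M.cr)
    rw [M.cardW] at this
    have h2 := Nat.mul_le_mul_left 8 M.index_le
    calc 8 * Y ≤ 8 * Nat.card M.X := h2
      _ ≤ (r * r) ^ 2 := this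
      _ = r ^ 4 := by ring
  have hdiv : ∀ s, s.Prime → s ∣ r → s ∣ Q - 1 := by
    intro s hs hsr
    refine (prime_dvd_card hι hmax hne s hs (hr ▸ hsr.mul_right r)).trans ?_
    rw [hQdef, ← Nat.card_units]
    exact Subgroup.card_dvd_of_injective ι hι
  have hcount := odd_count hQodd hQ2 hrodd hr3 hre hdiv hY
    (fun h => (hY3 h).le) hY5 hY7 hY9
  set F := 2 * e / 3 with hFdef
  -- fixed spaces
  have hcube : ∀ g ∈ L, g ∉ Z → Nat.card (fixS A V g) ^ 3 ≤ Nat.card V := by
    intro g hg hgZ
    obtain ⟨n, hn, hng⟩ : ∃ n ∈ L, n * g ≠ g * n := by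
      by_contra hc
      push Not at hc
      exact hgZ ((socle_center hmax hne) ▸ ⟨hg, Subgroup.mem_centralizer_iff.2 hc⟩)
    refine fix_cube_le hf hA g n (g * n * g⁻¹ * n⁻¹) (hLC hg) (hLC hn)
      (socle_comm (Subgroup.commutator_mem_commutator hg hn)) (fun h1 => ?_) (by group)
    rw [mul_inv_eq_one, mul_inv_eq_iff_eq_mul] at h1
    exact hng h1.symm
  have hfixF : ∀ a ∈ C, a ∉ Z → Nat.card (fixS A V a) ≤ Q ^ F := by
    intro a haC haZ
    have h3 : Nat.card (fixS A V a) ^ 3 ≤ Nat.card V ^ 2 := by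
      by_cases haL : a ∈ L
      · exact (hcube a haL haZ).trans (Nat.le_self_pow (by norm_num) _)
      obtain ⟨l, hl, hlZ⟩ : ∃ l ∈ L, a * l * a⁻¹ * l⁻¹ ∉ Z := by
        by_contra hc
        push Not at hc
        exact haL (mem_socle hι hmax hne haC hc)
      have hhL : a * l * a⁻¹ * l⁻¹ ∈ L :=
        mul_mem ((socle_normal Z C).conj_mem l hl a) (inv_mem hl)
      refine (Nat.pow_le_pow_iff_left (n := 2) (by norm_num)).1 ?_
      calc (Nat.card (fixS A V a) ^ 3) ^ 2 = (Nat.card (fixS A V a) ^ 2) ^ 3 := by ring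
        _ ≤ (Nat.card V * Nat.card (fixS A V (a * l * a⁻¹ * l⁻¹))) ^ 3 :=
          Nat.pow_le_pow_left (fix_commutator_le a l) 3
        _ ≤ Nat.card V ^ 3 * Nat.card V := by
          rw [mul_pow]; exact Nat.mul_le_mul_left _ (hcube _ hhL hlZ)
        _ = (Nat.card V ^ 2) ^ 2 := by ring
    obtain ⟨d, hd⟩ : ∃ d, Nat.card (fixS A V a) = Q ^ d := by
      let E : Submodule K V :=
        { carrier := {v | a • v = v}
          zero_mem' := smul_zero a
          add_mem' := fun {x y} hx hy => by
            change a • (x + y) = x + y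
            rw [smul_add, hx, hy]
          smul_mem' := fun k x hx => by
            change a • (k • x) = k • x
            rw [hcomm a haC, hx] }
      exact ⟨Module.finrank K E, (Module.natCard_eq_pow_finrank (K := K) (V := E))⟩
    rw [hd, hV, ← pow_mul, ← pow_mul] at h3
    rw [hd]
    refine Nat.pow_le_pow_right (by omega) ?_
    have := (Nat.pow_le_pow_iff_right hQ2).1 h3
    omega
  -- the bad pairs
  by_contra hno
  have hbad : ∀ v : V, v ≠ 0 → ∃ a ∈ C, a ∉ Z ∧ a • v = v := by
    intro v hv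
    by_contra hc
    push Not at hc
    refine hno (abStab_of_regular σ hσ hv fun a ha hav => hfix0 a ?_ v hav hv)
    by_contra haZ
    exact hc a ha haZ hav
  let S : Finset A := Finset.univ.filter fun a => a ∈ C ∧ a ∉ Z
  let P : Finset (A × V) := (S ×ˢ Finset.univ).filter fun q => q.1 • q.2 = q.2 ∧ q.2 ≠ 0
  have hPlow : 2 * (Q ^ e - 1) ≤ P.card := by
    choose f hfC hfZ hff using hbad
    let g : {v : V // v ≠ 0} × Bool → A × V := fun q =>
      (if q.2 then f q.1.1 q.1.2 else (f q.1.1 q.1.2)⁻¹, q.1.1)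
    have hg : Function.Injective g := by
      rintro ⟨⟨v, hv⟩, b⟩ ⟨⟨v', hv'⟩, b'⟩ h
      obtain rfl : v = v' := congrArg Prod.snd h
      have h1 := congrArg Prod.fst h
      simp only [g] at h1
      have hne1 : f v hv ≠ (f v hv)⁻¹ := by
        intro he'
        have h2 : (f v hv) ^ 2 = 1 := by
          rw [pow_two]; nth_rewrite 2 [he']; exact mul_inv_cancel _
        rcases (Nat.dvd_prime Nat.prime_two).1 (orderOf_dvd_of_pow_eq_one h2) with h4 | h4
        · exact hfZ v hv (by rw [orderOf_eq_one_iff.1 h4]; exact one_mem Z)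
        · have h5 : 2 ∣ Nat.card A := h4 ▸ orderOf_dvd_natCard _
          exact Nat.not_even_iff_odd.2 hA (even_iff_two_dvd.2 h5)
      cases b <;> cases b' <;> simp at h1 ⊢
      · exact hne1 h1.symm
      · exact hne1 h1
    have hsub : Finset.univ.image g ⊆ P := by
      intro q hq
      obtain ⟨⟨⟨v, hv⟩, b⟩, -, rfl⟩ := Finset.mem_image.1 hq
      cases b
      · simp only [g, P, S, Finset.mem_filter, Finset.mem_product, Finset.mem_univ, true_and,
          and_true, Bool.false_eq_true, if_false]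
        exact ⟨⟨inv_mem (hfC v hv), fun h => hfZ v hv (by simpa using inv_mem h)⟩,
          inv_smul_eq_iff.2 (hff v hv).symm, hv⟩
      · simp only [g, P, S, Finset.mem_filter, Finset.mem_product, Finset.mem_univ, true_and,
          and_true, if_true]
        exact ⟨⟨hfC v hv, hfZ v hv⟩, hff v hv, hv⟩
    have h2 := Finset.card_le_card hsub
    rw [Finset.card_image_of_injective _ hg, Finset.card_univ, Fintype.card_prod, Fintype.card_bool,
      Fintype.card_subtype_compl, Fintype.card_subtype_eq, ← Nat.card_eq_fintype_card, hV] at h2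
    omega
  have hPS : P.card = ∑ a ∈ S, (Nat.card (fixS A V a) - 1) := by
    rw [Finset.card_filter, Finset.sum_product]
    refine Finset.sum_congr rfl fun a _ => ?_
    rw [← Finset.card_filter]
    have h1 : Nat.card (fixS A V a) = (Finset.univ.filter fun v : V => a • v = v).card := by
      rw [Nat.card_eq_fintype_card]
      exact Fintype.card_of_subtype _ fun v => by simp; rfl
    rw [h1, ← Finset.card_erase_of_mem (a := (0 : V)) (by simp)]
    congr 1
    ext v
    simp [and_comm]
  have hPhigh : P.card * F ≤ r * r * Y * (e * (Q ^ F - 1)) := by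
    rw [hPS, ← Finset.sum_fiberwise_of_maps_to (t := S.image (QuotientGroup.mk : A → A ⧸ Z))
      (fun a ha => Finset.mem_image_of_mem _ ha) (fun a => Nat.card (fixS A V a) - 1), Finset.sum_mul]
    refine le_trans (Finset.sum_le_card_nsmul _ _ (e * (Q ^ F - 1)) fun q _ => ?_) ?_
    · refine sum_fix_coset hι hιv hcomm _ (fun a ha => ((Finset.mem_filter.1
        (Finset.mem_filter.1 ha).1).2).1) (fun a ha b hb => ?_) (fun a ha => ?_)
      · exact QuotientGroup.eq.1 ((Finset.mem_filter.1 ha).2.trans (Finset.mem_filter.1 hb).2.symm)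
      · obtain ⟨h1, h2⟩ := (Finset.mem_filter.1 (Finset.mem_filter.1 ha).1).2
        exact hfixF a h1 h2
    · rw [smul_eq_mul]
      refine Nat.mul_le_mul_right _ ?_
      have hle : (S.image (QuotientGroup.mk : A → A ⧸ Z)).card ≤
          Nat.card (C.map (QuotientGroup.mk' Z)) := by
        rw [← Nat.card_eq_finsetCard]
        refine Nat.card_le_card_of_injective (fun q => ⟨q.1, ?_⟩) fun a b h => Subtype.ext
          (congrArg (fun x : C.map (QuotientGroup.mk' Z) => (x : A ⧸ Z)) h)
        obtain ⟨a, ha, hq⟩ := Finset.mem_image.1 q.2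
        exact ⟨a, (Finset.mem_filter.1 ha).2.1, hq⟩
      refine hle.trans (le_of_eq ?_)
      rw [← Subgroup.relIndex_ker, QuotientGroup.ker_mk',
        ← Subgroup.relIndex_mul_relIndex Z L C hZL.le hLC, hr]
  have hQe : Q ^ e = Q ^ F * Q ^ (e - F) := by rw [← pow_add]; congr 1; omega
  have hQF : 1 ≤ Q ^ F := Nat.one_le_pow _ _ (by omega)
  have h1 : 2 * (Q ^ e - 1) * F ≤ r * r * Y * (e * (Q ^ F - 1)) :=
    (Nat.mul_le_mul_right F hPlow).trans hPhigh
  obtain ⟨a, ha⟩ : ∃ a, Q ^ F = a + 1 := ⟨Q ^ F - 1, by omega⟩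
  obtain ⟨b, hb⟩ : ∃ b, Q ^ (e - F) = b + 1 := ⟨Q ^ (e - F) - 1, by
    have := Nat.one_le_pow (e - F) Q (by omega); omega⟩
  obtain ⟨c, hc⟩ : ∃ c, Q ^ e = c + 1 := ⟨Q ^ e - 1, by
    have := Nat.one_le_pow e Q (by omega); omega⟩
  rw [hc, ha, hb] at hQe
  rw [hc, ha, Nat.add_sub_cancel, Nat.add_sub_cancel] at h1
  rw [hb] at hcount
  have hF1 : 1 ≤ F := by omega
  have hlt : r * r * Y * e + 1 ≤ 2 * F * (b + 1) := hcount
  have h3 := Nat.mul_le_mul_right a hlt
  have hcval : c = a * (b + 1) + b := by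
    rw [add_one_mul] at hQe
    omega
  have ha1 : 1 ≤ a := by
    have : 2 ≤ Q ^ F := hQ2.trans (Nat.le_self_pow (by omega) Q)
    omega
  subst hcval
  nlinarith

end Semi

section Prim

variable [Group.IsSolvable A] [Z.Normal] [Nontrivial V]

/-- The primitive case in odd order. -/
theorem abStab_primitive (hA : Odd (Nat.card A)) (hVodd : Odd (Nat.card V))
    (hirr : Irr A V) (hmax : MaxAbelian Z)
    (hidem : ∀ e ∈ alg A V Z, e * e = e → e = 0 ∨ e = 1) : AbStab A V := by
  have hf := alg_field hirr hidem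
  haveI : Finite (alg A V Z) := alg_finite
  have hinv : ∀ g : A, act A V g⁻¹ * act A V g = 1 := fun g => by
    rw [← map_mul, inv_mul_cancel, map_one]
  have hinv' : ∀ g : A, act A V g * act A V g⁻¹ = 1 := fun g => by
    rw [← map_mul, mul_inv_cancel, map_one]
  let cj : A → alg A V Z →+* alg A V Z := fun g =>
    { toFun := fun k => ⟨act A V g * k * act A V g⁻¹, alg_conj g k.2⟩
      map_one' := Subtype.ext (by
        change act A V g * 1 * act A V g⁻¹ = 1
        rw [mul_one, hinv'])
      map_mul' := fun a b => Subtype.ext (by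
        simp only [Subring.coe_mul]
        simp only [mul_assoc]
        rw [← mul_assoc (act A V g⁻¹) (act A V g), hinv, one_mul])
      map_zero' := Subtype.ext (by
        change act A V g * 0 * act A V g⁻¹ = 0
        rw [mul_zero, zero_mul])
      map_add' := fun a b => Subtype.ext (by
        change act A V g * ((a : AddMonoid.End V) + b) * act A V g⁻¹ =
          act A V g * a * act A V g⁻¹ + act A V g * b * act A V g⁻¹
        rw [mul_add, add_mul]) }
  have hcj1 : ∀ k, cj 1 k = k := fun k => Subtype.ext (by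
    change act A V 1 * (k : AddMonoid.End V) * act A V 1⁻¹ = k
    rw [inv_one, map_one, one_mul, mul_one])
  have hcjmul : ∀ g g' k, cj (g * g') k = cj g (cj g' k) := fun g g' k => Subtype.ext (by
    change act A V (g * g') * k * act A V (g * g')⁻¹ =
      act A V g * (act A V g' * k * act A V g'⁻¹) * act A V g⁻¹
    rw [mul_inv_rev, map_mul, map_mul]
    simp only [mul_assoc])
  let σ : A →* RingAut (alg A V Z) := MonoidHom.mk'
    (fun g => RingEquiv.ofRingHom (cj g) (cj g⁻¹)
      (RingHom.ext fun k => by rw [RingHom.comp_apply, ← hcjmul, mul_inv_cancel, hcj1]; rfl)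
      (RingHom.ext fun k => by rw [RingHom.comp_apply, ← hcjmul, inv_mul_cancel, hcj1]; rfl))
    (fun g g' => RingEquiv.ext fun k => hcjmul g g' k)
  have hσ : σ.ker = Subgroup.centralizer (Z : Set A) := by
    ext g
    rw [MonoidHom.mem_ker, Subgroup.mem_centralizer_iff]
    constructor
    · intro h z hz
      have h1 : act A V g * act A V z * act A V g⁻¹ = act A V z :=
        congrArg Subtype.val (RingEquiv.congr_fun h ⟨act A V z, mem_alg hz⟩)
      rw [← map_mul, ← map_mul] at h1
      have h2 : g * z * g⁻¹ = z := eq_of_smul_eq_smul fun v : V => DFunLike.congr_fun h1 v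
      rw [mul_inv_eq_iff_eq_mul] at h2
      exact h2.symm
    · intro h
      refine RingEquiv.ext fun k => Subtype.ext ?_
      change act A V g * k * act A V g⁻¹ = k
      rw [commute_alg (Subgroup.mem_centralizer_iff.2 h) k.2, mul_assoc, hinv', mul_one]
  let ι : Z →* (alg A V Z)ˣ := MonoidHom.toHomUnits
    { toFun := fun z : Z => ⟨act A V (z : A), mem_alg z.2⟩
      map_one' := Subtype.ext (map_one (act A V))
      map_mul' := fun x y => Subtype.ext (map_mul (act A V) (x : A) (y : A)) }
  have hι : Function.Injective ι := by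
    intro x y h
    have h1 : act A V (x : A) = act A V (y : A) := congrArg (fun t : (alg A V Z)ˣ => ((t : alg A V Z) : AddMonoid.End V)) h
    exact Subtype.ext (eq_of_smul_eq_smul fun v : V => DFunLike.congr_fun h1 v)
  letI mV : Module (alg A V Z) V := Module.compHom V (alg A V Z).subtype
  refine @abStab_semilinear A V _ _ _ _ _ _ Z _ _ _ _ (alg A V Z) (algField hf) _ mV
    hA hVodd hmax hf ι hι (fun _ _ => rfl) σ hσ fun g k v => ?_
  change g • ((k : AddMonoid.End V) v) = g • ((k : AddMonoid.End V) (g⁻¹ • (g • v)))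
  rw [inv_smul_smul]

end Prim

end Cfsg.Lib.DerBound
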