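import Cfsg.Agent.DerBound.Blocks
import Cfsg.Agent.DerBound.OddPrim

/-!
In odd order and odd characteristic some vector has a commutative stabiliser.
-/

set_option autoImplicit false
set_option linter.unusedSectionVars false
set_option linter.style.haveILetI false

namespace Cfsg.Lib.DerBound

open Cfsg.Lib.OddBase

universe u

/-- The irreducible case. -/
theorem abStab_irr : ∀ (n : ℕ) (A V : Type u) [Group A] [Finite A] [AddCommGroup V] [Finite V]
    [DistribMulAction A V], Nat.card A < n → Odd (Nat.card A) → Odd (Nat.card V) → Nontrivial V →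
      Irr A V → AbStab A V := by
  intro n
  induction n with
  | zero => intro A V _ _ _ _ _ h; exact absurd h (Nat.not_lt_zero _)
  | succ n ih =>
  intro A V _ _ _ _ _ hn hA hVodd hnt hirr
  classical
  haveI : Group.IsSolvable A := Cfsg.Agent.S0205.result hA
  let π : A →* (AddMonoid.End V)ˣ := (act A V).toHomUnits
  by_cases hker : π.ker = ⊥
  · haveI : FaithfulSMul A V := ⟨fun {a b} h =>
      (MonoidHom.ker_eq_bot_iff π).1 hker (Units.ext (AddMonoidHom.ext h))⟩
    obtain ⟨Z, hZn, hZc, hmax⟩ := exists_maxAbelian (A := A)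
    haveI := hZn
    haveI := hZc
    by_cases hidem : ∀ e ∈ alg A V Z, e * e = e → e = 0 ∨ e = 1
    · exact abStab_primitive hA hVodd hirr hmax hidem
    push Not at hidem
    obtain ⟨e, he, hid, h0, h1⟩ := hidem
    obtain ⟨S⟩ := exists_sys hirr Z e he hid h0 h1
    haveI := S.nontrivial_W
    have hHodd : Odd (Nat.card S.H) := hA.of_dvd_nat S.H.card_subgroup_dvd_card
    have hWodd : Odd (Nat.card S.W) := hVodd.of_dvd_nat S.W.card_addSubgroup_dvd_card
    obtain ⟨w, hw, hstab⟩ := ih S.H S.W (lt_of_lt_of_le S.card_H_lt (Nat.lt_succ_iff.1 hn))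
      hHodd hWodd inferInstance (S.irr_W hirr)
    have hneg : ∀ h : S.H, h • w ≠ -w := by
      intro h hh
      have h2 : (h * h) • w = w := by rw [mul_smul, hh, smul_neg, hh, neg_neg]
      have h3 : w = -w := by
        rw [smul_eq_of_sq hHodd h w h2] at hh
        exact hh
      have h4 : 2 • w = 0 := by
        rw [two_nsmul]
        nth_rewrite 1 [h3]
        exact neg_add_cancel w
      rcases (Nat.dvd_prime Nat.prime_two).1 (addOrderOf_dvd_of_nsmul_eq_zero h4) with h5 | h5
      · exact hw (AddMonoid.addOrderOf_eq_one_iff.1 h5)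
      · have h6 : 2 ∣ Nat.card S.W := h5 ▸ addOrderOf_dvd_natCard w
        exact Nat.not_even_iff_odd.2 hWodd (even_iff_two_dvd.2 h6)
    obtain ⟨T, hT⟩ := regSet_transitive (below_all (Nat.card A)) (Nat.card S.Ω) A S.Ω le_rfl hA le_rfl
    let z : S.Ω → S.W := fun e => if e ∈ T then w else -w
    have hfix : ∀ a : A, a • S.vec z = S.vec z →
        (∀ e : S.Ω, a • e = e) ∧ ∀ e : S.Ω, S.loc a e • w = w := by
      intro a ha
      have hl := S.loc_smul_of_smul_vec a z z ha
      have hTinv : ∀ e : S.Ω, (a • e ∈ T ↔ e ∈ T) := by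
        intro e
        have := hl e
        by_cases h2 : e ∈ T <;> by_cases h3 : a • e ∈ T <;> simp only [z, h2, h3, if_true, if_false] at this ⊢
        · exact absurd this (hneg _)
        · exfalso
          rw [smul_neg] at this
          exact hneg _ (neg_eq_iff_eq_neg.1 this)
      have hblocks : ∀ e : S.Ω, a • e = e := hT a (Set.ext fun e => by
        rw [Set.mem_smul_set_iff_inv_smul_mem, ← hTinv, smul_inv_smul])
      refine ⟨hblocks, fun e => ?_⟩
      have := hl e
      rw [hblocks e] at this
      by_cases h2 : e ∈ T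
      · simp only [z, h2, if_true] at this; exact this
      · simp only [z, h2, if_false, smul_neg, neg_inj] at this; exact this
    refine ⟨S.vec z, ?_, fun a b ha hb => ?_⟩
    · intro h
      have h2 := S.proj_vec z S.base
      rw [h, map_zero] at h2
      have h3 : ((z S.base : S.W) : V) = 0 := (smul_eq_zero_iff_eq _).1 h2.symm
      have h4 : z S.base = 0 := Subtype.ext h3
      by_cases h5 : S.base ∈ T <;> simp [z, h5, hw] at h4
    obtain ⟨hab, hal⟩ := hfix a ha
    obtain ⟨hbb, hbl⟩ := hfix b hb
    set c := (b * a)⁻¹ * (a * b) with hc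
    have hcb : ∀ e : S.Ω, c • e = e := fun e => by
      rw [hc, mul_smul, inv_smul_eq_iff, mul_smul, mul_smul, hbb, hab, hbb]
    clear_value c
    intro x
    have key : c • x = x := by
      refine S.smul_eq_self_of_blocks c hcb (fun e u => ?_) x
      have h7 : S.loc (b * a) e * S.loc c e = S.loc (a * b) e := by
        have := S.loc_mul (b * a) c e
        rw [hcb, show b * a * c = a * b by rw [hc]; exact mul_inv_cancel_left _ _] at this
        exact this.symm
      rw [S.loc_mul, S.loc_mul, hab, hbb] at h7
      refine MulAction.injective (S.loc b e * S.loc a e) ?_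
      change (S.loc b e * S.loc a e) • S.loc c e • u = (S.loc b e * S.loc a e) • u
      rw [← mul_smul, h7, mul_smul, mul_smul]
      exact hstab _ _ (hal e) (hbl e) u
    rw [hc, mul_smul, inv_smul_eq_iff, mul_smul, mul_smul] at key
    exact key
  · let X := π.range
    haveI : Finite X := Finite.of_surjective _ π.rangeRestrict_surjective
    have hlt : Nat.card X < n := by
      refine lt_of_lt_of_le ?_ (Nat.lt_succ_iff.1 hn)
      rw [← π.ker.card_mul_index, ← Subgroup.index_ker π]
      exact lt_mul_of_one_lt_left (Nat.pos_of_ne_zero π.ker.index_ne_zero_of_finite)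
        ((Subgroup.one_lt_card_iff_ne_bot _).2 hker)
    have hXirr : Irr X V := fun U hU => hirr U fun a v hv => hU ⟨π a, a, rfl⟩ v hv
    obtain ⟨v, hv, hvs⟩ := ih X V hlt (hA.of_dvd_nat (Subgroup.card_range_dvd π)) hVodd hnt hXirr
    exact ⟨v, hv, fun a b ha hb x => hvs ⟨π a, a, rfl⟩ ⟨π b, b, rfl⟩ ha hb x⟩

end Cfsg.Lib.DerBound
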