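import Cfsg.Agent.DerBound.Profile

/-!
Finding several orbits with short stabilisers by counting, and orbit lengths that do not add up.
-/

set_option autoImplicit false
set_option linter.unusedSectionVars false
set_option linter.style.haveILetI false
set_option linter.unusedSimpArgs false

namespace Cfsg.Lib.DerBound

universe u

/-- All products of powers below those of a list. -/
def divList : List (ℕ × ℕ) → List ℕ
  | [] => [1]
  | (p, k) :: l => (List.range (k + 1)).flatMap fun i => (divList l).map (p ^ i * ·)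

/-- The product of a list of powers. -/
def prodList : List (ℕ × ℕ) → ℕ
  | [] => 1
  | (p, k) :: l => p ^ k * prodList l

theorem mem_divList : ∀ l : List (ℕ × ℕ), (∀ x ∈ l, x.1.Prime) → ∀ d, d ∣ prodList l → d ∈ divList l := by
  intro l
  induction l with
  | nil => intro _ d hd; simpa [divList, prodList] using hd
  | cons x l ih =>
    obtain ⟨p, k⟩ := x
    intro hp d hd
    obtain ⟨a, b, ha, hb, rfl⟩ := Nat.dvd_mul.1 hd
    obtain ⟨i, hi, rfl⟩ := (Nat.dvd_prime_pow (hp _ List.mem_cons_self)).1 ha
    rw [divList, List.mem_flatMap]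
    exact ⟨i, List.mem_range.2 (by omega), List.mem_map.2
      ⟨b, ih (fun y hy => hp y (List.mem_cons_of_mem _ hy)) b hb, rfl⟩⟩

/-- `m` is neither a divisor of the product nor a sum of two of them. -/
def noSplit (m : ℕ) (l : List (ℕ × ℕ)) : Bool :=
  (divList l).all fun x => x != m && (decide (m ≤ x) || prodList l % (m - x) != 0)

theorem noSplit_spec {m : ℕ} {l : List (ℕ × ℕ)} (hl : ∀ x ∈ l, x.1.Prime) (h : noSplit m l = true)
    {x : ℕ} (hx : x ∣ prodList l) : x ≠ m ∧ (x < m → ¬ (m - x) ∣ prodList l) := by
  have h1 := List.all_eq_true.1 h x (mem_divList l hl x hx)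
  simp only [Bool.and_eq_true, Bool.or_eq_true, bne_iff_ne, decide_eq_true_eq] at h1
  refine ⟨h1.1, fun hlt hd => ?_⟩
  rcases h1.2 with h2 | h2
  · omega
  · exact h2 (Nat.mod_eq_zero_of_dvd hd)

variable {A V : Type u} [Group A] [Finite A] [AddCommGroup V] [Finite V] [DistribMulAction A V]

/-- Orbit representatives inside a large set. -/
theorem exists_orbits (P : V → Prop) : ∀ k, (k - 1) * Nat.card A < Nat.card {v // P v} →
    ∃ f : Fin k → V, (∀ i, P (f i)) ∧ ∀ i j (g : A), g • f i = f j → i = j := by
  intro k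
  induction k with
  | zero => exact fun _ => ⟨Fin.elim0, fun i => i.elim0, fun i => i.elim0⟩
  | succ n ih =>
    intro h
    obtain ⟨f, hP, hf⟩ := ih (lt_of_le_of_lt (Nat.mul_le_mul_right _ (by omega)) h)
    obtain ⟨v, hv, hv'⟩ : ∃ v, P v ∧ ∀ i (g : A), g • f i ≠ v := by
      by_contra hc
      push Not at hc
      choose i g hg using fun v : {v // P v} => hc v.1 v.2
      have h1 : Nat.card {v // P v} ≤ Nat.card (Fin n × A) :=
        Nat.card_le_card_of_injective (fun v => (i v, g v)) fun v w he => by
          obtain ⟨e1, e2⟩ := Prod.ext_iff.1 he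
          refine Subtype.ext ((hg v).symm.trans (Eq.trans ?_ (hg w)))
          change i v = i w at e1
          change g v = g w at e2
          rw [e1, e2]
      rw [Nat.card_prod, Nat.card_fin] at h1
      rw [Nat.add_sub_cancel] at h
      omega
    refine ⟨Fin.cons v f, fun i => ?_, fun i j g => ?_⟩
    · induction i using Fin.cases with
      | zero => exact hv
      | succ i => exact hP i
    · induction i using Fin.cases with
      | zero =>
        induction j using Fin.cases with
        | zero => exact fun _ => rfl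
        | succ j =>
          simp only [Fin.cons_zero, Fin.cons_succ]
          exact fun he => absurd (inv_smul_eq_iff.2 he.symm) (hv' j g⁻¹)
      | succ i =>
        induction j using Fin.cases with
        | zero =>
          simp only [Fin.cons_zero, Fin.cons_succ]
          exact fun he => absurd he (hv' i g)
        | succ j =>
          simp only [Fin.cons_succ]
          exact fun he => congrArg Fin.succ (hf i j g he)

/-- Classes from a large set with short stabilisers. -/
theorem classes_of_big {k a : ℕ} (P : V → Prop) (hdl : ∀ v, P v → DL (MulAction.stabilizer A v) a)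
    (h : (k - 1) * Nat.card A < Nat.card {v // P v}) : Classes A V k a := by
  obtain ⟨f, hP, hf⟩ := exists_orbits P k h
  exact ⟨f, hf, fun i => hdl _ (hP i)⟩

/-- Two classes separated by an invariant property. -/
theorem classes_of_prop {a : ℕ} (P : V → Prop) (hinv : ∀ v (g : A), P v → P (g • v)) {v w : V}
    (hv : P v) (hw : ¬ P w) (hv' : DL (MulAction.stabilizer A v) a)
    (hw' : DL (MulAction.stabilizer A w) a) : Classes A V 2 a := by
  refine ⟨![v, w], fun i j g he => ?_, fun i => ?_⟩
  · fin_cases i <;> fin_cases j <;>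
      simp only [Fin.zero_eta, Fin.mk_one, Fin.reduceFinMk, Matrix.cons_val] at he ⊢ <;> first
      | rfl
      | (exfalso; apply hw; rw [← he]; exact hinv v g hv)
      | (exfalso; apply hw; rw [← inv_smul_eq_iff.2 he.symm]; exact hinv v g⁻¹ hv)
  · fin_cases i
    · exact hv'
    · exact hw'

/-- The zero vector and another one. -/
theorem classes_zero_nonzero [Nontrivial V] {a : ℕ} (h : DL A a) : Classes A V 2 a := by
  obtain ⟨v, hv⟩ := exists_ne (0 : V)
  refine classes_of_prop (· = 0) (fun x g hx => ?_) (v := 0) rfl hv (h.subgroup _) (h.subgroup _)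
  rw [show x = 0 from hx, smul_zero]

theorem card_orbit_dvd (v : V) : Nat.card (MulAction.orbit A v) ∣ Nat.card A := by
  rw [Nat.card_coe_set_eq, ← MulAction.index_stabilizer]
  exact Subgroup.index_dvd_card _

theorem card_nonzero : Nat.card {v : V // v ≠ 0} = Nat.card V - 1 := by
  classical
  haveI := Fintype.ofFinite V
  rw [Nat.card_eq_fintype_card, Fintype.card_subtype, Finset.filter_ne', Finset.card_erase_of_mem
    (Finset.mem_univ _), Finset.card_univ, Nat.card_eq_fintype_card]

/-- Non-zero vectors in two orbits when their number does not divide the order. -/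
theorem classes_two_nonzero [Nontrivial V] {a N : ℕ} (hN : Nat.card A ∣ N)
    (hno : ¬ (Nat.card V - 1) ∣ N) (hdl : ∀ v : V, v ≠ 0 → DL (MulAction.stabilizer A v) a) :
    Classes A V 2 a := by
  obtain ⟨v, hv⟩ := exists_ne (0 : V)
  by_cases hc : ∃ w : V, w ≠ 0 ∧ w ∉ MulAction.orbit A v
  · obtain ⟨w, hw, hwv⟩ := hc
    exact classes_of_prop (· ∈ MulAction.orbit A v)
      (fun x g hx => (MulAction.mem_orbit_of_mem_orbit g hx)) (MulAction.mem_orbit_self v) hwv
      (hdl v hv) (hdl w hw)
  · push Not at hc
    refine absurd ?_ hno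
    have he : MulAction.orbit A v = {w : V | w ≠ 0} := Set.ext fun w =>
      ⟨fun ⟨g, hg⟩ => hg ▸ fun h => hv ((smul_eq_zero_iff_eq g).1 h), hc w⟩
    have h1 := card_orbit_dvd (A := A) v
    rw [he] at h1
    exact (card_nonzero (V := V) ▸ h1).trans hN

/-- Non-zero vectors in three orbits when their number is no sum of two divisors of the order. -/
theorem classes_three_nonzero [Nontrivial V] {a : ℕ} {l : List (ℕ × ℕ)} (hl : ∀ x ∈ l, x.1.Prime)
    (hN : Nat.card A ∣ prodList l) {m : ℕ} (hm : Nat.card V - 1 = m) (hno : noSplit m l = true)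
    (hdl : ∀ v : V, v ≠ 0 → DL (MulAction.stabilizer A v) a) : Classes A V 3 a := by
  classical
  have hsub : ∀ u : V, u ≠ 0 → MulAction.orbit A u ⊆ {w : V | w ≠ 0} := fun u hu w ⟨g, hg⟩ =>
    hg ▸ fun h => hu ((smul_eq_zero_iff_eq g).1 h)
  have hS : ({w : V | w ≠ 0}).ncard = m := by
    rw [← Nat.card_coe_set_eq, ← hm, ← card_nonzero (V := V)]
    rfl
  have hdvd : ∀ u : V, (MulAction.orbit A u).ncard ∣ prodList l := fun u =>
    (Nat.card_coe_set_eq (MulAction.orbit A u) ▸ card_orbit_dvd (A := A) u).trans hN
  obtain ⟨v, hv⟩ := exists_ne (0 : V)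
  obtain ⟨h1, h2⟩ := noSplit_spec hl hno (hdvd v)
  have hlt : (MulAction.orbit A v).ncard < m :=
    lt_of_le_of_ne (hS ▸ Set.ncard_le_ncard (hsub v hv)) h1
  obtain ⟨w, hw, hwv⟩ : ∃ w : V, w ≠ 0 ∧ w ∉ MulAction.orbit A v := by
    by_contra hc
    push Not at hc
    have := Set.ncard_le_ncard (fun w (hw : w ∈ {w : V | w ≠ 0}) => hc w hw)
    omega
  obtain ⟨z, hz, hzv, hzw⟩ : ∃ z : V, z ≠ 0 ∧ z ∉ MulAction.orbit A v ∧ z ∉ MulAction.orbit A w := by
    by_contra hc
    push Not at hc
    refine h2 hlt ?_
    have he : MulAction.orbit A v ∪ MulAction.orbit A w = {w : V | w ≠ 0} :=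
      Set.Subset.antisymm (Set.union_subset (hsub v hv) (hsub w hw)) fun x hx =>
        or_iff_not_imp_left.2 (hc x hx)
    have hd : Disjoint (MulAction.orbit A v) (MulAction.orbit A w) := by
      rw [Set.disjoint_left]
      intro x hxv hxw
      exact hwv (MulAction.orbit_eq_iff.1 ((MulAction.orbit_eq_iff.2 hxw).symm.trans
        (MulAction.orbit_eq_iff.2 hxv)))
    have := Set.ncard_union_eq hd
    rw [he, hS] at this
    rw [show m - (MulAction.orbit A v).ncard = (MulAction.orbit A w).ncard by omega]
    exact hdvd w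
  refine ⟨![v, w, z], fun i j g he => ?_, fun i => ?_⟩
  · fin_cases i <;> fin_cases j <;>
      simp only [Fin.zero_eta, Fin.mk_one, Fin.reduceFinMk, Matrix.cons_val] at he ⊢ <;> first
      | rfl
      | (exfalso; apply hwv; rw [← he]; exact MulAction.mem_orbit v g)
      | (exfalso; apply hwv; rw [← inv_smul_eq_iff.2 he.symm]; exact MulAction.mem_orbit v g⁻¹)
      | (exfalso; apply hzv; rw [← he]; exact MulAction.mem_orbit v g)
      | (exfalso; apply hzv; rw [← inv_smul_eq_iff.2 he.symm]; exact MulAction.mem_orbit v g⁻¹)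
      | (exfalso; apply hzw; rw [← he]; exact MulAction.mem_orbit w g)
      | (exfalso; apply hzw; rw [← inv_smul_eq_iff.2 he.symm]; exact MulAction.mem_orbit w g⁻¹)
  · fin_cases i
    exacts [hdl v hv, hdl w hw, hdl z hz]

end Cfsg.Lib.DerBound
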