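import Cfsg.Agent.DerBound.PermSmall

/-!
Colourings of a primitive solvable permutation group: several classes with small stabilisers.
-/

set_option autoImplicit false
set_option linter.unusedSectionVars false
set_option linter.style.haveILetI false

namespace Cfsg.Lib.DerBound

universe u

/-- The elements preserving a colouring. -/
def colourStab (G : Type*) {α : Type*} [Group G] [MulAction G α] {k : ℕ} (c : α → Fin k) :
    Subgroup G where
  carrier := {g | ∀ x, c (g • x) = c x}
  one_mem' x := by rw [one_smul]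
  mul_mem' {g h} hg hh x := by rw [mul_smul, hg, hh]
  inv_mem' {g} hg x := by
    conv_rhs => rw [← smul_inv_smul g x, hg]

/-- `m` pairwise inequivalent colourings with `k` colours and stabilisers of derived length `b`. -/
def CClasses (G α : Type*) [Group G] [MulAction G α] (k m b : ℕ) : Prop :=
  ∃ c : Fin m → α → Fin k, (∀ i j (g : G), (∀ x, c j (g • x) = c i x) → i = j) ∧
    ∀ i, DL (colourStab G (c i)) b

variable {G : Type u} [Group G] [Finite G] [Group.IsSolvable G] {α : Type u} [MulAction G α]
  [FaithfulSMul G α] [Finite α]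

/-- The size of a colour class. -/
noncomputable def colCard {k : ℕ} (c : α → Fin k) (col : Fin k) : ℕ := Nat.card {x : α // c x = col}

theorem colCard_eq {k : ℕ} {c c' : α → Fin k} {g : G} (h : ∀ x, c' (g • x) = c x) (col : Fin k) :
    colCard c col = colCard c' col :=
  Nat.card_congr (Equiv.subtypeEquiv (MulAction.toPerm g) fun x => by
    rw [MulAction.toPerm_apply, h])

/-- The permutations preserving a pattern. -/
def patStab {n k : ℕ} (p : Fin n → Fin k) : Subgroup (Equiv.Perm (Fin n)) :=
  colourStab (Equiv.Perm (Fin n)) p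

theorem mem_patStab {n k : ℕ} {p : Fin n → Fin k} {s : Equiv.Perm (Fin n)} :
    s ∈ patStab p ↔ ∀ x, p (s x) = p x := Iff.rfl

theorem dl_patStab_one {n k : ℕ} (p : Fin n → Fin k)
    (h : ∀ s t : Equiv.Perm (Fin n), (∀ x, p (s x) = p x) → (∀ x, p (t x) = p x) → s * t = t * s) :
    DL (patStab p) 1 :=
  dl_of_comm fun a b => Subtype.ext (h a b a.2 b.2)

theorem dl_patStab_zero {n k : ℕ} (p : Fin n → Fin k)
    (h : ∀ s : Equiv.Perm (Fin n), (∀ x, p (s x) = p x) → s = 1) : DL (patStab p) 0 := by
  haveI : Subsingleton (patStab p) := ⟨fun a b => Subtype.ext ((h a a.2).trans (h b b.2).symm)⟩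
  exact dl_of_subsingleton 0

theorem dl_patStab_fix {n k : ℕ} (p : Fin (n + 1) → Fin k) (hn : n ≤ 3) (x : Fin (n + 1))
    (h : ∀ s : Equiv.Perm (Fin (n + 1)), (∀ y, p (s y) = p y) → s x = x) : DL (patStab p) 2 := by
  classical
  letI : MulAction (patStab p) {y : Fin (n + 1) // y ≠ x} :=
    { smul := fun s y => ⟨(s : Equiv.Perm (Fin (n + 1))) y.1, fun he => y.2 (by
        exact (s : Equiv.Perm (Fin (n + 1))).injective (he.trans (h s s.2).symm))⟩
      one_smul := fun y => rfl
      mul_smul := fun s t y => rfl }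
  refine DL.of_injective (MulAction.toPermHom (patStab p) {y : Fin (n + 1) // y ≠ x}) ?_
    (dl_perm_three ?_)
  · intro s t he
    refine Subtype.ext (Equiv.ext fun y => ?_)
    by_cases hy : y = x
    · rw [hy, h s s.2, h t t.2]
    · exact congrArg Subtype.val (Equiv.Perm.congr_fun he ⟨y, hy⟩)
  · rw [Nat.card_eq_fintype_card, Fintype.card_subtype_compl, Fintype.card_subtype_eq, Fintype.card_fin]
    omega

/-- Colourings transported from a few points. -/
theorem classes_fin {n k m b : ℕ} (e : α ≃ Fin n) (cs : Fin m → Fin n → Fin k)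
    (hdist : ∀ i j, (∀ col, (Finset.univ.filter fun x => cs i x = col).card =
      (Finset.univ.filter fun x => cs j x = col).card) → i = j)
    (hdl : ∀ i, DL (patStab (cs i)) b) : CClasses G α k m b := by
  classical
  refine ⟨fun i => cs i ∘ e, fun i j g hg => hdist i j fun col => ?_, fun i => ?_⟩
  · have key : ∀ i, colCard (cs i ∘ e) col = (Finset.univ.filter fun x => cs i x = col).card := by
      intro i
      rw [← Fintype.card_subtype, ← Nat.card_eq_fintype_card]
      exact Nat.card_congr (Equiv.subtypeEquiv e fun x => Iff.rfl)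
    rw [← key, ← key]
    exact colCard_eq hg col
  · let φ : colourStab G (cs i ∘ e) →* Equiv.Perm (Fin n) :=
      MonoidHom.mk' (fun g => (e.symm.trans (MulAction.toPerm (g : G))).trans e) fun g h =>
        Equiv.ext fun x => by simp [mul_smul]
    refine DL.of_injective (φ.codRestrict (patStab (cs i)) fun g y => ?_) ?_ (hdl i)
    · have := g.2 (e.symm y)
      simpa [φ] using this
    · intro g h he
      refine Subtype.ext (eq_of_smul_eq_smul fun x : α => ?_)
      have h1 := Equiv.Perm.congr_fun (congrArg Subtype.val he) (e x)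
      change e ((g : G) • e.symm (e x)) = e ((h : G) • e.symm (e x)) at h1
      rw [Equiv.symm_apply_apply] at h1
      exact e.injective h1

omit [Group.IsSolvable G] in
/-- A set of four points containing a base. -/
theorem exists_four {B : Finset α} (hB : B.card ≤ 4) (hn : 4 ≤ Nat.card α)
    (hreg : ∀ g : G, (∀ x ∈ B, g • x = x) → g = 1) :
    ∃ (T : Finset α) (_ : Fin 4 ≃ T), ∀ g : G, (∀ x ∈ T, g • x = x) → g = 1 := by
  classical
  haveI := Fintype.ofFinite α
  obtain ⟨T, hBT, -, hT⟩ := Finset.exists_subsuperset_card_eq (Finset.subset_univ B) hB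
    (by rw [Finset.card_univ, ← Nat.card_eq_fintype_card]; exact hn)
  exact ⟨T, (Finset.equivFinOfCardEq hT).symm, fun g hg => hreg g fun x hx => hg x (hBT hx)⟩

/-- The colouring given by a pattern on four points and a colour for the rest. -/
noncomputable def colP {k : ℕ} {T : Finset α} (e : Fin 4 ≃ T) (p : Fin 4 → Fin k) (ρ : Fin k)
    (x : α) : Fin k :=
  haveI := Classical.propDecidable (x ∈ T)
  if h : x ∈ T then p (e.symm ⟨x, h⟩) else ρ

theorem colP_card {k : ℕ} {T : Finset α} (e : Fin 4 ≃ T) (p : Fin 4 → Fin k) (ρ col : Fin k) :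
    colCard (colP e p ρ) col = (Finset.univ.filter fun i => p i = col).card +
      (if ρ = col then Nat.card α - 4 else 0) := by
  classical
  haveI := Fintype.ofFinite α
  have hT : T.card = 4 := by
    rw [← Fintype.card_coe, ← Fintype.card_congr e, Fintype.card_fin]
  rw [colCard, Nat.card_eq_fintype_card, Fintype.card_subtype]
  rw [← Finset.card_filter_add_card_filter_not (s := Finset.univ.filter fun x => colP e p ρ x = col)
    (fun x => x ∈ T), Finset.filter_filter, Finset.filter_filter]
  congr 1
  · refine (Finset.card_bij (fun i _ => (e i : α)) (fun i hi => ?_) (fun i _ j _ h => ?_)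
      fun x hx => ?_).symm
    · simp only [Finset.mem_filter, Finset.mem_univ, true_and] at hi ⊢
      refine ⟨?_, (e i).2⟩
      rw [colP, dif_pos (e i).2]
      simpa using hi
    · exact e.injective (Subtype.ext h)
    · simp only [Finset.mem_filter, Finset.mem_univ, true_and] at hx
      obtain ⟨h1, h2⟩ := hx
      refine ⟨e.symm ⟨x, h2⟩, ?_, by simp⟩
      rw [colP, dif_pos h2] at h1
      simpa using h1
  · by_cases hρ : ρ = col
    · have : (Finset.univ.filter fun x => colP e p ρ x = col ∧ ¬ x ∈ T) = Finset.univ \ T := by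
        ext x
        simp only [Finset.mem_filter, Finset.mem_univ, true_and, Finset.mem_sdiff]
        exact ⟨fun h => h.2, fun h => ⟨by rw [colP, dif_neg h, hρ], h⟩⟩
      rw [if_pos hρ, this, Finset.card_sdiff_of_subset (Finset.subset_univ T), Finset.card_univ, hT,
        Nat.card_eq_fintype_card]
    · rw [if_neg hρ, Finset.card_eq_zero, Finset.filter_eq_empty_iff]
      intro x _ h
      rw [colP, dif_neg h.2] at h
      exact hρ h.1

theorem colP_stab {k b : ℕ} {T : Finset α} (e : Fin 4 ≃ T)
    (hreg : ∀ g : G, (∀ x ∈ T, g • x = x) → g = 1) (p : Fin 4 → Fin k) (ρ : Fin k)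
    (hp : ∀ i, p i ≠ ρ) (h : DL (patStab p) b) : DL (colourStab G (colP e p ρ)) b := by
  classical
  have hmem : ∀ g : colourStab G (colP e p ρ), ∀ x ∈ T, (g : G) • x ∈ T := by
    intro g x hx
    by_contra hc
    have h1 := g.2 x
    rw [colP, dif_neg hc, colP, dif_pos hx] at h1
    exact hp _ h1.symm
  letI : MulAction (colourStab G (colP e p ρ)) T :=
    { smul := fun g x => ⟨(g : G) • (x : α), hmem g x x.2⟩
      one_smul := fun x => Subtype.ext (one_smul G (x : α))
      mul_smul := fun g h x => Subtype.ext (mul_smul (g : G) h (x : α)) }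
  let φ : colourStab G (colP e p ρ) →* Equiv.Perm (Fin 4) :=
    MonoidHom.mk' (fun g => (e.trans (MulAction.toPerm g)).trans e.symm) fun g h =>
      Equiv.ext fun x => by simp [mul_smul]
  refine DL.of_injective (φ.codRestrict (patStab p) fun g y => ?_) ?_ h
  · have h1 := g.2 (e y : α)
    rw [colP, dif_pos (hmem g _ (e y).2), colP, dif_pos (e y).2] at h1
    change p (e.symm (g • e y)) = p y
    simp only [Subtype.coe_eta, Equiv.symm_apply_apply] at h1
    exact h1
  · intro g g' he
    refine Subtype.ext ?_
    have h1 : (g : G)⁻¹ * g' = 1 := hreg _ fun x hx => by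
      have h2 := Equiv.Perm.congr_fun (congrArg Subtype.val he) (e.symm ⟨x, hx⟩)
      change e.symm (g • e (e.symm ⟨x, hx⟩)) = e.symm (g' • e (e.symm ⟨x, hx⟩)) at h2
      rw [Equiv.apply_symm_apply, e.symm.injective.eq_iff] at h2
      have h3 : (g : G) • x = (g' : G) • x := congrArg Subtype.val h2
      rw [mul_smul, ← h3, inv_smul_smul]
    exact inv_mul_eq_one.1 h1

/-- Five classes from five patterns. -/
theorem classes_pattern {k b : ℕ} {T : Finset α} (e : Fin 4 ≃ T)
    (hreg : ∀ g : G, (∀ x ∈ T, g • x = x) → g = 1) (p : Fin 5 → Fin 4 → Fin k) (ρ : Fin 5 → Fin k)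
    (hp : ∀ i j, p i j ≠ ρ i) (hdl : ∀ i, DL (patStab (p i)) b)
    (hdist : ∀ i j, (∀ col, (Finset.univ.filter fun x => p i x = col).card +
        (if ρ i = col then Nat.card α - 4 else 0) = (Finset.univ.filter fun x => p j x = col).card +
        (if ρ j = col then Nat.card α - 4 else 0)) → i = j) : CClasses G α k 5 b := by
  refine ⟨fun i => colP e (p i) (ρ i), fun i j g hg => hdist i j fun col => ?_,
    fun i => colP_stab e hreg (p i) (ρ i) (hp i) (hdl i)⟩
  rw [← colP_card e, ← colP_card e]
  exact colCard_eq hg col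

/-- Five or more points outside the pattern behave like five. -/
theorem dist_of_five {k : ℕ} {m : ℕ} (hm : 5 ≤ m) (p : Fin 4 → Fin k) (q : Fin 4 → Fin k)
    (ρ τ col : Fin k)
    (h : (Finset.univ.filter fun x => p x = col).card + (if ρ = col then m else 0) =
      (Finset.univ.filter fun x => q x = col).card + (if τ = col then m else 0)) :
    (Finset.univ.filter fun x => p x = col).card + (if ρ = col then 5 else 0) =
      (Finset.univ.filter fun x => q x = col).card + (if τ = col then 5 else 0) := by
  have h1 : (Finset.univ.filter fun x => p x = col).card ≤ 4 :=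
    (Finset.card_le_univ _).trans (by simp)
  have h2 : (Finset.univ.filter fun x => q x = col).card ≤ 4 :=
    (Finset.card_le_univ _).trans (by simp)
  split_ifs at h ⊢ <;> omega

/-- A solvable group of permutations of five points has index at least five. -/
theorem five_le_index_perm {β : Type u} [Finite β] (hβ : Nat.card β = 5)
    (P : Subgroup (Equiv.Perm β)) [Group.IsSolvable P] : 5 ≤ P.index := by
  classical
  haveI := Fintype.ofFinite β
  by_contra hlt
  haveI : Group.IsSolvable (Equiv.Perm (Equiv.Perm β ⧸ P)) := by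
    refine Cfsg.Lib.Presentations.isSolvable_of_card_lt_sixty _ _ rfl ?_
    rw [Nat.card_perm, ← Subgroup.index_eq_card]
    exact lt_of_le_of_lt (Nat.factorial_le (show P.index ≤ 4 by omega)) (by decide)
  let f := MulAction.toPermHom (Equiv.Perm β) (Equiv.Perm β ⧸ P)
  have hker : f.ker ≤ P := by
    intro g hg
    have h1 := Equiv.Perm.congr_fun (hg : f g = 1) (QuotientGroup.mk 1)
    change (QuotientGroup.mk (g * 1) : Equiv.Perm β ⧸ P) = QuotientGroup.mk 1 at h1
    rw [mul_one, QuotientGroup.eq, mul_one] at h1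
    exact inv_mem_iff.1 h1
  haveI : Group.IsSolvable f.ker := Group.isSolvable_of_isSolvable_injective (Subgroup.inclusion_injective hker)
  haveI : Group.IsSolvable (Equiv.Perm β) := by
    refine Group.isSolvable_of_ker_le_range f.ker.subtype f ?_
    rw [Subgroup.range_subtype]
  exact Equiv.Perm.not_isSolvable β (by rw [Cardinal.mk_fintype, ← Nat.card_eq_fintype_card, hβ]; norm_num) ‹_›

variable [Nontrivial α]

/-- Two colours. -/
theorem classes_two (hprim : MulAction.IsPreprimitive G α) :
    CClasses G α 2 5 3 ∨ CClasses G α 2 4 2 ∨ CClasses G α 2 3 1 := by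
  classical
  haveI := Fintype.ofFinite α
  set n := Nat.card α with hn
  have hn2 : 2 ≤ n := Finite.one_lt_card
  rcases (show n = 2 ∨ n = 3 ∨ 4 ≤ n by omega) with h | h | h
  · right; right
    exact classes_fin (Finite.equivFinOfCardEq h) ![![0, 0], ![0, 1], ![1, 1]] (by decide)
      fun i => dl_patStab_one _ (by revert i; decide +kernel)
  · right; left
    exact classes_fin (Finite.equivFinOfCardEq h) ![![0, 0, 0], ![0, 0, 1], ![0, 1, 1], ![1, 1, 1]]
      (by decide) fun i => ((dl_perm_three (α := Fin 3) (by simp)).subgroup _)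
  left
  suffices hT : ∃ T : Fin 5 → Finset α, Function.Injective (fun i => (T i).card) ∧
      ∀ i, ∀ K : Subgroup G, (∀ g ∈ K, ∀ x, (g • x ∈ T i ↔ x ∈ T i)) → DL K 3 by
    obtain ⟨T, hinj, hdl⟩ := hT
    let c : Fin 5 → α → Fin 2 := fun i x => if x ∈ T i then 0 else 1
    have hcard : ∀ i, colCard (c i) 0 = (T i).card := fun i => by
      rw [colCard, Nat.card_eq_fintype_card]
      exact Fintype.card_of_subtype _ fun x => by simp [c]
    refine ⟨c, fun i j g hg => hinj ?_, fun i => hdl i _ fun g hg x => ?_⟩
    · change (T i).card = (T j).card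
      rw [← hcard, ← hcard]
      exact colCard_eq hg 0
    · have h1 := hg x
      by_cases h2 : g • x ∈ T i <;> by_cases h3 : x ∈ T i <;> simp [c, h2, h3] at h1 ⊢
  rcases Nat.lt_or_ge n 8 with h8 | h8
  · -- at most seven points
    have hG : DL G 3 := dl_seven 7 le_rfl G α (by omega)
    have hex : ∀ i : Fin 5, ∃ T : Finset α, T.card = i := fun i => by
      obtain ⟨T, -, hT⟩ := Finset.exists_subset_card_eq (s := (Finset.univ : Finset α)) (n := i)
        (by rw [Finset.card_univ, ← Nat.card_eq_fintype_card]; omega)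
      exact ⟨T, hT⟩
    choose T hT using hex
    exact ⟨T, fun i j h => Fin.ext (by simpa [hT] using h), fun i K _ => hG.subgroup K⟩
  obtain ⟨B, hB, hreg⟩ := exists_base_four (G := G) hprim
  have hsup : ∀ (B : Finset α) (s : ℕ), B.card ≤ s → s ≤ n → ∃ T, B ⊆ T ∧ T.card = s := fun B s h1 h2 => by
    obtain ⟨T, hT1, -, hT2⟩ := Finset.exists_subsuperset_card_eq (Finset.subset_univ B) h1
      (by rw [Finset.card_univ, ← Nat.card_eq_fintype_card]; exact h2)
    exact ⟨T, hT1, hT2⟩
  have hset : ∀ (B T : Finset α), (∀ g : G, (∀ x ∈ B, g • x = x) → g = 1) → B ⊆ T → T.card ≤ 7 →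
      ∀ K : Subgroup G, (∀ g ∈ K, ∀ x, (g • x ∈ T ↔ x ∈ T)) → DL K 3 :=
    fun B T h1 h2 h3 K hK => dl_of_set B T h1 h2 h3 K fun g hg x hx => (hK g hg x).2 hx
  rcases Nat.lt_or_ge n 12 with h12 | h12
  · rcases Nat.lt_or_ge n 9 with h9 | h9
    · -- eight points
      obtain ⟨a, -⟩ := exists_pair_ne α
      have hex : ∀ i : Fin 4, ∃ T, B ⊆ T ∧ T.card = (i : ℕ) + 4 := fun i =>
        hsup B _ (by omega) (by omega)
      choose T hBT hT using hex
      refine ⟨Fin.cons {a} T, fun i j h => ?_, fun i K hK => ?_⟩
      · revert h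
        refine Fin.cases ?_ (fun i => ?_) i <;> refine Fin.cases ?_ (fun j => ?_) j <;>
          simp only [Fin.cons_zero, Fin.cons_succ, Finset.card_singleton, hT] <;> intro h <;>
          first | rfl | omega | exact congrArg Fin.succ (Fin.ext (by omega))
      · revert hK
        refine Fin.cases ?_ (fun i => ?_) i <;> simp only [Fin.cons_zero, Fin.cons_succ] <;> intro hK
        · refine dl_of_set (Finset.univ.erase a) (Finset.univ.erase a) (fun g hg => ?_)
            (Finset.Subset.refl _) ?_ K fun g hg x hx => ?_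
          · refine eq_of_smul_eq_smul fun x : α => ?_
            rw [one_smul]
            by_cases hx : x = a
            · subst hx
              by_contra hne
              have := hg (g • x) (Finset.mem_erase.2 ⟨hne, Finset.mem_univ _⟩)
              exact hne (MulAction.injective g this)
            · exact hg x (Finset.mem_erase.2 ⟨hx, Finset.mem_univ _⟩)
          · rw [Finset.card_erase_of_mem (Finset.mem_univ _), Finset.card_univ,
              ← Nat.card_eq_fintype_card]
            omega
          · refine Finset.mem_erase.2 ⟨fun he => (Finset.mem_erase.1 hx).1 ?_, Finset.mem_univ _⟩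
            simpa using (hK g hg x).1 (by simp [he])
        · exact hset B (T i) hreg (hBT i) (by rw [hT]; omega) K hK
    · -- nine to eleven points
      obtain ⟨B', hB', hreg'⟩ := exists_base_three (G := G) hprim h9 (by omega)
      have hex : ∀ i : Fin 5, ∃ T, B' ⊆ T ∧ T.card = (i : ℕ) + 3 := fun i =>
        hsup B' _ (by omega) (by omega)
      choose T hBT hT using hex
      exact ⟨T, fun i j h => Fin.ext (by simpa [hT] using h),
        fun i K hK => hset B' (T i) hreg' (hBT i) (by rw [hT]; omega) K hK⟩
  · -- twelve or more points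
    have hex : ∀ i : Fin 4, ∃ T, B ⊆ T ∧ T.card = (i : ℕ) + 4 := fun i =>
      hsup B _ (by omega) (by omega)
    choose T hBT hT using hex
    refine ⟨Fin.cons (T 0)ᶜ T, fun i j h => ?_, fun i K hK => ?_⟩
    · revert h
      have h0 : (T 0)ᶜ.card = n - 4 := by
        rw [Finset.card_compl, hT, hn, Nat.card_eq_fintype_card]; rfl
      refine Fin.cases ?_ (fun i => ?_) i <;> refine Fin.cases ?_ (fun j => ?_) j <;>
        simp only [Fin.cons_zero, Fin.cons_succ, hT, h0] <;> intro h <;>
        first | rfl | omega | exact congrArg Fin.succ (Fin.ext (by omega))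
    · revert hK
      refine Fin.cases ?_ (fun i => ?_) i <;> simp only [Fin.cons_zero, Fin.cons_succ] <;> intro hK
      · refine hset B (T 0) hreg (hBT 0) (by rw [hT]; omega) K fun g hg x => ?_
        have := hK g hg x
        simp only [Finset.mem_compl] at this
        exact not_iff_not.1 this
      · exact hset B (T i) hreg (hBT i) (by rw [hT]; omega) K hK

set_option maxHeartbeats 1000000 in
/-- Three colours. -/
theorem classes_three (hprim : MulAction.IsPreprimitive G α) : CClasses G α 3 5 2 := by
  have hn2 : 2 ≤ Nat.card α := Finite.one_lt_card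
  rcases (show Nat.card α = 2 ∨ Nat.card α = 3 ∨ 4 ≤ Nat.card α by omega) with h | h | h
  · exact classes_fin (Finite.equivFinOfCardEq h) ![![0, 0], ![0, 1], ![1, 1], ![0, 2], ![2, 2]]
      (by decide) fun i => ((dl_perm_three (α := Fin 2) (by simp)).subgroup _)
  · exact classes_fin (Finite.equivFinOfCardEq h)
      ![![0, 0, 0], ![0, 0, 1], ![0, 1, 1], ![0, 1, 2], ![2, 2, 1]]
      (by decide) fun i => ((dl_perm_three (α := Fin 3) (by simp)).subgroup _)
  obtain ⟨B, hB, hreg⟩ := exists_base_four (G := G) hprim
  obtain ⟨T, e, hT⟩ := exists_four hB h hreg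
  have hdl : ∀ p : Fin 4 → Fin 3, ((∀ s t : Equiv.Perm (Fin 4), (∀ x, p (s x) = p x) →
      (∀ x, p (t x) = p x) → s * t = t * s) ∨ (∀ s : Equiv.Perm (Fin 4), (∀ x, p (s x) = p x) → s 0 = 0) ∨
      (∀ s : Equiv.Perm (Fin 4), (∀ x, p (s x) = p x) → s 3 = 3)) → DL (patStab p) 2 := by
    rintro p (hc | hf | hf)
    · exact (dl_patStab_one p hc).mono (by omega)
    · exact dl_patStab_fix p le_rfl 0 hf
    · exact dl_patStab_fix p le_rfl 3 hf
  by_cases h2 : Nat.card α - 4 = 2
  · refine classes_pattern e hT
      ![![0, 1, 1, 1], ![0, 0, 0, 1], ![0, 2, 2, 2], ![0, 0, 0, 2], ![1, 2, 2, 2]] ![2, 2, 1, 1, 0]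
      (by decide) (fun i => hdl _ (by revert i; decide +kernel)) ?_
    rw [h2]; decide
  · refine classes_pattern e hT
      ![![0, 1, 1, 1], ![0, 0, 0, 1], ![0, 0, 1, 1], ![0, 0, 2, 2], ![1, 1, 2, 2]] ![2, 2, 2, 1, 0]
      (by decide) (fun i => hdl _ (by revert i; decide +kernel)) ?_
    intro i j hij
    rcases Nat.lt_or_ge (Nat.card α - 4) 5 with hm | hm
    · revert i j
      generalize Nat.card α - 4 = m at *
      interval_cases m <;> first | omega | decide
    · have h5 := fun col => dist_of_five hm _ _ _ _ col (hij col)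
      clear hij
      revert i j
      decide

set_option maxHeartbeats 1000000 in
/-- Four colours. -/
theorem classes_four (hprim : MulAction.IsPreprimitive G α) : CClasses G α 4 5 1 := by
  have hn2 : 2 ≤ Nat.card α := Finite.one_lt_card
  rcases (show Nat.card α = 2 ∨ Nat.card α = 3 ∨ 4 ≤ Nat.card α by omega) with h | h | h
  · exact classes_fin (Finite.equivFinOfCardEq h) ![![0, 1], ![0, 2], ![0, 3], ![1, 2], ![1, 3]]
      (by decide) fun i => dl_patStab_one _ (by revert i; decide +kernel)
  · exact classes_fin (Finite.equivFinOfCardEq h)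
      ![![0, 0, 1], ![0, 0, 2], ![0, 0, 3], ![1, 1, 2], ![1, 1, 3]]
      (by decide) fun i => dl_patStab_one _ (by revert i; decide +kernel)
  obtain ⟨B, hB, hreg⟩ := exists_base_four (G := G) hprim
  obtain ⟨T, e, hT⟩ := exists_four hB h hreg
  by_cases h2 : Nat.card α - 4 = 1 ∨ Nat.card α - 4 = 2
  · refine classes_pattern e hT
      ![![0, 0, 1, 1], ![0, 0, 1, 1], ![0, 0, 2, 2], ![1, 1, 2, 2], ![0, 1, 2, 2]] ![2, 3, 3, 3, 3]
      (by decide) (fun i => dl_patStab_one _ (by revert i; decide +kernel)) ?_
    rcases h2 with h2 | h2 <;> rw [h2] <;> decide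
  · refine classes_pattern e hT
      ![![0, 1, 2, 2], ![0, 1, 1, 2], ![0, 0, 1, 2], ![0, 1, 3, 3], ![0, 1, 1, 3]] ![3, 3, 3, 2, 2]
      (by decide) (fun i => dl_patStab_one _ (by revert i; decide +kernel)) ?_
    intro i j hij
    rcases Nat.lt_or_ge (Nat.card α - 4) 5 with hm | hm
    · revert i j
      generalize Nat.card α - 4 = m at *
      interval_cases m <;> first | omega | decide
    · have h5 := fun col => dist_of_five hm _ _ _ _ col (hij col)
      clear hij
      revert i j
      decide

/-- Five colours. -/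
theorem classes_five (hprim : MulAction.IsPreprimitive G α) : CClasses G α 5 5 0 := by
  have hn2 : 2 ≤ Nat.card α := Finite.one_lt_card
  rcases (show Nat.card α = 2 ∨ Nat.card α = 3 ∨ 4 ≤ Nat.card α by omega) with h | h | h
  · exact classes_fin (Finite.equivFinOfCardEq h) ![![0, 1], ![0, 2], ![0, 3], ![0, 4], ![1, 2]]
      (by decide) fun i => dl_patStab_zero _ (by revert i; decide +kernel)
  · exact classes_fin (Finite.equivFinOfCardEq h)
      ![![0, 1, 2], ![0, 1, 3], ![0, 1, 4], ![0, 2, 3], ![0, 2, 4]]
      (by decide) fun i => dl_patStab_zero _ (by revert i; decide +kernel)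
  obtain ⟨B, hB, hreg⟩ := exists_base_four (G := G) hprim
  obtain ⟨T, e, hT⟩ := exists_four hB h hreg
  by_cases h5 : Nat.card α = 5
  · haveI : Group.IsSolvable (MulAction.toPermHom G α).range :=
      Group.isSolvable_of_surjective (MulAction.toPermHom G α).rangeRestrict_surjective
    let P := (MulAction.toPermHom G α).range
    haveI := Fintype.ofFinite (Equiv.Perm α ⧸ P)
    have hi := five_le_index_perm h5 P
    rw [Subgroup.index_eq_card, Nat.card_eq_fintype_card] at hi
    let τ : Fin 5 → Equiv.Perm α := fun i =>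
      ((Fintype.equivFin (Equiv.Perm α ⧸ P)).symm (Fin.castLE hi i)).out
    let ee := Finite.equivFinOfCardEq h5
    refine ⟨fun i x => ee (τ i x), fun i j g hg => ?_, fun i => ?_⟩
    · have h1 : (τ j)⁻¹ * τ i ∈ P := ⟨g, Equiv.ext fun x => by
        change g • x = (τ j).symm (τ i x)
        rw [Equiv.eq_symm_apply]
        exact ee.injective (hg x)⟩
      have h2 : (QuotientGroup.mk (τ j) : Equiv.Perm α ⧸ P) = QuotientGroup.mk (τ i) :=
        QuotientGroup.eq.2 h1
      simp only [τ, QuotientGroup.out_eq'] at h2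
      exact (Fin.castLE_injective _ ((Fintype.equivFin _).symm.injective h2)).symm
    · haveI : Subsingleton (colourStab G fun x => ee (τ i x)) := ⟨fun g g' => Subtype.ext
        (eq_of_smul_eq_smul fun x : α => (τ i).injective (ee.injective ((g.2 x).trans (g'.2 x).symm)))⟩
      exact dl_of_subsingleton 0
  · refine classes_pattern e hT
      ![![0, 1, 2, 3], ![1, 2, 3, 4], ![2, 3, 4, 0], ![3, 4, 0, 1], ![4, 0, 1, 2]] ![4, 0, 1, 2, 3]
      (by decide) (fun i => dl_patStab_zero _ (by revert i; decide +kernel)) ?_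
    intro i j hij
    have hm1 : Nat.card α - 4 ≠ 1 := by omega
    rcases Nat.lt_or_ge (Nat.card α - 4) 5 with hm | hm
    · revert i j
      generalize Nat.card α - 4 = m at *
      interval_cases m <;> first | omega | decide
    · have h5 := fun col => dist_of_five hm _ _ _ _ col (hij col)
      clear hij
      revert i j
      decide

end Cfsg.Lib.DerBound
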