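import Cfsg.Agent.DerBound.PermStruct

/-!
Solvable groups on at most seven points, and stabilisers of sets containing a base.
-/

set_option autoImplicit false
set_option linter.unusedSectionVars false
set_option linter.style.haveILetI false

namespace Cfsg.Lib.DerBound

universe u

/-- A solvable group on at most seven points has derived length at most three. -/
theorem dl_seven : ∀ (n : ℕ), n ≤ 7 → ∀ (G α : Type u) [Group G] [Finite G] [Group.IsSolvable G]
    [MulAction G α] [FaithfulSMul G α] [Finite α], Nat.card α ≤ n → DL G 3 := by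
  intro n
  induction n using Nat.strong_induction_on with
  | _ n ih =>
  intro hn7 G α _ _ _ _ _ _ hα
  classical
  haveI := Fintype.ofFinite α
  let f : G →* Equiv.Perm α := MulAction.toPermHom G α
  have hf : Function.Injective f := MulAction.toPerm_injective
  by_cases h3 : Nat.card α ≤ 3
  · exact (DL.of_injective f hf (dl_perm_three h3)).mono (by omega)
  haveI : Nontrivial α := Finite.one_lt_card_iff_nontrivial.1 (by omega)
  by_cases htr : MulAction.IsPretransitive G α
  swap
  · let F : ∀ a : α, G →* Equiv.Perm (MulAction.orbit G a) := fun a => MulAction.toPermHom G _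
    haveI hFs : ∀ a, Group.IsSolvable (F a).range := fun a =>
      Group.isSolvable_of_surjective (F a).rangeRestrict_surjective
    have hR : ∀ a, DL (F a).range 3 := fun a => by
      have hlt : Nat.card (MulAction.orbit G a) < Nat.card α := by
        refine lt_of_le_of_ne (Nat.card_le_card_of_injective _ Subtype.val_injective) fun he => htr ?_
        have huniv : MulAction.orbit G a = Set.univ := by
          refine Set.eq_of_subset_of_ncard_le (Set.subset_univ _) ?_
          rw [Set.ncard_univ, ← he, Nat.card_coe_set_eq]
        exact (MulAction.isPretransitive_iff_base a).2 fun x => by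
          have : x ∈ MulAction.orbit G a := huniv ▸ Set.mem_univ x
          exact this
      exact ih (Nat.card (MulAction.orbit G a)) (lt_of_lt_of_le hlt hα) (by omega) _
        (MulAction.orbit G a) le_rfl
    refine DL.of_injective (MonoidHom.pi fun a => (F a).rangeRestrict) ?_ (dl_pi hR)
    rw [injective_iff_map_eq_one]
    intro g hg
    refine eq_of_smul_eq_smul fun x : α => ?_
    have h1 := Equiv.Perm.congr_fun (congrArg Subtype.val (congrFun hg x))
      (⟨x, MulAction.mem_orbit_self x⟩ : MulAction.orbit G x)
    exact (congrArg Subtype.val h1).trans (one_smul G x).symm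
  haveI := htr
  obtain ⟨a⟩ : Nonempty α := inferInstance
  by_cases hmax : IsCoatom (MulAction.stabilizer G a)
  · exact dl_primitive_small ((MulAction.isCoatom_stabilizer_iff_preprimitive G a).1 hmax) (by omega)
  have hidx : (MulAction.stabilizer G a).index = Nat.card α := by
    rw [MulAction.index_stabilizer, MulAction.orbit_eq_univ, Set.ncard_univ]
  have hne : MulAction.stabilizer G a ≠ ⊤ := fun h => by
    rw [h, Subgroup.index_top] at hidx; omega
  obtain ⟨M, hM, hle⟩ := (eq_top_or_exists_le_coatom (MulAction.stabilizer G a)).resolve_left hne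
  have hlt : MulAction.stabilizer G a < M := lt_of_le_of_ne hle fun h => hmax (h ▸ hM)
  have hrel := Subgroup.relIndex_mul_index hle
  have hb : 2 ≤ (MulAction.stabilizer G a).relIndex M := by
    have h0 : (MulAction.stabilizer G a).relIndex M ≠ 0 := Subgroup.index_ne_zero_of_finite
    have h1 : (MulAction.stabilizer G a).relIndex M ≠ 1 := fun h =>
      not_le_of_gt hlt (Subgroup.relIndex_eq_one.1 h)
    omega
  have ht : 2 ≤ M.index := Subgroup.one_lt_index_of_ne_top hM.1
  set b := (MulAction.stabilizer G a).relIndex M with hbdef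
  set t := M.index with htdef
  rw [hidx] at hrel
  have hg : ∀ x : α, ∃ g : G, g • a = x := MulAction.exists_smul_eq G a
  choose gg hgg using hg
  let q : α → G ⧸ M := fun x => QuotientGroup.mk (gg x)
  have hq : ∀ (g : G) (x : α), q (g • x) = g • q x := by
    intro g x
    change (QuotientGroup.mk (gg (g • x)) : G ⧸ M) = QuotientGroup.mk (g * gg x)
    rw [QuotientGroup.eq]
    apply hle
    rw [MulAction.mem_stabilizer_iff, mul_smul, mul_smul, hgg, inv_smul_eq_iff, hgg]
  let k : G →* Equiv.Perm (G ⧸ M) := MulAction.toPermHom G _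
  letI : ∀ c : G ⧸ M, MulAction k.ker {x : α // q x = c} := fun c =>
    { smul := fun g x => ⟨(g : G) • x.1, by
        rw [hq, x.2]; exact Equiv.Perm.congr_fun (g.2 : k g = 1) c⟩
      one_smul := fun x => Subtype.ext (one_smul G x.1)
      mul_smul := fun g h x => Subtype.ext (mul_smul (g : G) h x.1) }
  have hfib : ∀ c : G ⧸ M, Nat.card {x : α // q x = c} = b := by
    intro c
    have hsum : ∀ c' : G ⧸ M, Nat.card {x : α // q x = c'} = Nat.card {x : α // q x = c} := by
      intro c'
      obtain ⟨g, hgc⟩ := MulAction.exists_smul_eq G c' c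
      refine Nat.card_congr (Equiv.subtypeEquiv (MulAction.toPerm g) fun x => ?_)
      rw [MulAction.toPerm_apply, hq, ← hgc]
      exact (MulAction.injective g).eq_iff.symm
    haveI : Fintype (G ⧸ M) := Fintype.ofFinite _
    have h1 : Nat.card α = ∑ c' : G ⧸ M, Nat.card {x : α // q x = c'} := by
      rw [← Nat.card_sigma]
      exact (Nat.card_congr (Equiv.sigmaFiberEquiv q)).symm
    rw [Finset.sum_congr rfl (fun c' _ => hsum c'), Finset.sum_const, Finset.card_univ, smul_eq_mul,
      ← Nat.card_eq_fintype_card, ← Subgroup.index_eq_card, ← htdef, ← hrel] at h1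
    exact Nat.eq_of_mul_eq_mul_left (show 0 < t by omega) (h1.symm.trans (mul_comm b t))
  have hker : ∀ i : ℕ, (∀ c : G ⧸ M, DL (Equiv.Perm {x : α // q x = c}) i) → DL k.ker i := by
    intro i hi
    refine DL.of_injective (MonoidHom.pi fun c => MulAction.toPermHom k.ker {x : α // q x = c}) ?_
      (dl_pi hi)
    rw [injective_iff_map_eq_one]
    intro g hg
    refine Subtype.ext (eq_of_smul_eq_smul fun x : α => ?_)
    have h1 := Equiv.Perm.congr_fun (congrFun hg (q x)) (⟨x, rfl⟩ : {y : α // q y = q x})
    change (g : G) • x = (1 : G) • x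
    exact (congrArg Subtype.val h1).trans (one_smul G x).symm
  have hquo : Nat.card (G ⧸ M) = t := (Subgroup.index_eq_card M).symm
  rcases Nat.lt_or_ge b 3 with hb3 | hb3
  · have h1 := hker 1 fun c => dl_perm_two (by rw [hfib]; omega)
    have ht3 : t ≤ 3 := by nlinarith
    exact DL.extend k h1 (dl_perm_three (by omega))
  · have ht2 : t ≤ 2 := by nlinarith
    have hb4 : b ≤ 3 := by nlinarith
    have h1 := hker 2 fun c => dl_perm_three (by rw [hfib]; omega)
    exact DL.extend k h1 (dl_perm_two (by omega))

variable {G : Type u} [Group G] [Finite G] [Group.IsSolvable G] {α : Type u} [MulAction G α]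
  [FaithfulSMul G α] [Finite α]

/-- A group preserving a set of at most seven points that contains a base. -/
theorem dl_of_set (B T : Finset α) (hB : ∀ g : G, (∀ x ∈ B, g • x = x) → g = 1) (hBT : B ⊆ T)
    (hT : T.card ≤ 7) (K : Subgroup G) (hK : ∀ g ∈ K, ∀ x ∈ T, g • x ∈ T) : DL K 3 := by
  letI : MulAction K {x : α // x ∈ T} :=
    { smul := fun g x => ⟨(g : G) • x.1, hK g g.2 x.1 x.2⟩
      one_smul := fun x => Subtype.ext (one_smul G x.1)
      mul_smul := fun g h x => Subtype.ext (mul_smul (g : G) h x.1) }
  haveI : FaithfulSMul K {x : α // x ∈ T} := ⟨fun {g h} he => by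
    have h1 : (g : G)⁻¹ * h = 1 := hB _ fun x hx => by
      have h2 := congrArg Subtype.val (he ⟨x, hBT hx⟩)
      change (g : G) • x = (h : G) • x at h2
      rw [mul_smul, ← h2, inv_smul_smul]
    exact Subtype.ext (inv_mul_eq_one.1 h1)⟩
  exact dl_seven 7 le_rfl K {x : α // x ∈ T}
    (by rw [Nat.card_eq_fintype_card, Fintype.card_coe]; exact hT)

end Cfsg.Lib.DerBound
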