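import Cfsg.Agent.DerBound.Length
import Cfsg.Agent.SolvBase.Main
import Cfsg.Agent.S0547
import Cfsg.Agent.S0548

/-!
Primitive solvable permutation groups: bases, and solvable groups on at most seven points.
-/

set_option autoImplicit false
set_option linter.unusedSectionVars false
set_option linter.style.haveILetI false

namespace Cfsg.Lib.DerBound

open Cfsg.Lib.OddBase Cfsg.Lib.SolvBase

universe u

variable {G : Type u} [Group G] [Finite G] [Group.IsSolvable G] {α : Type*} [MulAction G α]
  [FaithfulSMul G α] [Finite α] [Nontrivial α]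

/-- The regular normal subgroup of a primitive solvable group. -/
theorem prim_data (hprim : MulAction.IsPreprimitive G α) (a : α) :
    ∃ M : Subgroup G, M.Normal ∧ IsMulCommutative M ∧ (∀ x y : M, (x : G) • a = (y : G) • a → x = y) ∧
      (∀ b : α, ∃ x : M, (x : G) • a = b) ∧ Nat.card M = Nat.card α ∧ IsPrimePow (Nat.card α) ∧
      (∀ g : G, g • a = a → (∀ x : M, g * x = x * g) → g = 1) ∧
      (∀ K : Subgroup G, K ≤ M → MulAction.stabilizer G a ≤ Subgroup.normalizer (K : Set G) →
        K = ⊥ ∨ K = M) := by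
  classical
  haveI := hprim
  haveI : Nonempty α := ⟨a⟩
  obtain ⟨b, hab⟩ := exists_ne a
  obtain ⟨g₀, hg₀⟩ := MulAction.exists_smul_eq G a b
  haveI : Nontrivial G := ⟨g₀, 1, fun h => hab (by rw [← hg₀, h, one_smul])⟩
  obtain ⟨M, -, hMn, hMne, hmin⟩ :=
    Cfsg.Lib.Coprime.exists_minimal_normal (G := G) (K := ⊤) inferInstance top_ne_bot
  haveI := hMn
  obtain ⟨htr, hst, p, d, hp, hd, hcα, hcM⟩ := Cfsg.Agent.S0547.result (G := G) (Ω := α) hprim M hMne hmin
  haveI := htr
  obtain ⟨-, hcent, hirr⟩ := Cfsg.Agent.S0548.result hprim M hMne hmin a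
  obtain ⟨hc, -⟩ := Cfsg.Lib.Coprime.minimal_normal_solvable (N := M) inferInstance hMne hmin
  refine ⟨M, hMn, hc, fun x y he => ?_, fun c => ?_, by rw [hcM, hcα],
    ⟨p, d, hp.prime, hd, hcα.symm⟩, fun g hg hgc => ?_, hirr⟩
  · have : y⁻¹ * x ∈ MulAction.stabilizer M a := by
      rw [MulAction.mem_stabilizer_iff, mul_smul, inv_smul_eq_iff]
      exact he
    rw [hst, Subgroup.mem_bot] at this
    exact (inv_mul_eq_one.1 this).symm
  · exact MulAction.exists_smul_eq M a c
  · have : g ∈ MulAction.stabilizer G a ⊓ Subgroup.centralizer (M : Set G) :=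
      ⟨hg, Subgroup.mem_centralizer_iff.2 fun x hx => (hgc ⟨x, hx⟩).symm⟩
    rwa [hcent, Subgroup.mem_bot] at this

omit [Finite α] [Nontrivial α] [Group.IsSolvable G] in
/-- An element fixing a point and the translate by `x` commutes with `x`. -/
theorem commute_of_fix (M : Subgroup G) [M.Normal] {a : α}
    (hinj : ∀ x y : M, (x : G) • a = (y : G) • a → x = y) {g : G} (hg : g • a = a) {x : M}
    (hx : g • (x : G) • a = (x : G) • a) : g * x = x * g := by
  have h1 : (g * x * g⁻¹) • a = (x : G) • a := by
    rw [mul_smul, mul_smul, inv_smul_eq_iff.2 hg.symm, hx]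
  have h2 := congrArg Subtype.val (hinj ⟨g * x * g⁻¹, Subgroup.Normal.conj_mem inferInstance _ x.2 g⟩ x h1)
  exact mul_inv_eq_iff_eq_mul.1 h2

/-- Three points suffice when the regular normal subgroup needs two generators. -/
theorem exists_base_three (hprim : MulAction.IsPreprimitive G α) (h9 : 9 ≤ Nat.card α)
    (h11 : Nat.card α ≤ 11) :
    ∃ B : Finset α, B.card ≤ 3 ∧ ∀ g : G, (∀ x ∈ B, g • x = x) → g = 1 := by
  classical
  obtain ⟨a, -⟩ := exists_pair_ne α
  obtain ⟨M, hMn, hMc, hinj, -, hcM, -, hfaith, -⟩ := prim_data (G := G) hprim a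
  haveI := hMn
  haveI : Nontrivial M := Finite.one_lt_card_iff_nontrivial.1 (by omega)
  obtain ⟨x, hx⟩ := exists_ne (1 : M)
  obtain ⟨y, hy⟩ : ∃ y : M, Subgroup.closure ({x, y} : Set M) = ⊤ := by
    by_cases htop : Subgroup.zpowers x = ⊤
    · exact ⟨x, top_unique (htop ▸ Subgroup.zpowers_le.2 (Subgroup.subset_closure (by simp)))⟩
    obtain ⟨y, hy⟩ : ∃ y, y ∉ Subgroup.zpowers x := by
      by_contra hc
      push Not at hc
      exact htop (top_unique fun z _ => hc z)
    refine ⟨y, Subgroup.eq_top_of_card_eq _ ?_⟩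
    set C := Subgroup.closure ({x, y} : Set M) with hC
    have hle : Subgroup.zpowers x ≤ C := Subgroup.zpowers_le.2 (Subgroup.subset_closure (by simp))
    have hlt : Nat.card (Subgroup.zpowers x) < Nat.card C := by
      refine lt_of_le_of_ne (Subgroup.card_le_of_le hle) fun he => hy ?_
      rw [Subgroup.eq_of_le_of_card_ge hle he.ge]
      exact Subgroup.subset_closure (by simp)
    have h1 : 1 < Nat.card (Subgroup.zpowers x) :=
      (Subgroup.one_lt_card_iff_ne_bot _).2 fun hb => hx (Subgroup.zpowers_eq_bot.1 hb)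
    have hd1 := Subgroup.card_dvd_of_le hle
    have hd2 := C.card_subgroup_dvd_card
    rw [hcM] at hd2 ⊢
    obtain ⟨k, hk⟩ := hd1
    rcases Nat.lt_or_ge k 2 with hk2 | hk2
    · interval_cases k <;> omega
    · have h4 : 4 ≤ Nat.card C := by rw [hk]; exact Nat.mul_le_mul (show 2 ≤ _ from h1) hk2
      obtain ⟨j, hj⟩ := hd2
      rcases Nat.lt_or_ge j 2 with hj2 | hj2
      · interval_cases j <;> omega
      · exfalso
        have : Nat.card C ≤ 5 := by nlinarith
        interval_cases Nat.card C
        · obtain ⟨i, hi⟩ : 4 ∣ Nat.card α := ⟨j, hj⟩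
          obtain ⟨hk', -⟩ : k = 2 ∧ Nat.card (Subgroup.zpowers x) = 2 := by
            constructor <;> nlinarith
          have hα : Nat.card α = 8 ∨ 12 ≤ Nat.card α := by omega
          omega
        · have : 2 ≤ Nat.card (Subgroup.zpowers x) := h1
          have : k ≤ 2 := by nlinarith
          interval_cases k
          omega
  refine ⟨{a, (x : G) • a, (y : G) • a}, Finset.card_le_three, fun g hg => ?_⟩
  have ha : g • a = a := hg a (by simp)
  refine hfaith g ha fun z => ?_
  have hz : z ∈ Subgroup.closure ({x, y} : Set M) := hy ▸ Subgroup.mem_top z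
  induction hz using Subgroup.closure_induction with
  | mem w hw =>
    rcases hw with rfl | rfl
    · exact commute_of_fix M hinj ha (hg _ (by simp))
    · exact commute_of_fix M hinj ha (hg _ (by simp))
  | one => simp
  | mul w w' _ _ h h' => rw [Subgroup.coe_mul, ← mul_assoc, h, mul_assoc, h', ← mul_assoc]
  | inv w _ h =>
    rw [Subgroup.coe_inv, eq_inv_mul_iff_mul_eq, ← mul_assoc, ← h, mul_inv_cancel_right]

/-- A base of at most four points. -/
theorem exists_base_four (hprim : MulAction.IsPreprimitive G α) :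
    ∃ B : Finset α, B.card ≤ 4 ∧ ∀ g : G, (∀ x ∈ B, g • x = x) → g = 1 := by
  classical
  obtain ⟨a, -⟩ := exists_pair_ne α
  obtain ⟨M, hMn, hMc, hinj, htr, -, -, hfaith, hirr⟩ := prim_data (G := G) hprim a
  haveI := hMn
  let H := MulAction.stabilizer G a
  letI : CommGroup M := { (inferInstance : Group M) with mul_comm := fun x y => hMc.is_comm.comm x y }
  let φ : H →* MulAut M := (MulAut.conjNormal : G →* MulAut M).comp H.subtype
  letI : DistribMulAction H (Additive M) :=
    { smul := fun h x => Additive.ofMul (φ h (Additive.toMul x))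
      one_smul := fun x => by
        change Additive.ofMul (φ 1 (Additive.toMul x)) = x
        rw [map_one]; rfl
      mul_smul := fun g h x => by
        change Additive.ofMul (φ (g * h) (Additive.toMul x)) =
          Additive.ofMul (φ g (φ h (Additive.toMul x)))
        rw [map_mul]; rfl
      smul_zero := fun h => congrArg Additive.ofMul (map_one (φ h))
      smul_add := fun h x y => congrArg Additive.ofMul (map_mul (φ h) _ _) }
  have hval : ∀ (h : H) (m : M), ((φ h m : M) : G) = (h : G) * m * (h : G)⁻¹ := fun h m =>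
    MulAut.conjNormal_apply _ _
  have hcr : CR H (Additive M) := cr_of_irr fun U hU => by
    let K : Subgroup G := (AddSubgroup.toSubgroup' U).map M.subtype
    have hK : ∀ h : G, h ∈ H → ∀ x ∈ K, h * x * h⁻¹ ∈ K := by
      rintro h hh _ ⟨m, hm, rfl⟩
      exact ⟨φ ⟨h, hh⟩ m, hU ⟨h, hh⟩ (Additive.ofMul m) hm, hval _ _⟩
    rcases hirr K (Subgroup.map_subtype_le _) (fun h hh => Subgroup.mem_normalizer_iff.2 fun x =>
      ⟨hK h hh x, fun hx => by
        have := hK h⁻¹ (inv_mem hh) _ hx
        simpa [mul_assoc] using this⟩) with hK0 | hK1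
    · left
      rw [eq_bot_iff]
      intro m hm
      have : ((Additive.toMul m : M) : G) ∈ K := ⟨Additive.toMul m, hm, rfl⟩
      rw [hK0, Subgroup.mem_bot] at this
      exact AddSubgroup.mem_bot.2 (Additive.toMul.injective (Subtype.ext this))
    · right
      rw [eq_top_iff]
      intro m _
      have : ((Additive.toMul m : M) : G) ∈ K := hK1.ge (Additive.toMul m).2
      obtain ⟨m', hm', he⟩ := this
      have he' : m' = Additive.toMul m := Subtype.ext he
      rw [he'] at hm'
      exact hm'
  obtain ⟨m₁, m₂, m₃, hm⟩ :=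
    below3_all (Nat.card H + 1) H (Additive M) (Nat.lt_succ_self _) inferInstance hcr
  let pt : Additive M → α := fun m => ((Additive.toMul m : M) : G) • a
  refine ⟨{a, pt m₁, pt m₂, pt m₃}, Finset.card_le_four, fun g hg => ?_⟩
  have h0 : g • a = a := hg a (by simp)
  let h : H := ⟨g, h0⟩
  have hfix : ∀ m : Additive M, g • pt m = pt m → h • m = m := by
    intro m hm'
    refine Additive.toMul.injective (hinj (φ h (Additive.toMul m)) (Additive.toMul m) ?_)
    rw [hval, mul_smul, mul_smul]
    change g • (((Additive.toMul m : M) : G) • (g⁻¹ • a)) = _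
    rw [inv_smul_eq_iff.2 h0.symm]
    exact hm'
  refine hfaith g h0 fun x => ?_
  have := congrArg (fun z : Additive M => ((Additive.toMul z : M) : G))
    (hm h (hfix _ (hg _ (by simp))) (hfix _ (hg _ (by simp))) (hfix _ (hg _ (by simp)))
      (Additive.ofMul x))
  change ((φ h x : M) : G) = x at this
  rw [hval, mul_inv_eq_iff_eq_mul] at this
  exact this

/-- The stabiliser of a point in a solvable primitive group of small degree. -/
theorem dl_primitive_small (hprim : MulAction.IsPreprimitive G α) (h7 : Nat.card α ≤ 7) :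
    DL G 3 := by
  classical
  obtain ⟨a, -⟩ := exists_pair_ne α
  obtain ⟨M, hMn, hMc, hinj, htr, hcM, hpp, hfaith, -⟩ := prim_data (G := G) hprim a
  haveI := hMn
  let H := MulAction.stabilizer G a
  have hM1 : DL M 1 := dl_of_comm fun x y => hMc.is_comm.comm x y
  have hdec : ∀ g : G, ∃ x : M, ((x : G))⁻¹ * g ∈ H := fun g => by
    obtain ⟨x, hx⟩ := htr (g • a)
    exact ⟨x, by rw [MulAction.mem_stabilizer_iff, mul_smul, inv_smul_eq_iff, hx]⟩
  have hquot : Function.Surjective ((QuotientGroup.mk' M).comp H.subtype) := by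
    intro q
    obtain ⟨g, rfl⟩ := QuotientGroup.mk_surjective q
    obtain ⟨x, hx⟩ := hdec g
    refine ⟨⟨_, hx⟩, ?_⟩
    change (QuotientGroup.mk ((x : G)⁻¹ * g) : G ⧸ M) = QuotientGroup.mk g
    rw [QuotientGroup.mk_mul, QuotientGroup.mk_inv, (QuotientGroup.eq_one_iff _).2 x.2, inv_one,
      one_mul]
  suffices hH : DL H 2 by
    have hk : DL (QuotientGroup.mk' M).ker 1 := by rw [QuotientGroup.ker_mk']; exact hM1
    exact DL.extend (QuotientGroup.mk' M) hk (DL.of_surjective _ hquot hH)
  by_cases hp : (Nat.card α).Prime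
  · refine (dl_of_comm fun g h => ?_).mono (by omega)
    haveI : Fact (Nat.card α).Prime := ⟨hp⟩
    haveI : IsCyclic M := isCyclic_of_prime_card hcM
    obtain ⟨m, hm⟩ := IsCyclic.exists_generator (α := M)
    let φ : H →* MulAut M := (MulAut.conjNormal : G →* MulAut M).comp H.subtype
    have hφ : Function.Injective φ := by
      rw [injective_iff_map_eq_one]
      intro k hk
      refine Subtype.ext (hfaith k k.2 fun x => ?_)
      have := congrArg Subtype.val (DFunLike.congr_fun hk x)
      change (MulAut.conjNormal (k : G) x : G) = x at this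
      rw [MulAut.conjNormal_apply, mul_inv_eq_iff_eq_mul] at this
      exact this
    apply hφ
    rw [map_mul, map_mul]
    obtain ⟨i, hi⟩ := Subgroup.mem_zpowers_iff.1 (hm (φ g m))
    obtain ⟨j, hj⟩ := Subgroup.mem_zpowers_iff.1 (hm (φ h m))
    refine MulEquiv.ext fun x => ?_
    obtain ⟨k, rfl⟩ := Subgroup.mem_zpowers_iff.1 (hm x)
    change φ g (φ h (m ^ k)) = φ h (φ g (m ^ k))
    rw [map_zpow (φ h), ← hj, map_zpow (φ g), map_zpow (φ g), ← hi, map_zpow (φ g), ← hi,
      map_zpow (φ h), map_zpow (φ h), ← hj, ← zpow_mul, ← zpow_mul, ← zpow_mul, ← zpow_mul]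
    congr 1
    ring
  · have h4 : Nat.card α ≤ 4 := by
      obtain ⟨p, k, hp', hk, hpk⟩ := hpp
      rw [← Nat.prime_iff] at hp'
      by_contra hc
      have h6 : Nat.card α = 6 := by
        interval_cases Nat.card α <;> first | rfl | omega | exact absurd (by norm_num) hp
      rw [h6] at hpk
      have h2 : p ≤ 6 := Nat.le_of_dvd (by norm_num) (hpk ▸ dvd_pow_self p hk.ne')
      have h3 : k ≤ 3 := by
        by_contra hk3
        have := Nat.pow_le_pow_left hp'.two_le k
        have := Nat.pow_le_pow_right (show 0 < 2 by norm_num) (show 4 ≤ k by omega)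
        omega
      interval_cases p <;> interval_cases k
      all_goals first | omega | (revert hp' hpk; decide)
    let β := {x : α // x ≠ a}
    letI : MulAction H β :=
      { smul := fun h x => ⟨(h : G) • x.1, fun he => x.2 (by
          have h1 : (h : G) • a = a := h.2
          exact MulAction.injective (h : G) (he.trans h1.symm))⟩
        one_smul := fun x => Subtype.ext (one_smul G x.1)
        mul_smul := fun g h x => Subtype.ext (mul_smul (g : G) h x.1) }
    haveI : FaithfulSMul H β := ⟨fun {g h} he => Subtype.ext (eq_of_smul_eq_smul fun x : α => by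
      by_cases hx : x = a
      · rw [hx, show (g : G) • a = a from g.2, show (h : G) • a = a from h.2]
      · exact congrArg Subtype.val (he ⟨x, hx⟩))⟩
    refine DL.of_injective (MulAction.toPermHom H β) MulAction.toPerm_injective (dl_perm_three ?_)
    haveI := Fintype.ofFinite α
    rw [Nat.card_eq_fintype_card, Fintype.card_subtype_compl, Fintype.card_subtype_eq,
      ← Nat.card_eq_fintype_card]
    omega

end Cfsg.Lib.DerBound
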