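import Cfsg.Agent.DerBound.Blocks
import Cfsg.Agent.DerBound.PermClasses

/-!
Orbit classes with short stabilisers, and their behaviour under induction from a primitive
system of imprimitivity.
-/

set_option autoImplicit false
set_option linter.unusedSectionVars false
set_option linter.style.haveILetI false

namespace Cfsg.Lib.DerBound

open Cfsg.Lib.OddBase

universe u

/-- `k` orbits whose stabilisers have derived length at most `a`. -/
def Classes (A V : Type*) [Group A] [AddCommGroup V] [DistribMulAction A V] (k a : ℕ) : Prop :=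
  ∃ f : Fin k → V, (∀ i j (g : A), g • f i = f j → i = j) ∧
    ∀ i, DL (MulAction.stabilizer A (f i)) a

/-- The invariant carried through systems of imprimitivity. -/
def Profile (A V : Type*) [Group A] [AddCommGroup V] [DistribMulAction A V] : Prop :=
  Classes A V 2 6 ∨ Classes A V 3 7 ∨ Classes A V 4 8 ∨ Classes A V 5 9

variable {A V : Type u} [Group A] [AddCommGroup V] [DistribMulAction A V]

theorem Classes.mono {k a a' : ℕ} (h : Classes A V k a) (ha : a ≤ a') : Classes A V k a' := by
  obtain ⟨f, hf, hdl⟩ := h
  exact ⟨f, hf, fun i => (hdl i).mono ha⟩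

theorem Profile.exists_vector (h : Profile A V) : ∃ v : V, DL (MulAction.stabilizer A v) 9 := by
  rcases h with ⟨f, -, h⟩ | ⟨f, -, h⟩ | ⟨f, -, h⟩ | ⟨f, -, h⟩
  · exact ⟨f 0, (h 0).mono (by norm_num)⟩
  · exact ⟨f 0, (h 0).mono (by norm_num)⟩
  · exact ⟨f 0, (h 0).mono (by norm_num)⟩
  · exact ⟨f 0, h 0⟩

/-- Classes through a surjection that is injective on the module. -/
theorem Classes.comap {B : Type u} [Group B] [DistribMulAction B V] (π : A →* B)
    (hπ : Function.Injective π) (hsmul : ∀ (g : A) (v : V), π g • v = g • v) {k a : ℕ}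
    (h : Classes B V k a) : Classes A V k a := by
  obtain ⟨f, hf, hdl⟩ := h
  refine ⟨f, fun i j g hg => hf i j (π g) (by rw [hsmul, hg]), fun i => ?_⟩
  refine DL.of_injective ((π.comp (MulAction.stabilizer A (f i)).subtype).codRestrict
    (MulAction.stabilizer B (f i)) fun g => ?_) (fun g g' he => Subtype.ext (hπ (congrArg Subtype.val he)))
    (hdl i)
  rw [MulAction.mem_stabilizer_iff, MonoidHom.comp_apply, hsmul]
  exact g.2

variable [Finite A] [Finite V] [FaithfulSMul A V]

/-- Classes on the base component and colourings of the blocks give classes on the module. -/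
theorem classes_of_sys (S : Sys A V) {X : Type u} [Group X] [DistribMulAction X S.W]
    [FaithfulSMul X S.W] (π : S.H →* X) (hπ : ∀ (h : S.H) (w : S.W), π h • w = h • w) {k a m b : ℕ}
    (hW : Classes X S.W k a)
    (hΩ : CClasses (MulAction.toPermHom A S.Ω).range S.Ω k m b) : Classes A V m (b + a) := by
  classical
  obtain ⟨f, hf, hfdl⟩ := hW
  obtain ⟨c, hc, hcdl⟩ := hΩ
  let ρ := MulAction.toPermHom A S.Ω
  refine ⟨fun i => S.vec fun e => f (c i e), fun i j g hg => ?_, fun i => ?_⟩
  · refine hc i j ⟨ρ g, g, rfl⟩ fun e => ?_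
    have h1 := S.loc_smul_of_smul_vec g _ _ hg e
    rw [← hπ] at h1
    exact (hf _ _ _ h1).symm
  · set T := MulAction.stabilizer A (S.vec fun e => f (c i e))
    have hloc : ∀ (g : T) (e : S.Ω), π (S.loc g e) • f (c i e) = f (c i ((g : A) • e)) := fun g e => by
      rw [hπ]
      exact S.loc_smul_of_smul_vec (g : A) _ _ g.2 e
    have hcol : ∀ (g : T) (e : S.Ω), c i ((g : A) • e) = c i e := fun g e =>
      (hf _ _ _ (hloc g e)).symm
    let q : T →* colourStab ρ.range (c i) :=
      (ρ.rangeRestrict.comp T.subtype).codRestrict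
        (colourStab ρ.range (c i)) fun g e => hcol g e
    have hfix : ∀ (g : q.ker) (e : S.Ω), ((g : T) : A) • e = e := fun g e => by
      have h1 : q (g : T) = 1 := g.2
      exact Equiv.Perm.congr_fun (congrArg (fun z : colourStab ρ.range (c i) => ((z : ρ.range) : Equiv.Perm S.Ω)) h1) e
    let θ : q.ker →* (∀ e : S.Ω, MulAction.stabilizer X (f (c i e))) :=
      MonoidHom.mk' (fun g e => ⟨π (S.loc ((g : T) : A) e), by
        rw [MulAction.mem_stabilizer_iff, hloc (g : T) e, hfix g e]⟩) fun g h => funext fun e =>
        Subtype.ext (by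
          change π (S.loc (((g : T) : A) * ((h : T) : A)) e) = _ * _
          rw [S.loc_mul, hfix h e, map_mul])
    have hθ : Function.Injective θ := by
      rw [injective_iff_map_eq_one]
      intro g hg
      refine Subtype.ext (Subtype.ext (eq_of_smul_eq_smul fun x : V => ?_))
      change ((g : T) : A) • x = (1 : A) • x
      rw [one_smul]
      refine S.smul_eq_self_of_blocks _ (hfix g) (fun e w => ?_) x
      rw [← hπ, show π (S.loc ((g : T) : A) e) = 1 from congrArg Subtype.val (congrFun hg e), one_smul]
    exact DL.extend q (DL.of_injective θ hθ (dl_pi fun e => hfdl (c i e))) (hcdl i)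

/-- The invariant passes through a primitive system. -/
theorem profile_of_sys [Group.IsSolvable A] (S : Sys A V) {X : Type u} [Group X]
    [DistribMulAction X S.W] [FaithfulSMul X S.W] (π : S.H →* X)
    (hπ : ∀ (h : S.H) (w : S.W), π h • w = h • w) (h : Profile X S.W) : Profile A V := by
  let ρ := MulAction.toPermHom A S.Ω
  haveI : Group.IsSolvable ρ.range := Group.isSolvable_of_surjective ρ.rangeRestrict_surjective
  have hprim : MulAction.IsPreprimitive ρ.range S.Ω := by
    let F : S.Ω →ₑ[⇑ρ.rangeRestrict] S.Ω := { toFun := id, map_smul' := fun _ _ => rfl }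
    exact MulAction.IsPreprimitive.of_surjective (f := F) Function.surjective_id
  rcases h with h | h | h | h
  · rcases classes_two hprim with hc | hc | hc
    · exact Or.inr (Or.inr (Or.inr (classes_of_sys S π hπ h hc)))
    · exact Or.inr (Or.inr (Or.inl (classes_of_sys S π hπ h hc)))
    · exact Or.inr (Or.inl (classes_of_sys S π hπ h hc))
  · exact Or.inr (Or.inr (Or.inr (classes_of_sys S π hπ h (classes_three hprim))))
  · exact Or.inr (Or.inr (Or.inr (classes_of_sys S π hπ h (classes_four hprim))))
  · exact Or.inr (Or.inr (Or.inr (classes_of_sys S π hπ h (classes_five hprim))))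

end Cfsg.Lib.DerBound
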