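import Cfsg.Agent.DerBound.Blocks
import Cfsg.Agent.DerBound.Length
import Cfsg.Agent.DerBound.SocleModule
import Cfsg.Agent.SolvBase.Main

/-!
The two shapes of an irreducible solvable linear group: a primitive system of imprimitivity, or a
semilinear structure over a maximal abelian normal subgroup.
-/

set_option autoImplicit false
set_option linter.unusedSectionVars false
set_option linter.style.haveILetI false

namespace Cfsg.Lib.DerBound

open Cfsg.Lib.OddBase

universe u

/-- The semilinear structure given by a maximal abelian normal subgroup. -/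
structure Semi (A V : Type u) [Group A] [AddCommGroup V] [DistribMulAction A V] where
  Z : Subgroup A
  normal : Z.Normal
  comm : IsMulCommutative Z
  maxAb : MaxAbelian Z
  K : Type u
  field : Field K
  finK : Finite K
  module : @Module K V field.toCommRing.toSemiring inferInstance
  field_prop : ∀ k ∈ alg A V Z, k ≠ 0 → ∃ l ∈ alg A V Z, k * l = 1
  ι : Z →* Kˣ
  ι_inj : Function.Injective ι
  ι_smul : ∀ (z : Z) (v : V), ((ι z : Kˣ) : K) • v = (z : A) • v
  σ : A →* RingAut K
  σ_ker : σ.ker = Subgroup.centralizer (Z : Set A)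
  semi : ∀ (g : A) (k : K) (v : V), g • (k • v) = σ g k • (g • v)

attribute [instance] Semi.normal Semi.comm Semi.field Semi.finK Semi.module

variable {A V : Type u} [Group A] [Finite A] [AddCommGroup V] [Finite V] [DistribMulAction A V]
  [FaithfulSMul A V]

/-- An irreducible group has a primitive system of imprimitivity or a semilinear structure. -/
theorem sys_or_semi [Nontrivial V] (hirr : Irr A V) : Nonempty (Sys A V) ∨ Nonempty (Semi A V) := by
  obtain ⟨Z, hZn, hZc, hmax⟩ := exists_maxAbelian (A := A)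
  haveI := hZn
  haveI := hZc
  by_cases hidem : ∀ e ∈ alg A V Z, e * e = e → e = 0 ∨ e = 1
  swap
  · push Not at hidem
    obtain ⟨e, he, hid, h0, h1⟩ := hidem
    exact Or.inl (exists_sys hirr Z e he hid h0 h1)
  right
  have hf := alg_field hirr hidem
  haveI : Finite (alg A V Z) := alg_finite
  have hinv : ∀ g : A, act A V g⁻¹ * act A V g = 1 := fun g => by
    rw [← map_mul, inv_mul_cancel, map_one]
  have hinv' : ∀ g : A, act A V g * act A V g⁻¹ = 1 := fun g => by
    rw [← map_mul, mul_inv_cancel, map_one]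
  let cj : A → alg A V Z →+* alg A V Z := fun g =>
    { toFun := fun k => ⟨act A V g * k * act A V g⁻¹, alg_conj g k.2⟩
      map_one' := Subtype.ext (by
        change act A V g * 1 * act A V g⁻¹ = 1
        rw [mul_one, hinv'])
      map_mul' := fun a b => Subtype.ext (by
        simp only [Subring.coe_mul]
        simp only [mul_assoc]
        rw [← mul_assoc (act A V g⁻¹) (act A V g), hinv, one_mul])
      map_zero' := Subtype.ext (by
        change act A V g * 0 * act A V g⁻¹ = 0
        rw [mul_zero, zero_mul])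
      map_add' := fun a b => Subtype.ext (by
        change act A V g * ((a : AddMonoid.End V) + b) * act A V g⁻¹ =
          act A V g * a * act A V g⁻¹ + act A V g * b * act A V g⁻¹
        rw [mul_add, add_mul]) }
  have hcj1 : ∀ k, cj 1 k = k := fun k => Subtype.ext (by
    change act A V 1 * (k : AddMonoid.End V) * act A V 1⁻¹ = k
    rw [inv_one, map_one, one_mul, mul_one])
  have hcjmul : ∀ g g' k, cj (g * g') k = cj g (cj g' k) := fun g g' k => Subtype.ext (by
    change act A V (g * g') * k * act A V (g * g')⁻¹ =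
      act A V g * (act A V g' * k * act A V g'⁻¹) * act A V g⁻¹
    rw [mul_inv_rev, map_mul, map_mul]
    simp only [mul_assoc])
  let σ : A →* RingAut (alg A V Z) := MonoidHom.mk'
    (fun g => RingEquiv.ofRingHom (cj g) (cj g⁻¹)
      (RingHom.ext fun k => by rw [RingHom.comp_apply, ← hcjmul, mul_inv_cancel, hcj1]; rfl)
      (RingHom.ext fun k => by rw [RingHom.comp_apply, ← hcjmul, inv_mul_cancel, hcj1]; rfl))
    (fun g g' => RingEquiv.ext fun k => hcjmul g g' k)
  have hσ : σ.ker = Subgroup.centralizer (Z : Set A) := by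
    ext g
    rw [MonoidHom.mem_ker, Subgroup.mem_centralizer_iff]
    constructor
    · intro h z hz
      have h1 : act A V g * act A V z * act A V g⁻¹ = act A V z :=
        congrArg Subtype.val (RingEquiv.congr_fun h ⟨act A V z, mem_alg hz⟩)
      rw [← map_mul, ← map_mul] at h1
      have h2 : g * z * g⁻¹ = z := eq_of_smul_eq_smul fun v : V => DFunLike.congr_fun h1 v
      rw [mul_inv_eq_iff_eq_mul] at h2
      exact h2.symm
    · intro h
      refine RingEquiv.ext fun k => Subtype.ext ?_
      change act A V g * k * act A V g⁻¹ = k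
      rw [commute_alg (Subgroup.mem_centralizer_iff.2 h) k.2, mul_assoc, hinv', mul_one]
  let ι : Z →* (alg A V Z)ˣ := MonoidHom.toHomUnits
    { toFun := fun z : Z => ⟨act A V (z : A), mem_alg z.2⟩
      map_one' := Subtype.ext (map_one (act A V))
      map_mul' := fun x y => Subtype.ext (map_mul (act A V) (x : A) (y : A)) }
  have hι : Function.Injective ι := by
    intro x y h
    have h1 : act A V (x : A) = act A V (y : A) := congrArg (fun t : (alg A V Z)ˣ => ((t : alg A V Z) : AddMonoid.End V)) h
    exact Subtype.ext (eq_of_smul_eq_smul fun v : V => DFunLike.congr_fun h1 v)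
  letI mV : Module (alg A V Z) V := Module.compHom V (alg A V Z).subtype
  exact ⟨{ Z := Z, normal := inferInstance, comm := inferInstance, maxAb := hmax, K := alg A V Z,
           field := algField hf, finK := inferInstance, module := mV, field_prop := hf, ι := ι,
           ι_inj := hι, ι_smul := fun _ _ => rfl, σ := σ, σ_ker := hσ,
           semi := fun g k v => by
             change g • ((k : AddMonoid.End V) v) = g • ((k : AddMonoid.End V) (g⁻¹ • (g • v)))
             rw [inv_smul_smul] }⟩

namespace Semi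

variable (D : Semi A V)

/-- The centraliser of `Z`. -/
abbrev C : Subgroup A := Subgroup.centralizer (D.Z : Set A)

/-- The socle over `Z`. -/
abbrev L : Subgroup A := socle D.Z D.C

theorem hcomm : ∀ g ∈ D.C, ∀ (k : D.K) (v : V), g • (k • v) = k • (g • v) := fun g hg k v => by
  rw [D.semi, show D.σ g = 1 from MonoidHom.mem_ker.1 (D.σ_ker ▸ hg)]
  rfl

theorem eq_one_of_fix {z : A} (hz : z ∈ D.Z) {v : V} (hv : v ≠ 0) (h : z • v = v) : z = 1 := by
  by_contra h1
  exact hv (eq_zero_of_smul_eq D.field_prop hz h1 h)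

/-- The order of the field is a power of the exponent of the module. -/
theorem exists_degree [Nontrivial V] {q n : ℕ} (hq : q.Prime) (hV : Nat.card V = q ^ n) :
    ∃ d : ℕ, d ≠ 0 ∧ Nat.card D.K = q ^ d ∧ d * Module.finrank D.K V = n ∧
      Nat.card D.σ.range ∣ d ∧ DL D.σ.range 1 ∧ (d = 1 → DL D.σ.range 0) := by
  obtain ⟨p, hchar⟩ := CharP.exists D.K
  have hp : p.Prime := CharP.char_is_prime D.K p
  haveI : Fact p.Prime := ⟨hp⟩
  letI : Algebra (ZMod p) D.K := ZMod.algebra D.K p
  set d := Module.finrank (ZMod p) D.K with hd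
  have hQd : Nat.card D.K = p ^ d := by
    rw [Module.natCard_eq_pow_finrank (K := ZMod p), Nat.card_zmod]
  have hd0 : d ≠ 0 := Module.finrank_pos.ne'
  have hVe : Nat.card V = p ^ (d * Module.finrank D.K V) := by
    rw [Module.natCard_eq_pow_finrank (K := D.K), hQd, ← pow_mul]
  have he0 : d * Module.finrank D.K V ≠ 0 := Nat.mul_ne_zero hd0 Module.finrank_pos.ne'
  have hpq : p = q := by
    have h1 : p ∣ q ^ n := by rw [← hV, hVe]; exact dvd_pow_self p he0
    exact (Nat.prime_dvd_prime_iff_eq hp hq).1 (hp.dvd_of_dvd_pow h1)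
  subst hpq
  let up : RingAut D.K →* (D.K ≃ₐ[ZMod p] D.K) := MonoidHom.mk'
    (fun f => AlgEquiv.ofRingEquiv (f := f)
      (fun x => RingHom.congr_fun (Subsingleton.elim (f.toRingHom.comp (algebraMap (ZMod p) D.K)) _) x))
    (fun f g => AlgEquiv.ext fun k => rfl)
  have hup : Function.Injective up := fun f g h => RingEquiv.ext fun k => AlgEquiv.congr_fun h k
  haveI : Finite (D.K ≃ₐ[ZMod p] D.K) := Finite.of_injective _ DFunLike.coe_injective
  have hcard : Nat.card D.σ.range ∣ d := by
    rw [hd, ← IsGalois.card_aut_eq_finrank]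
    exact Subgroup.card_dvd_of_injective (up.comp D.σ.range.subtype) (hup.comp Subtype.val_injective)
  refine ⟨d, hd0, hQd, (Nat.pow_right_injective hp.two_le (hVe.symm.trans hV)), hcard, ?_, fun h1 => ?_⟩
  · refine dl_of_comm fun a b => Subtype.ext (hup ?_)
    change up ((a : RingAut D.K) * b) = up ((b : RingAut D.K) * a)
    rw [map_mul, map_mul]
    obtain ⟨g, hg⟩ := IsCyclic.exists_generator (α := (D.K ≃ₐ[ZMod p] D.K))
    obtain ⟨i, hi⟩ := Subgroup.mem_zpowers_iff.1 (hg (up a))
    obtain ⟨j, hj⟩ := Subgroup.mem_zpowers_iff.1 (hg (up b))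
    rw [← hi, ← hj, zpow_mul_comm]
  · haveI : Finite D.σ.range := Finite.of_surjective _ D.σ.rangeRestrict_surjective
    haveI : Subsingleton D.σ.range := Finite.card_le_one_iff_subsingleton.1
      (Nat.le_of_dvd Nat.one_pos (h1 ▸ hcard))
    exact dl_of_subsingleton 0

theorem card_Z_dvd : Nat.card D.Z ∣ Nat.card D.K - 1 := by
  rw [← Nat.card_units]
  exact Subgroup.card_dvd_of_injective D.ι D.ι_inj

/-- The centraliser is the whole kernel: the trivial case. -/
theorem dl_of_le (hne : D.C ≤ D.Z) {δ : ℕ} (hδ : DL D.σ.range δ) : DL A (δ + 1) := by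
  refine DL.extend_range D.σ ?_ hδ
  rw [D.σ_ker]
  exact DL.of_le hne (dl_of_comm fun a b => D.comm.is_comm.comm a b)

theorem socle_dl [Group.IsSolvable A] : DL D.L 2 ∨ D.C ≤ D.Z := by
  by_cases hne : D.C ≤ D.Z
  · exact Or.inr hne
  left
  haveI : (D.Z.subgroupOf D.L).Normal := Subgroup.Normal.subgroupOf inferInstance D.L
  have h1 : ∀ a b : D.L, a * b * a⁻¹ * b⁻¹ ∈ D.Z.subgroupOf D.L := fun a b => by
    rw [Subgroup.mem_subgroupOf]
    exact socle_comm (Subgroup.commutator_mem_commutator a.2 b.2)
  refine DL.extend (a := 1) (b := 1) (QuotientGroup.mk' (D.Z.subgroupOf D.L)) ?_ (dl_of_comm ?_)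
  · rw [QuotientGroup.ker_mk']
    refine dl_of_comm fun a b => Subtype.ext (Subtype.ext ?_)
    change ((a : D.L) : A) * ((b : D.L) : A) = ((b : D.L) : A) * ((a : D.L) : A)
    exact congrArg Subtype.val (D.comm.is_comm.comm (⟨_, a.2⟩ : D.Z) ⟨_, b.2⟩)
  · intro x y
    obtain ⟨a, rfl⟩ := QuotientGroup.mk_surjective x
    obtain ⟨b, rfl⟩ := QuotientGroup.mk_surjective y
    rw [← QuotientGroup.mk_mul, ← QuotientGroup.mk_mul, QuotientGroup.eq]
    have h2 := h1 b⁻¹ a⁻¹
    simpa [mul_assoc] using h2

end Semi

end Cfsg.Lib.DerBound
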