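import Cfsg.Agent.DerBound.SemiData

/-!
Derived lengths and orders in the semilinear case, and the dimension divisibility.
-/

set_option autoImplicit false
set_option linter.unusedSectionVars false
set_option linter.style.haveILetI false

namespace Cfsg.Lib.DerBound

open Cfsg.Lib.OddBase Cfsg.Lib.SolvBase

universe u

variable {A V : Type u} [Group A] [Finite A] [AddCommGroup V] [Finite V] [DistribMulAction A V]
  [FaithfulSMul A V] [Group.IsSolvable A]

namespace Semi

variable (D : Semi A V) {r : ℕ}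

/-- The data of the socle. -/
theorem exists_data (hne : ¬ D.C ≤ D.Z) :
    ∃ (r : ℕ) (_ : SocMod A D.Z r), 2 ≤ r ∧ D.Z.relIndex D.L = r * r := by
  obtain ⟨r, hr⟩ := socle_index_square D.ι_inj D.maxAb hne
  obtain ⟨M⟩ := exists_socMod D.ι_inj D.maxAb hne hr
  refine ⟨r, M, ?_, hr⟩
  have h1 : r * r ≠ 1 := fun h =>
    not_le_of_gt (exists_socle hne) (Subgroup.relIndex_eq_one.1 (hr.trans h))
  have h0 : r * r ≠ 0 := hr ▸ Subgroup.index_ne_zero_of_finite
  rcases r with _ | _ | r <;> simp_all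

variable (M : SocMod A D.Z r)

/-- The image of the centraliser on the socle quotient. -/
abbrev XC : Subgroup M.X := D.C.map M.π

theorem ker_eq : M.π.ker ⊓ D.C = D.L := M.ker

theorem sigma_ker : D.σ.ker = D.C := D.σ_ker

theorem ker_comp : (M.π.comp D.C.subtype).ker = D.L.subgroupOf D.C := by
  ext g
  rw [MonoidHom.mem_ker, Subgroup.mem_subgroupOf]
  constructor
  · intro h
    exact (D.ker_eq M).le ⟨h, g.2⟩
  · intro h
    exact ((D.ker_eq M).ge h).1

theorem dl_group {δ s : ℕ} (hne : ¬ D.C ≤ D.Z) (hδ : DL D.σ.range δ) (hs : DL (D.XC M) s) :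
    DL A (δ + (s + 2)) := by
  refine DL.extend_range D.σ ?_ hδ
  rw [D.σ_ker]
  refine DL.extend_range (M.π.comp D.C.subtype) ?_ ?_
  · rw [D.ker_comp M]
    exact DL.of_injective (Subgroup.subgroupOfEquivOfLe (socle_le D.Z D.C)).toMonoidHom
      (Subgroup.subgroupOfEquivOfLe (socle_le D.Z D.C)).injective
      ((D.socle_dl).resolve_right hne)
  · rw [MonoidHom.range_comp, Subgroup.range_subtype]
    exact hs

/-- The stabiliser of a non-zero vector. -/
theorem dl_stab {δ s a : ℕ} {v : V} (hδ : DL D.σ.range δ) (hs : DL (D.XC M) s)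
    (hL : DL (MulAction.stabilizer A v ⊓ D.L : Subgroup A) a) :
    DL (MulAction.stabilizer A v) (δ + (s + a)) := by
  set S := MulAction.stabilizer A v
  refine DL.extend_range (D.σ.comp S.subtype) ?_ (DL.of_le ?_ hδ)
  swap
  · rintro _ ⟨g, rfl⟩; exact ⟨g, rfl⟩
  refine DL.extend_range (M.π.comp (S.subtype.comp (D.σ.comp S.subtype).ker.subtype)) ?_ ?_
  · set K := (D.σ.comp S.subtype).ker with hK
    have hmem : ∀ g : (M.π.comp (S.subtype.comp K.subtype)).ker,
        (((g : K) : S) : A) ∈ (S ⊓ D.L : Subgroup A) := fun g => by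
      have h1 : (((g : K) : S) : A) ∈ D.C := D.sigma_ker.le (g : K).2
      refine ⟨((g : K) : S).2, ?_⟩
      exact (D.ker_eq M).le ⟨g.2, h1⟩
    refine DL.of_injective ((S.subtype.comp (K.subtype.comp
      (M.π.comp (S.subtype.comp K.subtype)).ker.subtype)).codRestrict _ hmem) ?_ hL
    intro g h he
    exact Subtype.ext (Subtype.ext (Subtype.ext (congrArg (fun z : (S ⊓ D.L : Subgroup A) => (z : A)) he)))
  · refine DL.of_le ?_ hs
    rintro _ ⟨g, rfl⟩
    exact ⟨_, D.sigma_ker.le g.2, rfl⟩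

theorem dl_stab_socle {v : V} (hv : v ≠ 0) :
    DL (MulAction.stabilizer A v ⊓ D.L : Subgroup A) 1 := by
  refine dl_of_comm fun a b => Subtype.ext ?_
  have hz : (a : A) * b * (a : A)⁻¹ * (b : A)⁻¹ ∈ D.Z :=
    socle_comm (Subgroup.commutator_mem_commutator a.2.2 b.2.2)
  have hfix : ((a : A) * b * (a : A)⁻¹ * (b : A)⁻¹) • v = v := by
    have ha : (a : A) • v = v := a.2.1
    have hb : (b : A) • v = v := b.2.1
    rw [mul_smul, mul_smul, mul_smul, inv_smul_eq_iff.2 hb.symm, inv_smul_eq_iff.2 ha.symm, hb, ha]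
  have := D.eq_one_of_fix hz hv hfix
  rw [mul_inv_eq_one, mul_inv_eq_iff_eq_mul] at this
  exact this

/-- The stabiliser of any non-zero vector. -/
theorem dl_stab_any {δ s : ℕ} {v : V} (hv : v ≠ 0) (hδ : DL D.σ.range δ) (hs : DL (D.XC M) s) :
    DL (MulAction.stabilizer A v) (δ + (s + 1)) :=
  D.dl_stab M hδ hs (D.dl_stab_socle hv)

/-- A vector fixed by no non-trivial element of the socle. -/
def Free (v : V) : Prop := v ≠ 0 ∧ ∀ l ∈ D.L, l • v = v → l = 1

theorem dl_stab_free {δ s : ℕ} {v : V} (hv : D.Free v) (hδ : DL D.σ.range δ) (hs : DL (D.XC M) s) :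
    DL (MulAction.stabilizer A v) (δ + s) := by
  haveI : Subsingleton (MulAction.stabilizer A v ⊓ D.L : Subgroup A) := ⟨fun a b =>
    Subtype.ext ((hv.2 a a.2.2 a.2.1).trans (hv.2 b b.2.2 b.2.1).symm)⟩
  exact D.dl_stab M hδ hs (a := 0) (dl_of_subsingleton 0)

theorem free_smul {v : V} (hv : D.Free v) (g : A) : D.Free (g • v) := by
  refine ⟨fun h => hv.1 ((smul_eq_zero_iff_eq g).1 h), fun l hl h => ?_⟩
  have h1 : (g⁻¹ * l * g⁻¹⁻¹) • v = v := by
    rw [inv_inv, mul_smul, mul_smul, h, inv_smul_smul]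
  have h2 := hv.2 _ ((socle_normal D.Z D.C).conj_mem l hl g⁻¹) h1
  rw [inv_inv, mul_assoc, inv_mul_eq_one] at h2
  exact mul_eq_right.1 h2.symm

theorem card_eq (hr : D.Z.relIndex D.L = r * r) (hne : ¬ D.C ≤ D.Z) :
    Nat.card A = Nat.card D.σ.range * (Nat.card D.Z * (r * r) * Nat.card (D.XC M)) := by
  have h1 : Nat.card A = Nat.card D.σ.range * Nat.card D.C := by
    rw [← Subgroup.index_ker, D.sigma_ker, mul_comm, Subgroup.card_mul_index]
  have h2 : D.L.relIndex D.C = Nat.card (D.XC M) := by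
    rw [← D.ker_eq M, Subgroup.inf_relIndex_right, Subgroup.relIndex_ker]
  rw [h1, ← Subgroup.relIndex_bot_left D.C,
    ← Subgroup.relIndex_mul_relIndex ⊥ D.L D.C bot_le (socle_le _ _),
    ← Subgroup.relIndex_mul_relIndex ⊥ D.Z D.L bot_le (exists_socle hne).le,
    Subgroup.relIndex_bot_left, hr, h2]

theorem prime_dvd (hr : D.Z.relIndex D.L = r * r) (hne : ¬ D.C ≤ D.Z) {s : ℕ} (hs : s.Prime)
    (hsr : s ∣ r) : s ∣ Nat.card D.Z :=
  prime_dvd_card D.ι_inj D.maxAb hne s hs (hr ▸ hsr.mul_right r)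

theorem natCast_ne_zero (hr : D.Z.relIndex D.L = r * r) (hne : ¬ D.C ≤ D.Z) :
    (Nat.card D.Z : D.K) ≠ 0 ∧ (r : D.K) ≠ 0 := by
  obtain ⟨p, hchar⟩ := CharP.exists D.K
  have hp : p.Prime := CharP.char_is_prime D.K p
  haveI : Fact p.Prime := ⟨hp⟩
  letI : Algebra (ZMod p) D.K := ZMod.algebra D.K p
  have hQ : 2 ≤ Nat.card D.K := Finite.one_lt_card
  have hpz : ¬ p ∣ Nat.card D.Z := by
    intro h
    have h2 : p ∣ Nat.card D.K := by
      rw [Module.natCard_eq_pow_finrank (K := ZMod p), Nat.card_zmod]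
      exact dvd_pow_self p Module.finrank_pos.ne'
    have h3 := Nat.dvd_sub h2 (h.trans D.card_Z_dvd)
    rw [show Nat.card D.K - (Nat.card D.K - 1) = 1 by omega] at h3
    exact hp.ne_one (Nat.dvd_one.1 h3)
  refine ⟨fun h => hpz ((CharP.cast_eq_zero_iff D.K p _).1 h), fun h => hpz ?_⟩
  exact D.prime_dvd hr hne hp ((CharP.cast_eq_zero_iff D.K p _).1 h)

/-- The degree of the socle divides the dimension. -/
theorem dvd_finrank [Nontrivial V] (hr : D.Z.relIndex D.L = r * r) (hne : ¬ D.C ≤ D.Z) :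
    r ∣ Module.finrank D.K V := by
  classical
  haveI : (D.Z.subgroupOf D.L).Normal := Subgroup.Normal.subgroupOf inferInstance D.L
  haveI : Fintype (D.L ⧸ D.Z.subgroupOf D.L) := Fintype.ofFinite _
  haveI := Fintype.ofFinite D.L
  have hcard : Nat.card (D.L ⧸ D.Z.subgroupOf D.L) = r * r := by
    rw [← Subgroup.index_eq_card]; exact hr
  obtain ⟨hz0, hr0⟩ := D.natCast_ne_zero hr hne
  have hLcard : Fintype.card D.L = Nat.card D.Z * (r * r) := by
    rw [← Nat.card_eq_fintype_card, ← Subgroup.relIndex_bot_left D.L,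
      ← Subgroup.relIndex_mul_relIndex ⊥ D.Z D.L bot_le (exists_socle hne).le,
      Subgroup.relIndex_bot_left, hr]
  have hL0 : ((Fintype.card D.L : ℕ) : D.K) ≠ 0 := by
    rw [hLcard, Nat.cast_mul, Nat.cast_mul]
    exact mul_ne_zero hz0 (mul_ne_zero hr0 hr0)
  let T : D.L → Module.End D.K V := fun l =>
    { toFun := fun v => (l : A) • v
      map_add' := fun x y => smul_add _ x y
      map_smul' := fun k v => D.hcomm _ (socle_le _ _ l.2) k v }
  let Ω := D.L ⧸ D.Z.subgroupOf D.L
  let χ : Ω → (D.L →* D.K) := fun q => (Units.coeHom D.K).comp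
    (MonoidHom.mk' (fun m => form D.ι m q.out) fun m m' => form_mul_left D.ι m m' q.out)
  have hswap : ∀ (m : D.L) (q : Ω) (v : V),
      (m : A) • (q.out : A) • v = χ q m • (q.out : A) • (m : A) • v := fun m q v =>
    smul_swap D.ι_smul m q.out v
  have hχ : Function.Injective χ := by
    intro q q' h
    rw [← q.out_eq', ← q'.out_eq', QuotientGroup.eq, Subgroup.mem_subgroupOf]
    refine (socle_center D.maxAb hne).le
      ⟨(q.out⁻¹ * q'.out).2, Subgroup.mem_centralizer_iff.2 fun m hm => ?_⟩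
    refine (form_eq_one D.ι_inj ⟨m, hm⟩ _).1 ?_
    have h2 : form D.ι (⟨m, hm⟩ : D.L) q.out = form D.ι (⟨m, hm⟩ : D.L) q'.out :=
      Units.ext (DFunLike.congr_fun h _)
    have h3 := form_mul_right D.ι (⟨m, hm⟩ : D.L) q.out (q.out⁻¹ * q'.out)
    rw [mul_inv_cancel_left, ← h2] at h3
    exact left_eq_mul.1 h3
  let W : Submodule D.K (Module.End D.K V) :=
    { carrier := {f | ∀ (l : D.L) (v : V), f ((l : A) • v) = (l : A) • f v}
      zero_mem' := fun l v => by simp
      add_mem' := fun {f g} hf hg l v => by simp [hf l v, hg l v, smul_add]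
      smul_mem' := fun k f hf l v => by
        simp [hf l v, D.hcomm _ (socle_le _ _ l.2)] }
  let Φ : (Ω → W) →ₗ[D.K] Module.End D.K V :=
    { toFun := fun d => ∑ q, (d q : Module.End D.K V) * T q.out
      map_add' := fun x y => by simp [add_mul, Finset.sum_add_distrib]
      map_smul' := fun k x => by simp [Finset.smul_sum] }
  have hΦ : ∀ (d : Ω → W) (v : V),
      Φ d v = ∑ q, (d q : Module.End D.K V) ((q.out : A) • v) := fun d v => by
    simp [Φ, T, Module.End.mul_apply]
  have hinj : Function.Injective Φ := by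
    refine (injective_iff_map_eq_zero Φ).2 fun d hd => funext fun q₀ => Subtype.ext ?_
    refine LinearMap.ext fun w => ?_
    have hev : ∀ (m : D.L) (v : V), ∑ q, χ q m • (d q : Module.End D.K V) ((q.out : A) • v) = 0 := by
      intro m v
      have h0 : ∑ q, (d q : Module.End D.K V) ((q.out : A) • (m : A)⁻¹ • v) = 0 := by
        rw [← hΦ, hd, LinearMap.zero_apply]
      have h1 := congrArg ((m : A) • ·) h0
      simp only [smul_zero, Finset.smul_sum] at h1
      refine Eq.trans (Finset.sum_congr rfl fun q _ => ?_) h1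
      rw [← (d q).2 m, hswap m q, smul_inv_smul]
      exact ((d q : Module.End D.K V).map_smul _ _).symm
    have horth : ∀ q, ∑ m : D.L, χ q m * (χ q₀ m)⁻¹ = if q = q₀ then ((Fintype.card D.L : ℕ) : D.K) else 0 := by
      intro q
      let η : D.L →* D.K :=
        { toFun := fun m => χ q m * (χ q₀ m)⁻¹
          map_one' := by simp
          map_mul' := fun m m' => by simp [mul_inv_rev]; ring }
      have := sum_hom_units η
      change ∑ m : D.L, η m = _
      rw [this]
      by_cases hq : q = q₀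
      · subst hq
        rw [if_pos rfl, if_pos]
        refine MonoidHom.ext fun m => ?_
        change χ q m * (χ q m)⁻¹ = 1
        exact mul_inv_cancel₀ (Units.ne_zero _)
      · rw [if_neg hq, if_neg, Nat.cast_zero]
        intro h
        refine hq (hχ (MonoidHom.ext fun m => ?_))
        have h1 : χ q m * (χ q₀ m)⁻¹ = 1 := DFunLike.congr_fun h m
        exact (mul_inv_eq_one₀ (show χ q₀ m ≠ 0 from Units.ne_zero _)).1 h1
    obtain ⟨v, rfl⟩ : ∃ v, (q₀.out : A) • v = w := ⟨(q₀.out : A)⁻¹ • w, smul_inv_smul _ _⟩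
    have hsum : ∑ m : D.L, (χ q₀ m)⁻¹ • ∑ q, χ q m • (d q : Module.End D.K V) ((q.out : A) • v) = 0 := by
      simp [hev]
    simp only [Finset.smul_sum, smul_smul] at hsum
    rw [Finset.sum_comm] at hsum
    simp only [← Finset.sum_smul, mul_comm (χ q₀ _)⁻¹, horth, ite_smul, zero_smul] at hsum
    rw [Finset.sum_eq_single q₀ (fun x _ hx => if_neg hx) (by simp), if_pos rfl] at hsum
    rcases smul_eq_zero.1 hsum with h | h
    · exact absurd h hL0
    · simpa using h
  have hsurj : Function.Surjective Φ := by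
    intro f
    let c : D.K := ((Fintype.card D.L : ℕ) : D.K)⁻¹
    let d : Ω → W := fun q => ⟨c • ∑ l : D.L, T l * f * T q.out⁻¹ * T l⁻¹, fun m v => by
      simp only [LinearMap.smul_apply, LinearMap.coe_sum, Finset.sum_apply, Module.End.mul_apply]
      rw [D.hcomm _ (socle_le _ _ m.2), Finset.smul_sum (r := (m : A))]
      congr 1
      refine Fintype.sum_equiv (Equiv.mulLeft m⁻¹) _ _ fun l => ?_
      change (l : A) • f (((q.out⁻¹ : D.L) : A) • ((l⁻¹ : D.L) : A) • (m : A) • v) =
        (m : A) • ((m⁻¹ * l : D.L) : A) • f (((q.out⁻¹ : D.L) : A) • (((m⁻¹ * l)⁻¹ : D.L) : A) • v)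
      simp only [Subgroup.coe_mul, Subgroup.coe_inv, mul_inv_rev, inv_inv, mul_smul, smul_inv_smul]⟩
    refine ⟨d, LinearMap.ext fun v => ?_⟩
    rw [hΦ]
    have hq : ∀ q : Ω, (d q : Module.End D.K V) ((q.out : A) • v) =
        c • ∑ l : D.L, χ q l⁻¹ • (l : A) • f ((l : A)⁻¹ • v) := by
      intro q
      change (c • ∑ l : D.L, T l * f * T q.out⁻¹ * T l⁻¹) ((q.out : A) • v) = _
      simp only [LinearMap.smul_apply, LinearMap.coe_sum, Finset.sum_apply, Module.End.mul_apply]
      congr 1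
      refine Finset.sum_congr rfl fun l _ => ?_
      change (l : A) • f (((q.out⁻¹ : D.L) : A) • ((l⁻¹ : D.L) : A) • (q.out : A) • v) = _
      rw [hswap l⁻¹ q v, D.hcomm _ (socle_le _ _ (q.out⁻¹ : D.L).2)]
      simp only [Subgroup.coe_inv, inv_smul_smul]
      rw [f.map_smul, D.hcomm _ (socle_le _ _ l.2)]
    simp only [hq, ← Finset.smul_sum]
    rw [Finset.sum_comm]
    simp only [← Finset.sum_smul]
    have horth : ∀ l : D.L, ∑ q : Ω, χ q l = if (l : A) ∈ D.Z then ((r * r : ℕ) : D.K) else 0 := by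
      intro l
      have hker : D.Z.subgroupOf D.L ≤ (formHom D.ι l).ker := fun z hz => by
        change form D.ι l z = 1
        exact (form_eq_one D.ι_inj l z).2 (socle_central l.2 hz).symm
      let ψ : Ω →* D.K := (Units.coeHom D.K).comp (QuotientGroup.lift _ (formHom D.ι l) hker)
      have hψ : ∀ q : Ω, χ q l = ψ q := fun q => by
        conv_rhs => rw [← q.out_eq']
        rfl
      rw [Finset.sum_congr rfl fun q _ => hψ q, sum_hom_units ψ]
      by_cases hl : (l : A) ∈ D.Z
      · rw [if_pos hl, if_pos, ← Nat.card_eq_fintype_card, hcard]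
        refine MonoidHom.ext fun q => ?_
        rw [← hψ]
        change ((form D.ι l q.out : D.Kˣ) : D.K) = 1
        rw [(form_eq_one D.ι_inj l q.out).2 (socle_central q.out.2 hl), Units.val_one]
      · rw [if_neg hl, if_neg, Nat.cast_zero]
        intro h
        refine hl ((socle_center D.maxAb hne).le
          ⟨l.2, Subgroup.mem_centralizer_iff.2 fun m hm => ?_⟩)
        have h1 : ψ (QuotientGroup.mk ⟨m, hm⟩) = 1 := DFunLike.congr_fun h _
        exact ((form_eq_one D.ι_inj l ⟨m, hm⟩).1 (Units.ext h1)).symm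
    have hterm : ∀ l : D.L, (∑ q : Ω, χ q l⁻¹) • (l : A) • f ((l : A)⁻¹ • v) =
        if (l : A) ∈ D.Z then ((r * r : ℕ) : D.K) • f v else 0 := by
      intro l
      rw [horth]
      by_cases hl : (l : A) ∈ D.Z
      · rw [if_pos hl, if_pos (show ((l⁻¹ : D.L) : A) ∈ D.Z from inv_mem hl)]
        congr 1
        have h1 := D.ι_smul ⟨(l : A)⁻¹, inv_mem hl⟩ v
        simp only at h1
        rw [← h1, map_smul, D.hcomm _ (socle_le _ _ l.2), ← D.ι_smul ⟨(l : A), hl⟩, smul_smul,
          ← Units.val_mul, ← map_mul]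
        simp [show (⟨(l : A)⁻¹, inv_mem hl⟩ * ⟨(l : A), hl⟩ : D.Z) = 1 from Subtype.ext (inv_mul_cancel _)]
      · rw [if_neg hl, if_neg (show ((l⁻¹ : D.L) : A) ∉ D.Z from fun h => hl (inv_mem_iff.1 (show (l : A)⁻¹ ∈ D.Z from h))), zero_smul]
    simp only [hterm]
    rw [← Finset.sum_filter, Finset.sum_const, ← Nat.cast_smul_eq_nsmul D.K, smul_smul, smul_smul]
    have hZn : (Finset.univ.filter fun l : D.L => (l : A) ∈ D.Z).card = Nat.card D.Z := by
      rw [← Fintype.card_subtype, ← Nat.card_eq_fintype_card]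
      exact Nat.card_congr
        { toFun := fun l => ⟨l.1, l.2⟩
          invFun := fun z => ⟨⟨z, (exists_socle hne).le z.2⟩, z.2⟩
          left_inv := fun l => rfl
          right_inv := fun z => rfl }
    rw [hZn]
    have : c * ((Nat.card D.Z : ℕ) : D.K) * ((r * r : ℕ) : D.K) = 1 := by
      rw [mul_assoc, ← Nat.cast_mul, ← hLcard]
      exact inv_mul_cancel₀ hL0
    rw [this, one_smul]
  have h := (LinearEquiv.ofBijective Φ ⟨hinj, hsurj⟩).finrank_eq
  rw [Module.finrank_pi_fintype, Finset.sum_const, Finset.card_univ, smul_eq_mul,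
    Module.finrank_linearMap, ← Nat.card_eq_fintype_card, hcard] at h
  have h2 : r ^ 2 ∣ Module.finrank D.K V ^ 2 := by
    rw [pow_two, pow_two, ← h]
    exact Dvd.intro _ rfl
  exact (Nat.pow_dvd_pow_iff (by norm_num)).1 h2

/-- Some non-zero vector is fixed by a non-trivial element of the socle. -/
theorem exists_not_free [Nontrivial V] (hr : D.Z.relIndex D.L = r * r) (hne : ¬ D.C ≤ D.Z)
    (hr3 : 3 ≤ r) : ∃ v : V, v ≠ 0 ∧ ¬ D.Free v := by
  classical
  by_contra hall
  push Not at hall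
  obtain ⟨v, hv⟩ := exists_ne (0 : V)
  have hbot : ∀ w : V, w ≠ 0 → stabS D.Z w = ⊥ := fun w hw => by
    rw [eq_bot_iff]
    intro l hl
    exact Subgroup.mem_bot.2 (Subtype.ext ((hall w hw).2 l l.2 hl))
  obtain ⟨hD, hker⟩ := radical_cases D.ι_inj D.ι_smul D.hcomm D.maxAb hne hv
    (fun w hw => by rw [hbot w hw, hbot v hv])
  obtain ⟨hcard, -, -⟩ := card_chS_range D.ι_inj D.ι_smul D.maxAb hne hv
  have hS1 : Nat.card (stabS D.Z v) = 1 := by rw [hbot v hv, Subgroup.card_bot]
  rw [hS1] at hcard hD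
  have h1 := Subgroup.card_mul_index (chS D.ι v).ker
  rw [Subgroup.index_ker, hcard, mul_one] at h1
  have hL : Nat.card D.L = Nat.card D.Z * (r * r) := by
    rw [← Subgroup.relIndex_bot_left D.L,
      ← Subgroup.relIndex_mul_relIndex ⊥ D.Z D.L bot_le (exists_socle hne).le,
      Subgroup.relIndex_bot_left, hr]
  have hz : 0 < Nat.card D.Z := Nat.card_pos
  have h9 : Nat.card D.Z * 9 ≤ Nat.card D.Z * (r * r) :=
    Nat.mul_le_mul_left _ (Nat.mul_le_mul hr3 hr3)
  rw [mul_one] at hD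
  rcases hker with h | ⟨h, -⟩
  · rw [h, hD] at h1
    change Nat.card D.Z = Nat.card D.L at h1
    rw [hL] at h1
    omega
  · rw [h, hD] at h1
    change 4 * Nat.card D.Z = Nat.card D.L at h1
    rw [hL] at h1
    omega

end Semi

end Cfsg.Lib.DerBound
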